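import Groth.Agent.QDesc10.LFam
import Groth.Agent.EtLC12.AssocUnit
import Groth.Agent.FlatFun4.StalkDesc

/-!
# Being cartesian is local for flat covers
-/

set_option autoImplicit false
set_option backward.isDefEq.respectTransparency false
set_option backward.isDefEq.respectTransparency.types false
set_option linter.style.haveILetI false

universe v w u

open CategoryTheory CategoryTheory.Limits AlgebraicGeometry TopologicalSpace Opposite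

namespace Groth.Agent.QDesc10

open Groth.Agent.AModX
open Groth.Agent.EtLC12.AssocUnit (usec usec_comp bijective_usec_of_isOpenImmersion)

variable {S : Scheme.{u}} {𝒳 : BasedCategory.{v, w} (Over S)} (F : StMod.Mod 𝒳) {ξ'' ξ' ξ : 𝒳.obj}

/-- The adjoint of a comparison map. -/
noncomputable abbrev theta (φ : ξ' ⟶ ξ) :
    (Scheme.Modules.pullback (StMod.bmap 𝒳 φ)).obj (F.obj ξ) ⟶ F.obj ξ' :=
  ((Scheme.Modules.pullbackPushforwardAdjunction (StMod.bmap 𝒳 φ)).homEquiv (F.obj ξ) (F.obj ξ')).symm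
    (F.map φ rfl)

variable {F}

theorem theta_usec (φ : ξ' ⟶ ξ) (U : (StMod.sch 𝒳 ξ).Opens) (x : Γ(F.obj ξ, U)) :
    (theta F φ).app (StMod.bmap 𝒳 φ ⁻¹ᵁ U) (usec (StMod.bmap 𝒳 φ) (F.obj ξ) U x) = tra F φ le_rfl x := by
  have h : F.map φ rfl = (Scheme.Modules.pullbackPushforwardAdjunction (StMod.bmap 𝒳 φ)).unit.app (F.obj ξ) ≫
      (Scheme.Modules.pushforward (StMod.bmap 𝒳 φ)).map (theta F φ) :=
    ((Equiv.apply_symm_apply _ _).symm).trans (Adjunction.homEquiv_unit _ _ _ _)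
  rw [tra, AddMonoidHom.comp_apply, res_self]
  exact (congrArg (fun f : F.obj ξ ⟶ (Scheme.Modules.pushforward (StMod.bmap 𝒳 φ)).obj (F.obj ξ') => f.app U x) h).symm

theorem pullHom_ext {X Y : Scheme.{u}} (f : X ⟶ Y) {M : Y.Modules} {N : X.Modules}
    {a b : (Scheme.Modules.pullback f).obj M ⟶ N}
    (h : ∀ (U : Y.Opens) (x : Γ(M, U)), a.app (f ⁻¹ᵁ U) (usec f M U x) = b.app (f ⁻¹ᵁ U) (usec f M U x)) : a = b := by
  apply ((Scheme.Modules.pullbackPushforwardAdjunction f).homEquiv _ _).injective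
  rw [Adjunction.homEquiv_unit, Adjunction.homEquiv_unit]
  refine Scheme.Modules.hom_ext _ _ fun U => ?_
  ext x
  exact h U x

theorem comp_theta (ψ : ξ'' ⟶ ξ') (φ : ξ' ⟶ ξ) :
    ((Scheme.Modules.pullback (StMod.bmap 𝒳 ψ)).map (theta F φ)) ≫ theta F ψ =
      ((Scheme.Modules.pullbackComp (StMod.bmap 𝒳 ψ) (StMod.bmap 𝒳 φ)).app (F.obj ξ)).hom ≫
        (Scheme.Modules.pullbackCongr (StMod.bmap_comp ψ φ).symm).hom.app (F.obj ξ) ≫ theta F (ψ ≫ φ) := by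
  refine pullHom_ext _ fun V y => ?_
  revert y
  suffices H : (Scheme.Modules.pullbackPushforwardAdjunction (StMod.bmap 𝒳 φ)).homEquiv _ _
      ((Scheme.Modules.pullbackPushforwardAdjunction (StMod.bmap 𝒳 ψ)).homEquiv _ _
        ((Scheme.Modules.pullback (StMod.bmap 𝒳 ψ)).map (theta F φ) ≫ theta F ψ)) =
      (Scheme.Modules.pullbackPushforwardAdjunction (StMod.bmap 𝒳 φ)).homEquiv _ _
      ((Scheme.Modules.pullbackPushforwardAdjunction (StMod.bmap 𝒳 ψ)).homEquiv _ _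
        (((Scheme.Modules.pullbackComp (StMod.bmap 𝒳 ψ) (StMod.bmap 𝒳 φ)).app (F.obj ξ)).hom ≫
        (Scheme.Modules.pullbackCongr (StMod.bmap_comp ψ φ).symm).hom.app (F.obj ξ) ≫ theta F (ψ ≫ φ))) by
    intro y
    rw [((Scheme.Modules.pullbackPushforwardAdjunction (StMod.bmap 𝒳 ψ)).homEquiv _ _).injective
      (((Scheme.Modules.pullbackPushforwardAdjunction (StMod.bmap 𝒳 φ)).homEquiv _ _).injective H)]
  rw [Adjunction.homEquiv_unit, Adjunction.homEquiv_unit, Adjunction.homEquiv_unit, Adjunction.homEquiv_unit]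
  refine Scheme.Modules.hom_ext _ _ fun U => ?_
  ext x
  show (theta F ψ).app (StMod.bmap 𝒳 ψ ⁻¹ᵁ (StMod.bmap 𝒳 φ ⁻¹ᵁ U))
      (((Scheme.Modules.pullback (StMod.bmap 𝒳 ψ)).map (theta F φ)).app _
        (usec (StMod.bmap 𝒳 ψ) _ (StMod.bmap 𝒳 φ ⁻¹ᵁ U) (usec (StMod.bmap 𝒳 φ) (F.obj ξ) U x))) =
    (theta F (ψ ≫ φ)).app _ (((Scheme.Modules.pullbackCongr (StMod.bmap_comp ψ φ).symm).hom.app (F.obj ξ)).app _
      (((Scheme.Modules.pullbackComp (StMod.bmap 𝒳 ψ) (StMod.bmap 𝒳 φ)).hom.app (F.obj ξ)).app _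
        (usec (StMod.bmap 𝒳 ψ) _ (StMod.bmap 𝒳 φ ⁻¹ᵁ U) (usec (StMod.bmap 𝒳 φ) (F.obj ξ) U x))))
  rw [usec_comp]
  have h1 : ∀ (y : Γ((Scheme.Modules.pullback (StMod.bmap 𝒳 φ)).obj (F.obj ξ), StMod.bmap 𝒳 φ ⁻¹ᵁ U)),
      ((Scheme.Modules.pullback (StMod.bmap 𝒳 ψ)).map (theta F φ)).app _ (usec (StMod.bmap 𝒳 ψ) _ _ y) =
        usec (StMod.bmap 𝒳 ψ) _ _ ((theta F φ).app _ y) := fun y =>
    (congrArg (fun t : _ ⟶ (Scheme.Modules.pushforward (StMod.bmap 𝒳 ψ)).obj _ => t.app _ y)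
      ((Scheme.Modules.pullbackPushforwardAdjunction (StMod.bmap 𝒳 ψ)).unit.naturality (theta F φ))).symm
  rw [h1, theta_usec, theta_usec]
  have k0 : StMod.bmap 𝒳 (ψ ≫ φ) ⁻¹ᵁ U = StMod.bmap 𝒳 ψ ⁻¹ᵁ (StMod.bmap 𝒳 φ ⁻¹ᵁ U) := by
    rw [StMod.bmap_comp]; rfl
  have h2 : ∀ {g g' : StMod.sch 𝒳 ξ'' ⟶ StMod.sch 𝒳 ξ} (e : g = g') (le : g ⁻¹ᵁ U ≤ g' ⁻¹ᵁ U),
      ((Scheme.Modules.pullbackCongr e).hom.app (F.obj ξ)).app (g ⁻¹ᵁ U) (usec g (F.obj ξ) U x) =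
        res _ le (usec g' (F.obj ξ) U x) := by
    intro g g' e le; subst e; exact (res_self _).symm
  erw [h2 (StMod.bmap_comp ψ φ).symm (by rw [StMod.bmap_comp]), app_res, theta_usec, res_tra]
  exact tra_comp ψ φ le_rfl le_rfl k0.ge x

theorem isIso_pullback_theta (ψ : ξ'' ⟶ ξ') (φ : ξ' ⟶ ξ) (h₁ : IsIso (theta F ψ))
    (h₂ : IsIso (theta F (ψ ≫ φ))) :
    IsIso ((Scheme.Modules.pullback (StMod.bmap 𝒳 ψ)).map (theta F φ)) := by
  haveI : IsIso ((Scheme.Modules.pullback (StMod.bmap 𝒳 ψ)).map (theta F φ) ≫ theta F ψ) := by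
    rw [comp_theta]; infer_instance
  exact IsIso.of_isIso_comp_right _ (theta F ψ)

theorem isCartesian_of_theta (h : ∀ {ξ' ξ : 𝒳.obj} (φ : ξ' ⟶ ξ), IsIso (theta F φ)) : F.IsCartesian := by
  intro ξ' ξ φ g hg
  subst hg
  exact h φ

/-- A comparison is an isomorphism if it is one after a flat cover. -/
theorem isIso_theta_of_cover (φ : ξ' ⟶ ξ) {ι : Type*} (z : ι → 𝒳.obj) (a : ∀ i, z i ⟶ ξ')
    (hfl : ∀ i, Flat (StMod.bmap 𝒳 (a i))) (hcov : ∀ x, ∃ i y, StMod.bmap 𝒳 (a i) y = x)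
    (h₁ : ∀ i, IsIso (theta F (a i))) (h₂ : ∀ i, IsIso (theta F (a i ≫ φ))) : IsIso (theta F φ) := by
  haveI := hfl
  exact FlatFun4.isIso_of_family (theta F φ) (fun i => StMod.bmap 𝒳 (a i)) hcov
    fun i => isIso_pullback_theta (a i) φ (h₁ i) (h₂ i)

/-- Transport along an open immersion is bijective inside its range. -/
theorem bijective_tra_of_isOpenImmersion (hc : F.IsCartesian) (φ : ξ' ⟶ ξ)
    [IsOpenImmersion (StMod.bmap 𝒳 φ)] (U : (StMod.sch 𝒳 ξ).Opens) (hU : U ≤ (StMod.bmap 𝒳 φ).opensRange) :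
    Function.Bijective (tra F φ (U := U) (U' := StMod.bmap 𝒳 φ ⁻¹ᵁ U) le_rfl) := by
  haveI : IsIso (theta F φ) := hc φ rfl
  have h := (ConcreteCategory.bijective_of_isIso ((theta F φ).app (StMod.bmap 𝒳 φ ⁻¹ᵁ U))).comp
    (bijective_usec_of_isOpenImmersion (StMod.bmap 𝒳 φ) (F.obj ξ) U hU)
  have e : (fun x => tra F φ (U := U) (U' := StMod.bmap 𝒳 φ ⁻¹ᵁ U) le_rfl x) =
      ⇑(ConcreteCategory.hom ((theta F φ).app (StMod.bmap 𝒳 φ ⁻¹ᵁ U))) ∘ usec (StMod.bmap 𝒳 φ) (F.obj ξ) U :=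
    funext fun x => (theta_usec φ U x).symm
  show Function.Bijective fun x => tra F φ (U := U) (U' := StMod.bmap 𝒳 φ ⁻¹ᵁ U) le_rfl x
  rw [e]
  exact h

/-- Flat lifts with affine schemes over an affine open, finitely many. -/
theorem exists_affine_lifts (h : FibCat.IsFibGrpd 𝒳.p) {R : Sieve (𝒳.p.obj ξ)} (hR : QCov _ R)
    {W : (StMod.sch 𝒳 ξ).Opens} (hW : IsAffineOpen W) :
    ∃ (κ : Type) (_ : Finite κ) (z : κ → 𝒳.obj) (a : ∀ k, z k ⟶ ξ), (∀ k, R (𝒳.p.map (a k))) ∧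
      (∀ k, IsAffine (StMod.sch 𝒳 (z k))) ∧ (∀ k, Flat (StMod.bmap 𝒳 (a k))) ∧
      (∀ k (y : StMod.sch 𝒳 (z k)), StMod.bmap 𝒳 (a k) y ∈ W) ∧
      ∀ x ∈ W, ∃ k y, StMod.bmap 𝒳 (a k) y = x := by
  obtain ⟨K⟩ := hR.exists_fam hW
  let f : ∀ k, Over.mk ((K.A k).ι ≫ (K.f k).left ≫ (𝒳.p.obj ξ).hom) ⟶ 𝒳.p.obj ξ :=
    fun k => Over.homMk ((K.A k).ι ≫ (K.f k).left) (Category.assoc _ _ _)
  choose z a e he using fun k => exists_lift h (x := ξ) (f k)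
  have hb : ∀ k, StMod.bmap 𝒳 (a k) = (eqToHom (e k)).left ≫ (K.A k).ι ≫ (K.f k).left := fun k => by
    show (𝒳.p.map (a k)).left = _
    rw [he k, Over.comp_left]
    rfl
  haveI : ∀ k, IsIso (eqToHom (e k)).left :=
    fun k => inferInstanceAs (IsIso ((Over.forget S).map (eqToHom (e k))))
  refine ⟨K.κ, inferInstance, z, a, fun k => ?_, fun k => ?_, fun k => ?_, fun k y => ?_, fun x hx => ?_⟩
  · rw [he k]
    refine R.downward_closed ?_ _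
    rw [show f k = Over.homMk (K.A k).ι (by
      show (K.A k).ι ≫ (K.V k).hom = (K.A k).ι ≫ (K.f k).left ≫ (𝒳.p.obj ξ).hom
      exact congrArg _ (Over.w (K.f k)).symm) ≫ K.f k from rfl]
    exact R.downward_closed (K.mem k) _
  · haveI : IsAffine (Over.mk ((K.A k).ι ≫ (K.f k).left ≫ (𝒳.p.obj ξ).hom)).left := K.affine k
    exact .of_isIso (eqToHom (e k)).left
  · haveI := K.flat k
    rw [hb k]; infer_instance
  · rw [hb k]
    exact K.le k ((eqToHom (e k)).left y).2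
  · obtain ⟨k, p, hp, hpx⟩ := K.cover x hx
    obtain ⟨y, hy⟩ := (eqToHom (e k)).left.homeomorph.surjective ⟨p, hp⟩
    refine ⟨k, y, ?_⟩
    rw [hb k]
    exact (congrArg (fun t => (K.f k).left ((K.A k).ι t)) hy).trans hpx

/-- Flat lifts in a covering sieve covering the whole scheme. -/
theorem exists_flat_cover (h : FibCat.IsFibGrpd 𝒳.p) {R : Sieve (𝒳.p.obj ξ)} (hR : QCov _ R) :
    ∃ (ι : Type u) (z : ι → 𝒳.obj) (a : ∀ i, z i ⟶ ξ), (∀ i, R (𝒳.p.map (a i))) ∧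
      (∀ i, Flat (StMod.bmap 𝒳 (a i))) ∧ ∀ x, ∃ i y, StMod.bmap 𝒳 (a i) y = x := by
  choose W hW hxW hle using fun x : StMod.sch 𝒳 ξ =>
    exists_isAffineOpen_mem_and_subset (x := x) (U := ⊤) trivial
  choose κ _ z a hR' _ hfl _ hcov using fun x => exists_affine_lifts h hR (hW x)
  refine ⟨Σ x : StMod.sch 𝒳 ξ, κ x, fun i => z i.1 i.2, fun i => a i.1 i.2, fun i => hR' i.1 i.2,
    fun i => hfl i.1 i.2, fun x => ?_⟩
  obtain ⟨k, y, hy⟩ := hcov x x (hxW x)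
  exact ⟨⟨x, k⟩, y, hy⟩

end Groth.Agent.QDesc10
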