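import Groth.Agent.QDesc10.Tra
import Groth.Prelude.Def_StMod6

/-!
# Sections of inverse images along based functors
-/

set_option autoImplicit false
set_option backward.isDefEq.respectTransparency false
set_option backward.isDefEq.respectTransparency.types false
set_option linter.style.haveILetI false

universe v v' w w' u

open CategoryTheory CategoryTheory.Limits AlgebraicGeometry TopologicalSpace Opposite

namespace Groth.Agent.QDesc10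

open Groth.Agent.AModX

/-- Sections read along an equality of schemes. -/
noncomputable def castSec {X T : Scheme.{u}} (h : X = T) (M : X.Modules) (U : X.Opens) :
    Γ(M, U) ≃+ Γ(StMod.castMod h M, eqToHom h.symm ⁻¹ᵁ U) := by
  subst h; exact AddEquiv.refl _

theorem castHom_castSec {X T : Scheme.{u}} (h : X = T) {M N : X.Modules} (a : M ⟶ N) (U : X.Opens) (x : Γ(M, U)) :
    (StMod.castHom h a).app (eqToHom h.symm ⁻¹ᵁ U) (castSec h M U x) = castSec h N U (a.app U x) := by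
  subst h; rfl

theorem castSec_res {X T : Scheme.{u}} (h : X = T) (M : X.Modules) {U V : X.Opens} (i : V ≤ U) (x : Γ(M, U)) :
    res (StMod.castMod h M) ((eqToHom h.symm).preimage_mono i) (castSec h M U x) = castSec h M V (res M i x) := by
  subst h; rfl

theorem castSec_smul {X T : Scheme.{u}} (h : X = T) (M : X.Modules) {U : X.Opens} (r : Γ(X, U)) (x : Γ(M, U)) :
    castSec h M U (r • x) = (eqToHom h.symm).app U r • castSec h M U x := by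
  subst h; rfl

theorem castMap_castSec {X X' T T' : Scheme.{u}} (hX : X = T) (hX' : X' = T') {g₁ : X' ⟶ X} {g : T' ⟶ T}
    (hg : g₁ ≫ eqToHom hX = eqToHom hX' ≫ g) {M : X.Modules} {N : X'.Modules}
    (m : M ⟶ (Scheme.Modules.pushforward g₁).obj N) {U : X.Opens} {U' : X'.Opens} (h : U' ≤ g₁ ⁻¹ᵁ U)
    (h' : eqToHom hX'.symm ⁻¹ᵁ U' ≤ g ⁻¹ᵁ (eqToHom hX.symm ⁻¹ᵁ U)) (x : Γ(M, U)) :
    res (StMod.castMod hX' N) h' ((StMod.castMap hX hX' hg m).app (eqToHom hX.symm ⁻¹ᵁ U) (castSec hX M U x)) =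
      castSec hX' N U' (res N h (m.app U x)) := by
  subst hX hX'
  obtain rfl : g₁ = g := by simpa using hg
  rw [StMod.castMap_rfl_self]
  rfl

variable {S : Scheme.{u}} {𝒳 : BasedCategory.{v, w} (Over S)} {𝒴 : BasedCategory.{v', w'} (Over S)}
  (π : 𝒳 ⥤ᵇ 𝒴)

/-- The scheme of `ξ` is the scheme of its image. -/
abbrev eo (ξ : 𝒳.obj) : StMod.sch 𝒳 ξ ⟶ StMod.sch 𝒴 (π.obj ξ) := eqToHom (StMod.sch_obj_eq π ξ).symm

variable {π}

/-- Sections of the inverse image. -/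
noncomputable def dn (G : StMod.Mod 𝒴) (ξ : 𝒳.obj) (U : (StMod.sch 𝒴 (π.obj ξ)).Opens) :
    Γ(G.obj (π.obj ξ), U) ≃+ Γ((StMod.Mod.comap π G).obj ξ, eo π ξ ⁻¹ᵁ U) :=
  castSec (StMod.sch_obj_eq π ξ) _ U

theorem tra_dn (G : StMod.Mod 𝒴) {ξ' ξ : 𝒳.obj} (φ : ξ' ⟶ ξ) {U : (StMod.sch 𝒴 (π.obj ξ)).Opens}
    {U' : (StMod.sch 𝒴 (π.obj ξ')).Opens} (h : U' ≤ StMod.bmap 𝒴 (π.map φ) ⁻¹ᵁ U)
    (h' : eo π ξ' ⁻¹ᵁ U' ≤ StMod.bmap 𝒳 φ ⁻¹ᵁ (eo π ξ ⁻¹ᵁ U)) (x : Γ(G.obj (π.obj ξ), U)) :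
    tra (StMod.Mod.comap π G) φ h' (dn G ξ U x) = dn G ξ' U' (tra G (π.map φ) h x) :=
  castMap_castSec (StMod.sch_obj_eq π ξ) (StMod.sch_obj_eq π ξ') (StMod.bmap_map_comm π φ rfl)
    (G.map (π.map φ) rfl) h h' x

theorem dn_app {G G' : StMod.Mod 𝒴} (u : G ⟶ G') (ξ : 𝒳.obj) {U : (StMod.sch 𝒴 (π.obj ξ)).Opens}
    (x : Γ(G.obj (π.obj ξ), U)) :
    ((StMod.Mod.comapMap π u).app ξ).app (eo π ξ ⁻¹ᵁ U) (dn G ξ U x) = dn G' ξ U ((u.app (π.obj ξ)).app U x) := by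
  rw [StMod.Mod.comapMap_app]
  exact castHom_castSec _ _ _ x

theorem eo_preimage_bmap {ξ' ξ : 𝒳.obj} (φ : ξ' ⟶ ξ) (U : (StMod.sch 𝒴 (π.obj ξ)).Opens) :
    eo π ξ' ⁻¹ᵁ (StMod.bmap 𝒴 (π.map φ) ⁻¹ᵁ U) = StMod.bmap 𝒳 φ ⁻¹ᵁ (eo π ξ ⁻¹ᵁ U) := by
  rw [← Scheme.Hom.comp_preimage, ← Scheme.Hom.comp_preimage]
  have h := StMod.bmap_map_comm π φ (g := StMod.bmap 𝒳 φ) rfl
  have e : eo π ξ' ≫ StMod.bmap 𝒴 (π.map φ) = StMod.bmap 𝒳 φ ≫ eo π ξ := by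
    rw [← cancel_mono (eqToHom (StMod.sch_obj_eq π ξ)), Category.assoc, h]
    simp
  rw [e]

end Groth.Agent.QDesc10
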