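import Groth.Agent.QDesc10.Glue

/-!
# The inverse image of the descended module is the module upstairs
-/

set_option autoImplicit false
set_option backward.isDefEq.respectTransparency false
set_option backward.isDefEq.respectTransparency.types false
set_option linter.style.haveILetI false

universe v v' w w' u

open CategoryTheory CategoryTheory.Limits AlgebraicGeometry TopologicalSpace Opposite

namespace Groth.Agent.QDesc10

open Groth.Agent.AModX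

theorem exists_iso_castMod {X T : Scheme.{u}} (h : X = T) (M : X.Modules) (N : T.Modules)
    (a : ∀ U : X.Opens, Γ(M, U) →+ Γ(N, eqToHom h.symm ⁻¹ᵁ U))
    (hbij : ∀ U, Function.Bijective (a U))
    (hres : ∀ {U V : X.Opens} (i : V ≤ U) (x : Γ(M, U)),
      a V (res M i x) = res N ((eqToHom h.symm).preimage_mono i) (a U x))
    (hsmul : ∀ (U : X.Opens) (r : Γ(X, U)) (x : Γ(M, U)), a U (r • x) = (eqToHom h.symm).app U r • a U x) :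
    ∃ e : StMod.castMod h M ≅ N, ∀ (U : X.Opens) (x : Γ(M, U)),
      e.hom.app (eqToHom h.symm ⁻¹ᵁ U) (castSec h M U x) = a U x := by
  subst h
  let f : M ⟶ N := mkModHom a (fun i x => hres i x) (fun U r x => hsmul U r x)
  haveI : ∀ U : X.Opens, IsIso (f.app U) := fun U =>
    (ConcreteCategory.isIso_iff_bijective _).2 (hbij U)
  haveI : IsIso f := Scheme.Modules.Hom.isIso_iff_isIso_app.2 inferInstance
  exact ⟨asIso f, fun U x => rfl⟩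

theorem exists_preimage_eqToHom {X T : Scheme.{u}} (h : X = T) (V : T.Opens) :
    ∃ U : X.Opens, V = eqToHom h.symm ⁻¹ᵁ U := by
  subst h; exact ⟨V, rfl⟩

variable {S : Scheme.{u}} {𝒵 : BasedCategory.{v, w} (Over S)} {𝒴 : BasedCategory.{v', w'} (Over S)}
  {ρ : 𝒵 ⥤ᵇ 𝒴} {F : StMod.Mod 𝒵} (hρ : FFHyp ρ) (hc : F.IsCartesian) (hq : F.IsLocQCoh)

theorem eo_le (ξ : 𝒵.obj) (U : (StMod.sch 𝒴 (ρ.obj ξ)).Opens) :
    eo ρ ξ ⁻¹ᵁ U = gm (𝟙 (ρ.obj ξ)) ⁻¹ᵁ U := by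
  rw [gm_id]

/-- Evaluation at the tautological lift. -/
noncomputable def evSec (ξ : 𝒵.obj) (U : (StMod.sch 𝒴 (ρ.obj ξ)).Opens) :
    grp hρ F (ρ.obj ξ) U →+ Γ(F.obj ξ, eo ρ ξ ⁻¹ᵁ U) :=
  AddMonoidHom.mk' (fun s => res _ (eo_le ξ U).le (val hρ hc hq (𝟙 _) s)) fun s s' => by rw [val_add, map_add]

theorem evSec_apply (ξ : 𝒵.obj) (U : (StMod.sch 𝒴 (ρ.obj ξ)).Opens) (s : grp hρ F (ρ.obj ξ) U) :
    evSec hρ hc hq ξ U s = res _ (eo_le ξ U).le (val hρ hc hq (𝟙 _) s) := rfl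

theorem tra_evSec {ξ z : 𝒵.obj} {U : (StMod.sch 𝒴 (ρ.obj ξ)).Opens} (φ : z ⟶ ξ) (m : ρ.obj z ⟶ ρ.obj ξ)
    (e : ρ.map φ = m) (s : grp hρ F (ρ.obj ξ) U) (h : gm m ⁻¹ᵁ U ≤ StMod.bmap 𝒵 φ ⁻¹ᵁ (eo ρ ξ ⁻¹ᵁ U)) :
    tra F φ h (evSec hρ hc hq ξ U s) = val hρ hc hq m s := by
  rw [evSec_apply, tra_res, tra_val]
  exact (res_val_congr hρ hc hq (show ρ.map φ ≫ 𝟙 _ = m by rw [Category.comp_id, e]) s _ le_rfl).trans (res_self _)

theorem gm_map_le {ξ z : 𝒵.obj} {U : (StMod.sch 𝒴 (ρ.obj ξ)).Opens} {φ : z ⟶ ξ} {m : ρ.obj z ⟶ ρ.obj ξ}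
    (e : ρ.map φ = m) : gm m ⁻¹ᵁ U ≤ StMod.bmap 𝒵 φ ⁻¹ᵁ (eo ρ ξ ⁻¹ᵁ U) := by
  rw [← e, ← Category.comp_id (ρ.map φ), gm_map, gm_id]; rfl

theorem bijective_evSec (ξ : 𝒵.obj) (U : (StMod.sch 𝒴 (ρ.obj ξ)).Opens) :
    Function.Bijective (evSec hρ hc hq ξ U) := by
  let c := ch hρ.loc (ρ.obj ξ)
  choose φ hφ using fun i => hρ.full (c.hom i)
  refine ⟨fun s s' e => grp_ext hρ F fun i => ?_, fun t => ?_⟩
  · rw [← val_self hρ hc hq i s, ← val_self hρ hc hq i s',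
      ← tra_evSec hρ hc hq (φ i) _ (hφ i) s (gm_map_le (hφ i)),
      ← tra_evSec hρ hc hq (φ i) _ (hφ i) s' (gm_map_le (hφ i)), e]
  · let s : grp hρ F (ρ.obj ξ) U := ⟨fun i => tra F (φ i) (gm_map_le (hφ i)) t, fun i j z a b e O ha hb => by
      have k : O ≤ StMod.bmap 𝒵 (a ≫ φ i) ⁻¹ᵁ (eo ρ ξ ⁻¹ᵁ U) := by
        rw [StMod.bmap_comp]; exact ha.trans ((StMod.bmap 𝒵 a).preimage_mono (gm_map_le (hφ i)))
      have e' : a ≫ φ i = b ≫ φ j := hρ.faith _ _ (by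
        rw [ρ.toFunctor.map_comp, ρ.toFunctor.map_comp, hφ i, hφ j, e])
      rw [tra_comp a (φ i) _ ha k, tra_comp b (φ j) _ hb (e' ▸ k)]
      exact tra_congr e' _ _ _⟩
    refine ⟨s, ?_⟩
    have hv : val hρ hc hq (𝟙 (ρ.obj ξ)) s = res _ (eo_le ξ U).ge t :=
      (value_unique hρ hc hq _ _ s.2 fun i z a b e => by
        have e' : b ≫ φ i = a := hρ.faith _ _ (by
          rw [ρ.toFunctor.map_comp, hφ i, ← e, Category.comp_id])
        have k : StMod.bmap 𝒵 a ⁻¹ᵁ (gm (𝟙 (ρ.obj ξ)) ⁻¹ᵁ U) ≤ StMod.bmap 𝒵 (b ≫ φ i) ⁻¹ᵁ (eo ρ ξ ⁻¹ᵁ U) := by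
          rw [e', eo_le]
        show tra F a le_rfl (res _ _ t) = tra F b _ (tra F (φ i) _ t)
        rw [tra_res, tra_comp b (φ i) _ _ k]
        exact tra_congr e'.symm _ _ _).symm
    rw [evSec_apply, hv, res_res, res_self]

theorem evSec_res (ξ : 𝒵.obj) {U V : (StMod.sch 𝒴 (ρ.obj ξ)).Opens} (i : V ≤ U) (s : grp hρ F (ρ.obj ξ) U) :
    evSec hρ hc hq ξ V (gres hρ F i s) = res _ ((eo ρ ξ).preimage_mono i) (evSec hρ hc hq ξ U s) := by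
  rw [evSec_apply, evSec_apply, val_res, res_res, res_res]

theorem evSec_smul (ξ : 𝒵.obj) (U : (StMod.sch 𝒴 (ρ.obj ξ)).Opens) (r : Γ(StMod.sch 𝒴 (ρ.obj ξ), U))
    (s : grp hρ F (ρ.obj ξ) U) :
    evSec hρ hc hq ξ U (r • s) = (eo ρ ξ).app U r • evSec hρ hc hq ξ U s := by
  rw [evSec_apply, evSec_apply, val_smul, res_smul]
  refine congrArg (· • _) ?_
  have key : ∀ {X Y : Scheme.{u}} {g g' : X ⟶ Y} (_ : g = g') (O : Y.Opens) (le : g' ⁻¹ᵁ O ≤ g ⁻¹ᵁ O)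
      (c : Γ(Y, O)), resR le (g.app O c) = g'.app O c := by
    intro X Y g g' e O le c
    subst e
    exact resR_self _
  exact key (gm_id ξ) U _ r

include hρ hc hq in
/-- The inverse image of the descended module is the module upstairs. -/
theorem nonempty_comap_glMod : Nonempty (StMod.Mod.comap ρ (glMod hρ hc hq) ≅ F) := by
  choose e he using fun ξ => exists_iso_castMod (StMod.sch_obj_eq ρ ξ) (glObj hρ F (ρ.obj ξ)) (F.obj ξ)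
    (fun U => (evSec hρ hc hq ξ U)) (fun U => bijective_evSec hρ hc hq ξ U)
    (fun {U V} i s => evSec_res hρ hc hq ξ i s) (fun U r s => evSec_smul hρ hc hq ξ U r s)
  refine ⟨StMod.Mod.isoMk e fun {ξ' ξ} φ g hg => comm_of_tra (F := StMod.Mod.comap ρ (glMod hρ hc hq)) (G := F)
    (fun ξ => (e ξ).hom) (fun {ξ' ξ} φ V x => ?_) φ hg⟩
  obtain ⟨U, rfl⟩ := exists_preimage_eqToHom (StMod.sch_obj_eq ρ ξ) V
  obtain ⟨s, rfl⟩ := (dn (glMod hρ hc hq) ξ U).surjective x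
  have k := eo_preimage_bmap (π := ρ) φ U
  have h1 : (e ξ).hom.app (eo ρ ξ ⁻¹ᵁ U) (dn (glMod hρ hc hq) ξ U s) = evSec hρ hc hq ξ U s := he ξ U s
  have h2 : ∀ (U' : (StMod.sch 𝒴 (ρ.obj ξ')).Opens) (s' : Γ(glObj hρ F (ρ.obj ξ'), U')),
      (e ξ').hom.app (eo ρ ξ' ⁻¹ᵁ U') (dn (glMod hρ hc hq) ξ' U' s') = evSec hρ hc hq ξ' U' s' := he ξ'
  have h3 := congrArg ((e ξ').hom.app (eo ρ ξ' ⁻¹ᵁ (StMod.bmap 𝒴 (ρ.map φ) ⁻¹ᵁ U)))
    (tra_dn (glMod hρ hc hq) φ (le_refl (StMod.bmap 𝒴 (ρ.map φ) ⁻¹ᵁ U)) k.le s)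
  rw [h2] at h3
  rw [← res_tra φ le_rfl k.le] at h3
  erw [app_res] at h3
  refine Eq.trans ?_ (congrArg (tra F φ le_rfl) h1).symm
  have h4 := congrArg (res (F.obj ξ') k.ge) h3
  rw [res_res, res_self] at h4
  refine h4.trans ?_
  erw [tra_glMod hρ hc hq (ρ.map φ) le_rfl s]
  rw [evSec_apply, evSec_apply, tra_res, tra_val]
  erw [val_mapG hρ hc hq (𝟙 _) (ρ.map φ) le_rfl s]
  rw [res_res, res_res]
  exact res_val_congr hρ hc hq (by rw [Category.id_comp, Category.comp_id]) s _ _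

end Groth.Agent.QDesc10
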