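import Groth.Agent.QDesc10.GlueBC
import Groth.Agent.QDesc10.GlueIso
import Groth.Agent.FComplLib.AffMod
import Groth.Agent.EtLC12.AssocUnit

/-!
# The descended module is cartesian
-/

set_option autoImplicit false
set_option backward.isDefEq.respectTransparency false
set_option backward.isDefEq.respectTransparency.types false
set_option linter.style.haveILetI false

universe v v' w w' u

open CategoryTheory CategoryTheory.Limits AlgebraicGeometry TopologicalSpace Opposite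
open scoped TensorProduct

namespace Groth.Agent.QDesc10

open Groth.Agent.AModX

attribute [local instance] algPre modPre towerPre

section general

variable {S : Scheme.{u}} {𝒳 : BasedCategory.{v, w} (Over S)}

/-- Cartesian modules are closed under isomorphisms. -/
theorem isCartesian_of_iso {F G : StMod.Mod 𝒳} (e : F ≅ G) (hF : F.IsCartesian) : G.IsCartesian := by
  intro ξ' ξ φ g hg
  haveI := hF φ hg
  haveI : ∀ x, IsIso (e.hom.app x) := fun x =>
    ⟨e.inv.app x, by rw [← StMod.Mod.comp_app, e.hom_inv_id]; rfl,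
      by rw [← StMod.Mod.comp_app, e.inv_hom_id]; rfl⟩
  have h : G.map φ hg = inv (e.hom.app ξ) ≫ F.map φ hg ≫ (Scheme.Modules.pushforward g).map (e.hom.app ξ') := by
    rw [e.hom.comm φ hg, IsIso.inv_hom_id_assoc]
  rw [h, Adjunction.homEquiv_naturality_left_symm, Adjunction.homEquiv_naturality_right_symm]
  infer_instance

theorem isIso_adjoint_of_castMap {X T X' T' : Scheme.{u}} (hX : X = T) (hX' : X' = T') {g₁ : X' ⟶ X} {g : T' ⟶ T}
    (hg : g₁ ≫ eqToHom hX = eqToHom hX' ≫ g) {M : X.Modules} {N : X'.Modules}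
    (m : M ⟶ (Scheme.Modules.pushforward g₁).obj N)
    (hm : IsIso (((Scheme.Modules.pullbackPushforwardAdjunction g).homEquiv _ _).symm
      (StMod.castMap hX hX' hg m))) :
    IsIso (((Scheme.Modules.pullbackPushforwardAdjunction g₁).homEquiv M N).symm m) := by
  subst hX hX'
  obtain rfl : g₁ = g := by simpa using hg
  rw [StMod.castMap_rfl_self] at hm
  exact hm

theorem isIso_theta_comp (F : StMod.Mod 𝒳) {ξ'' ξ' ξ : 𝒳.obj} (ψ : ξ'' ⟶ ξ') (φ : ξ' ⟶ ξ)
    (h₁ : IsIso (theta F ψ)) (h₂ : IsIso (theta F φ)) : IsIso (theta F (ψ ≫ φ)) := by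
  have h : IsIso ((Scheme.Modules.pullback (StMod.bmap 𝒳 ψ)).map (theta F φ) ≫ theta F ψ) := inferInstance
  rw [comp_theta, isIso_comp_left_iff, isIso_comp_left_iff] at h
  exact h

theorem theta_pullSec (F : StMod.Mod 𝒳) {ξ' ξ : 𝒳.obj} (φ : ξ' ⟶ ξ) {U : (StMod.sch 𝒳 ξ).Opens}
    {U' : (StMod.sch 𝒳 ξ').Opens} (h : U' ≤ StMod.bmap 𝒳 φ ⁻¹ᵁ U) (x : Γ(F.obj ξ, U)) :
    (theta F φ).app U' (QCoh.pullSec (StMod.bmap 𝒳 φ) (F.obj ξ) h x) = tra F φ h x := by
  show (theta F φ).app U' (res _ h _) = res (F.obj ξ') h ((F.map φ rfl).app U x)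
  rw [app_res]
  refine congrArg (res (F.obj ξ') h) ?_
  have hθ : F.map φ rfl = (Scheme.Modules.pullbackPushforwardAdjunction (StMod.bmap 𝒳 φ)).unit.app (F.obj ξ) ≫
      (Scheme.Modules.pushforward (StMod.bmap 𝒳 φ)).map (theta F φ) := by
    exact ((Equiv.apply_symm_apply _ _).symm).trans (Adjunction.homEquiv_unit _ _ _ _)
  exact (congrArg
    (fun f : F.obj ξ ⟶ (Scheme.Modules.pushforward (StMod.bmap 𝒳 φ)).obj (F.obj ξ') => f.app U x) hθ).symm

end general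

theorem preimage_congr {X Y : Scheme.{u}} {g g' : X ⟶ Y} (e : g = g') (U : Y.Opens) :
    g ⁻¹ᵁ U ≤ g' ⁻¹ᵁ U := by
  rw [e]

theorem bijective_app_of_isIso {X Y : Scheme.{u}} (g : X ⟶ Y) [IsIso g] (U : Y.Opens) :
    Function.Bijective (g.app U) := ConcreteCategory.bijective_of_isIso (g.app U)

variable {S : Scheme.{u}} {𝒵 : BasedCategory.{v, w} (Over S)} {𝒴 : BasedCategory.{v', w'} (Over S)}
  {ρ : 𝒵 ⥤ᵇ 𝒴} {η : 𝒴.obj} {F : StMod.Mod 𝒵}

theorem gm_eq {ξ : 𝒵.obj} (m : ρ.obj ξ ⟶ η) : gm m = eo ρ ξ ≫ StMod.bmap 𝒴 m := by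
  have h := gm_comp (𝟙 (ρ.obj ξ)) m
  rw [Category.id_comp, gm_id] at h
  exact h

variable (hρ : FFHyp ρ) (hc : F.IsCartesian) (hq : F.IsLocQCoh)

theorem isIso_theta_map {z ξ : 𝒵.obj} (φ : z ⟶ ξ) : IsIso (theta (glMod hρ hc hq) (ρ.map φ)) := by
  obtain ⟨e⟩ := nonempty_comap_glMod hρ hc hq
  have h := isCartesian_of_iso e.symm hc φ (g := StMod.bmap 𝒵 φ) rfl
  rw [StMod.Mod.comap_map] at h
  exact isIso_adjoint_of_castMap _ _ _ _ h

section affine

variable {W : (StMod.sch 𝒴 η).Opens} {ξ : 𝒵.obj} (m : ρ.obj ξ ⟶ η)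

/-- Sections of the descended module over a preimage, read upstairs. -/
noncomputable def evPre (s : grp hρ F (ρ.obj ξ) (StMod.bmap 𝒴 m ⁻¹ᵁ W)) : Γ(F.obj ξ, gm m ⁻¹ᵁ W) :=
  res _ (preimage_congr (gm_eq m) W) (evSec hρ hc hq ξ (StMod.bmap 𝒴 m ⁻¹ᵁ W) s)

theorem bijective_evPre : Function.Bijective (evPre hρ hc hq (W := W) m) := by
  refine Function.Bijective.comp ?_ (bijective_evSec hρ hc hq ξ _)
  refine ⟨fun x y e => ?_, fun y => ⟨res _ (preimage_congr (gm_eq m).symm W) y, ?_⟩⟩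
  · have := congrArg (res _ (preimage_congr (gm_eq m).symm W)) e
    rwa [res_res, res_res, res_self, res_self] at this
  · rw [res_res, res_self]

theorem evPre_add (s s' : grp hρ F (ρ.obj ξ) (StMod.bmap 𝒴 m ⁻¹ᵁ W)) :
    evPre hρ hc hq m (s + s') = evPre hρ hc hq m s + evPre hρ hc hq m s' := by
  simp only [evPre, map_add]

/-- Functions over a preimage, read upstairs. -/
noncomputable def scal : Γ(StMod.sch 𝒴 (ρ.obj ξ), StMod.bmap 𝒴 m ⁻¹ᵁ W) →+* Γ(StMod.sch 𝒵 ξ, gm m ⁻¹ᵁ W) :=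
  (resR (preimage_congr (gm_eq m) W)).comp ((eo ρ ξ).app (StMod.bmap 𝒴 m ⁻¹ᵁ W)).hom

theorem bijective_scal : Function.Bijective (scal (W := W) m) := by
  refine Function.Bijective.comp (g := resR (preimage_congr (gm_eq m) W)) ?_
    (bijective_app_of_isIso (eo ρ ξ) (StMod.bmap 𝒴 m ⁻¹ᵁ W))
  refine ⟨fun x y e => ?_, fun y => ⟨resR (preimage_congr (gm_eq m).symm W) y, ?_⟩⟩
  · have := congrArg (resR (preimage_congr (gm_eq m).symm W)) e
    rwa [resR_resR, resR_resR, resR_self, resR_self] at this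
  · rw [resR_resR, resR_self]

theorem scal_app (r : Γ(StMod.sch 𝒴 η, W)) : scal m ((StMod.bmap 𝒴 m).app W r) = (gm m).app W r := by
  have key : ∀ {X Y Z : Scheme.{u}} {g : X ⟶ Z} (g₁ : X ⟶ Y) (g₂ : Y ⟶ Z) (_ : g = g₁ ≫ g₂) (O : Z.Opens)
      (le : g ⁻¹ᵁ O ≤ g₁ ⁻¹ᵁ (g₂ ⁻¹ᵁ O)) (c : Γ(Z, O)),
      resR le (g₁.app (g₂ ⁻¹ᵁ O) (g₂.app O c)) = g.app O c := by
    intro X Y Z g g₁ g₂ e O le c
    subst e
    exact resR_self _
  exact key _ _ (gm_eq m) W _ r

theorem evPre_smul (β : Γ(StMod.sch 𝒴 (ρ.obj ξ), StMod.bmap 𝒴 m ⁻¹ᵁ W))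
    (s : grp hρ F (ρ.obj ξ) (StMod.bmap 𝒴 m ⁻¹ᵁ W)) :
    evPre hρ hc hq m (β • s) = scal m β • evPre hρ hc hq m s := by
  rw [evPre, evSec_smul, res_smul]
  rfl

theorem evPre_tra (s : grp hρ F η W) :
    evPre hρ hc hq m (toFam hρ F (tra (glMod hρ hc hq) m le_rfl (ofFam hρ F s))) = val hρ hc hq m s := by
  rw [tra_glMod]
  show res _ _ (evSec hρ hc hq ξ _ (mapG hρ hc hq m le_rfl s)) = _
  rw [evSec_apply, val_mapG, res_res, res_res]
  exact (res_val_congr hρ hc hq (Category.id_comp m) s _ le_rfl).trans (res_self _)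

include hρ hc hq in
/-- The comparison along a flat affine lift is an isomorphism. -/
theorem isIso_theta_lift (hW : IsAffineOpen W) [IsAffine (StMod.sch 𝒵 ξ)] [Flat (gm m)]
    (hm : ∀ y, gm m y ∈ W) : IsIso (theta (glMod hρ hc hq) m) := by
  let G := glMod hρ hc hq
  let g := StMod.bmap 𝒴 m
  haveI : IsAffine (StMod.sch 𝒴 (ρ.obj ξ)) := .of_isIso (inv (eo ρ ξ))
  have hV : g ⁻¹ᵁ W = ⊤ := top_le_iff.1 fun y _ => by
    obtain ⟨q, rfl⟩ := (eo ρ ξ).homeomorph.surjective y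
    exact preimage_congr (gm_eq m) W (hm q)
  have hqc := isLocQCoh_glMod hρ hc hq
  let N := (Scheme.Modules.pullback g).obj (G.obj η)
  suffices h : Function.Bijective ((theta G m).app (g ⁻¹ᵁ W)) by
    rw [hV] at h
    exact FComplLib.isIso_of_bijective_app_top (QCoh.isQCoh_pullback g (hqc η)) (hqc _) _ h
  letI : Module Γ(StMod.sch 𝒴 η, W) Γ(N, g ⁻¹ᵁ W) := Module.compHom _ (g.app W).hom
  haveI : IsScalarTower Γ(StMod.sch 𝒴 η, W) Γ(StMod.sch 𝒴 (ρ.obj ξ), g ⁻¹ᵁ W) Γ(N, g ⁻¹ᵁ W) :=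
    .of_algebraMap_smul fun _ _ => rfl
  let l : Γ(G.obj η, W) →ₗ[Γ(StMod.sch 𝒴 η, W)] Γ(N, g ⁻¹ᵁ W) :=
    { toFun := QCoh.pullSec g (G.obj η) le_rfl
      map_add' := QCoh.pullSec_add g (G.obj η) le_rfl
      map_smul' := fun r x => by
        rw [QCoh.pullSec_smul, ← Scheme.Hom.app_eq_appLE]
        rfl }
  have hA : IsAffineOpen (g ⁻¹ᵁ W) := by rw [hV]; exact isAffineOpen_top _
  have hl := QCoh.isBaseChange_pullback hW g hA (hqc η) le_rfl (algPre_appLE g W) l (fun _ => rfl)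
  let σ : Γ(StMod.sch 𝒴 (ρ.obj ξ), g ⁻¹ᵁ W) →ₗ[Γ(StMod.sch 𝒴 η, W)] Γ(StMod.sch 𝒵 ξ, gm m ⁻¹ᵁ W) :=
    { toFun := scal m
      map_add' := map_add _
      map_smul' := fun r b => by
        rw [Algebra.smul_def, map_mul, RingHom.id_apply, Algebra.smul_def]
        exact congrArg (· * _) (scal_app m r) }
  let σe := LinearEquiv.ofBijective σ (bijective_scal m)
  have key : ∀ X, evPre hρ hc hq m (toFam hρ F ((theta G m).app (g ⁻¹ᵁ W) (hl.equiv X))) =
      bc hρ hc hq m W (TensorProduct.congr σe (LinearEquiv.refl _ (grp hρ F η W)) X) := by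
    intro X
    induction X using TensorProduct.induction_on with
    | zero =>
      rw [map_zero, map_zero, map_zero, map_zero]
      exact (AddMonoidHom.mk' _ (evPre_add hρ hc hq m)).map_zero
    | tmul β s =>
      rw [IsBaseChange.equiv_tmul, Scheme.Modules.Hom.app_smul, TensorProduct.congr_tmul]
      erw [bc_tmul]
      refine (evPre_smul hρ hc hq m β _).trans ?_
      refine congrArg (σ β • ·) ?_
      refine Eq.trans ?_ (evPre_tra hρ hc hq m s)
      exact congrArg (fun t => evPre hρ hc hq m (toFam hρ F t)) (theta_pullSec G m le_rfl s)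
    | add x y hx hy =>
      rw [map_add, map_add, map_add, map_add, ← hx, ← hy]
      exact evPre_add hρ hc hq m _ _
  have h1 : Function.Bijective fun X => evPre hρ hc hq m (toFam hρ F ((theta G m).app (g ⁻¹ᵁ W) (hl.equiv X))) := by
    rw [funext key]
    exact (bijective_bc hρ hc hq hW m hm).comp (LinearEquiv.bijective _)
  exact (Function.Bijective.of_comp_iff' (bijective_evPre hρ hc hq m) _).1
    ((Function.Bijective.of_comp_iff _ hl.equiv.bijective).1 h1)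

end affine

theorem flat_bmap_map {z ξ : 𝒵.obj} (a : z ⟶ ξ) (h : Flat (StMod.bmap 𝒵 a)) :
    Flat (StMod.bmap 𝒴 (ρ.map a)) := by
  have e : eo ρ z ≫ StMod.bmap 𝒴 (ρ.map a) = StMod.bmap 𝒵 a ≫ eo ρ ξ := by
    rw [← gm_eq, ← Category.comp_id (ρ.map a), gm_map, gm_id]
  rw [← IsIso.inv_hom_id_assoc (eo ρ z) (StMod.bmap 𝒴 (ρ.map a)), e]
  infer_instance

include hρ hc hq in
/-- The comparison along any lift is an isomorphism. -/
theorem isIso_theta_of_lift {ξ : 𝒵.obj} (m : ρ.obj ξ ⟶ η) : IsIso (theta (glMod hρ hc hq) m) := by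
  choose W hW hxW _ using fun p : StMod.sch 𝒴 η =>
    exists_isAffineOpen_mem_and_subset (x := p) (U := ⊤) trivial
  let K := fun p => (exists_kfam hρ (hW p)).some
  choose w a b e hsq using fun i : Σ p, (K p).κ => exists_lift_square hρ m ((K i.1).m i.2)
  refine isIso_theta_of_cover (F := glMod hρ hc hq) m (fun i => ρ.obj (w i)) (fun i => ρ.map (a i))
    (fun i => ?_) (fun x => ?_) (fun i => isIso_theta_map hρ hc hq _) (fun i => ?_)
  · haveI := (K i.1).flat i.2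
    exact flat_bmap_map _ (MorphismProperty.of_isPullback (hsq i).flip inferInstance)
  · obtain ⟨q, rfl⟩ := (eo ρ ξ).homeomorph.surjective x
    obtain ⟨k, y, hy⟩ := (K (gm m q)).cover _ (hxW _)
    obtain ⟨r, hr, -⟩ := Scheme.exists_preimage_of_isPullback (hsq ⟨gm m q, k⟩) q y hy.symm
    refine ⟨⟨gm m q, k⟩, eo ρ _ r, ?_⟩
    have e' : eo ρ (w ⟨gm m q, k⟩) ≫ StMod.bmap 𝒴 (ρ.map (a ⟨gm m q, k⟩)) =
        StMod.bmap 𝒵 (a ⟨gm m q, k⟩) ≫ eo ρ ξ := by
      rw [← gm_eq, ← Category.comp_id (ρ.map (a ⟨gm m q, k⟩)), gm_map, gm_id]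
    exact (congrArg (fun f : StMod.sch 𝒵 (w ⟨gm m q, k⟩) ⟶ StMod.sch 𝒴 (ρ.obj ξ) => f r) e').trans
      (congrArg (eo ρ ξ) hr)
  · rw [e i]
    haveI := (K i.1).affine i.2
    haveI := (K i.1).flat i.2
    exact isIso_theta_comp _ _ _ (isIso_theta_map hρ hc hq _)
      (isIso_theta_lift hρ hc hq _ (hW i.1) ((K i.1).mem i.2))

include hρ hc hq in
/-- The descended module is cartesian. -/
theorem isCartesian_glMod : (glMod hρ hc hq).IsCartesian := by
  refine isCartesian_of_theta fun {η' η} β => ?_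
  choose W hW hxW _ using fun p : StMod.sch 𝒴 η' =>
    exists_isAffineOpen_mem_and_subset (x := p) (U := ⊤) trivial
  let K := fun p => (exists_kfam hρ (hW p)).some
  refine isIso_theta_of_cover (F := glMod hρ hc hq) β (fun i : Σ p, (K p).κ => ρ.obj ((K i.1).z i.2))
    (fun i => (K i.1).m i.2) (fun i => ?_) (fun x => ?_) (fun i => ?_) (fun i => isIso_theta_of_lift hρ hc hq _)
  · haveI : Flat (eo ρ _ ≫ StMod.bmap 𝒴 ((K i.1).m i.2)) := by rw [← gm_eq]; exact (K i.1).flat i.2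
    rw [← IsIso.inv_hom_id_assoc (eo ρ ((K i.1).z i.2)) (StMod.bmap 𝒴 ((K i.1).m i.2))]
    infer_instance
  · obtain ⟨k, y, hy⟩ := (K x).cover x (hxW x)
    exact ⟨⟨x, k⟩, eo ρ _ y, by rw [gm_eq] at hy; exact hy⟩
  · exact isIso_theta_of_lift hρ hc hq _

end Groth.Agent.QDesc10
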