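import Groth.Agent.QDesc10.ImageMod
import Groth.Agent.QDesc10.GlueCart

/-!
# Descent of quasi-coherent modules along locally surjective functors

A quasi-coherent module on the source on which morphisms with the same image act equally
is the inverse image of a quasi-coherent module on the target.
-/

set_option autoImplicit false
set_option backward.isDefEq.respectTransparency false
set_option backward.isDefEq.respectTransparency.types false
set_option linter.style.haveILetI false

universe v v' w w' u

open CategoryTheory CategoryTheory.Limits AlgebraicGeometry TopologicalSpace Opposite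

namespace Groth.Agent.QDesc10

variable {S : Scheme.{u}} {𝒳 : BasedCategory.{v, w} (Over S)} {𝒴 : BasedCategory.{v', w'} (Over S)}
  {π : 𝒳 ⥤ᵇ 𝒴}

theorem ffHyp_fromImage (hπ : LocHyp π) : FFHyp (fromImage π) where
  loc := locHyp_fromImage hπ
  full {a b} ψ := (fromImage_bijective (a := a) (b := b) ψ).exists
  faith {a b} φ φ' h := (fromImage_bijective (a := a) (b := b) ((fromImage π).map φ')).unique h rfl

theorem exists_comap_iso {F : StMod.Mod 𝒳} (hπ : LocHyp π) (hc : F.IsCartesian) (hq : F.IsLocQCoh)
    (hT : IsThin π F) : ∃ G : StMod.QCoh 𝒴, Nonempty (F ≅ StMod.Mod.comap π G.obj) := by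
  let I := imgMod π hπ hc hq hT
  have hIc : I.IsCartesian := isCartesian_imgMod π hπ hc hq hT
  have hIq : I.IsLocQCoh := fun ξ => hq ξ
  let hρ := ffHyp_fromImage hπ
  obtain ⟨e⟩ := nonempty_comap_imgMod π hπ hc hq hT
  obtain ⟨f⟩ := nonempty_comap_glMod hρ hIc hIq
  exact ⟨⟨glMod hρ hIc hIq, isCartesian_glMod hρ hIc hIq, isLocQCoh_glMod hρ hIc hIq⟩,
    ⟨e ≪≫ (StMod.comapFunctor (toImage π)).mapIso f.symm ≪≫
      (StMod.comapCompIso (fromImage π) (toImage π) (glMod hρ hIc hIq)).symm⟩⟩

/-- Inverse image is essentially surjective onto the modules on which morphisms with the same image act equally. -/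
theorem exists_comapQ_iso (F : StMod.QCoh 𝒳) (hπ : LocHyp π) (hT : IsThin π F.obj) :
    ∃ G : StMod.QCoh 𝒴, Nonempty (F ≅ (StMod.comapQ π).obj G) := by
  obtain ⟨G, ⟨e⟩⟩ := exists_comap_iso hπ F.property.1 F.property.2 hT
  exact ⟨G, ⟨(StMod.isQCoh 𝒳).ι.preimageIso e⟩⟩

end Groth.Agent.QDesc10
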