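import Groth.Prelude.Def_FibCat2

/-!
# Lifting in categories fibred in groupoids
-/

set_option autoImplicit false

universe v₁ u₁ v₂ u₂

open CategoryTheory

namespace Groth.Agent.QDesc10

variable {C : Type u₁} [Category.{v₁} C] {𝒳 : BasedCategory.{v₂, u₂} C}

/-- A lift with prescribed target, in equational form. -/
theorem exists_lift (h : FibCat.IsFibGrpd 𝒳.p) {x : 𝒳.obj} {V : C} (f : V ⟶ 𝒳.p.obj x) :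
    ∃ (z : 𝒳.obj) (φ : z ⟶ x) (e : 𝒳.p.obj z = V), 𝒳.p.map φ = eqToHom e ≫ f := by
  obtain ⟨z, φ, hφ⟩ := h.exists_lift f
  refine ⟨z, φ, IsHomLift.domain_eq 𝒳.p f φ, ?_⟩
  rw [IsHomLift.fac' 𝒳.p f φ]
  simp

/-- Every morphism is cartesian. -/
theorem existsUnique_factor (h : FibCat.IsFibGrpd 𝒳.p) {x y z : 𝒳.obj} (φ : y ⟶ x) (ψ : z ⟶ x)
    (g : 𝒳.p.obj z ⟶ 𝒳.p.obj y) (e : g ≫ 𝒳.p.map φ = 𝒳.p.map ψ) :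
    ∃! χ : z ⟶ y, 𝒳.p.map χ = g ∧ χ ≫ φ = ψ := by
  haveI := h.isStronglyCartesian φ
  haveI : 𝒳.p.IsHomLift (g ≫ 𝒳.p.map φ) ψ := by
    rw [e]; infer_instance
  obtain ⟨χ, ⟨h1, h2⟩, huniq⟩ :=
    Functor.IsStronglyCartesian.universal_property (p := 𝒳.p) (f := 𝒳.p.map φ) (φ := φ) g _ rfl ψ
  refine ⟨χ, ⟨?_, h2⟩, fun χ' hχ' => huniq χ' ⟨?_, hχ'.2⟩⟩
  · haveI := h1
    simpa using IsHomLift.fac' 𝒳.p g χ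
  · exact hχ'.1 ▸ inferInstance

theorem exists_factor (h : FibCat.IsFibGrpd 𝒳.p) {x y z : 𝒳.obj} (φ : y ⟶ x) (ψ : z ⟶ x)
    (g : 𝒳.p.obj z ⟶ 𝒳.p.obj y) (e : g ≫ 𝒳.p.map φ = 𝒳.p.map ψ) :
    ∃ χ : z ⟶ y, 𝒳.p.map χ = g ∧ χ ≫ φ = ψ :=
  (existsUnique_factor h φ ψ g e).exists

theorem hom_ext (h : FibCat.IsFibGrpd 𝒳.p) {x y z : 𝒳.obj} (φ : y ⟶ x) {χ χ' : z ⟶ y}
    (hp : 𝒳.p.map χ = 𝒳.p.map χ') (hc : χ ≫ φ = χ' ≫ φ) : χ = χ' :=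
  (existsUnique_factor h φ (χ ≫ φ) (𝒳.p.map χ) (𝒳.p.map_comp χ φ).symm).unique ⟨rfl, rfl⟩ ⟨hp.symm, hc.symm⟩

theorem isIso_of_map (h : FibCat.IsFibGrpd 𝒳.p) {x y : 𝒳.obj} (φ : y ⟶ x) [IsIso (𝒳.p.map φ)] : IsIso φ := by
  obtain ⟨χ, hχ, hc⟩ := exists_factor h φ (𝟙 x) (inv (𝒳.p.map φ)) (by simp)
  refine ⟨χ, hom_ext h φ ?_ ?_, hc⟩
  · rw [Functor.map_comp, hχ, IsIso.hom_inv_id, CategoryTheory.Functor.map_id]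
  · rw [Category.assoc, hc, Category.comp_id, Category.id_comp]

end Groth.Agent.QDesc10
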