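import Groth.Agent.QDesc10.Refine
import Groth.Prelude.Def_QuotSh
import Mathlib.AlgebraicGeometry.Morphisms.UniversallyOpen


/-!
# Covering sieves of the big fppf site have finite flat affine witnesses
-/

set_option autoImplicit false
set_option backward.isDefEq.respectTransparency false
set_option backward.isDefEq.respectTransparency.types false
set_option linter.style.haveILetI false

universe u

open CategoryTheory CategoryTheory.Limits AlgebraicGeometry TopologicalSpace Opposite

namespace Groth.Agent.QDesc10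

variable {S : Scheme.{u}}

/-- A covering sieve of the big fppf site contains flat, locally finitely presented members through every point. -/
theorem exists_fppf_member {T : Over S} {R : Sieve T} (hR : R ∈ QuotSh.J Scheme.fppfPrecoverage S T) (x : T.left) :
    ∃ (V : Over S) (f : V ⟶ T), R f ∧ Flat f.left ∧ LocallyOfFinitePresentation f.left ∧ x ∈ Set.range f.left := by
  haveI : (@Flat ⊓ @LocallyOfFinitePresentation : MorphismProperty Scheme.{u}).ContainsIdentities :=
    ⟨fun X => ⟨inferInstanceAs (Flat (𝟙 X)), inferInstanceAs (LocallyOfFinitePresentation (𝟙 X))⟩⟩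
  haveI : Scheme.fppfPrecoverage.HasIsos :=
    inferInstanceAs (Scheme.precoverage (@Flat ⊓ @LocallyOfFinitePresentation)).HasIsos
  rw [GrothendieckTopology.mem_over_iff, Precoverage.mem_toGrothendieck_iff_of_isStableUnderComposition] at hR
  obtain ⟨R₀, hR₀, hle⟩ := hR
  obtain ⟨Y, g₁, hg₁, hx⟩ := hR₀.1 x
  obtain @⟨Y₀, g, hg⟩ := hg₁
  have hfl := hR₀.2 hg
  exact ⟨Over.mk (g ≫ T.hom), Over.homMk g rfl, (Sieve.overEquiv_iff _ _).1 (hle _ g hg), hfl.1, hfl.2, hx⟩

theorem qCov_of_mem_fppf (T : Over S) (R : Sieve T) (hR : R ∈ QuotSh.J Scheme.fppfPrecoverage S T) :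
    QCov T R := fun x => by
  obtain ⟨V, f, hf, _, _, ⟨y, rfl⟩⟩ := exists_fppf_member hR x
  obtain ⟨W₀, hW₀, hyW₀, -⟩ := exists_isAffineOpen_mem_and_subset (x := f.left y) (U := ⊤) trivial
  obtain ⟨A, hA, hyA, hAle⟩ := exists_isAffineOpen_mem_and_subset (x := y) (U := f.left ⁻¹ᵁ W₀) hyW₀
  let O : T.left.Opens := ⟨f.left '' (A : Set V.left), f.left.isOpenMap _ A.2⟩
  obtain ⟨g, hgle, hyg⟩ := hW₀.exists_basicOpen_le (V := O) (⟨f.left y, ⟨y, hyA, rfl⟩⟩) hyW₀
  let r := f.left.appLE W₀ A hAle g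
  have hr : V.left.basicOpen r = A ⊓ f.left ⁻¹ᵁ T.left.basicOpen g := by
    rw [Scheme.preimage_basicOpen]
    exact Scheme.basicOpen_res _ _ _
  refine ⟨T.left.basicOpen g, hW₀.basicOpen g, hyg, ⟨{
    κ := Unit, finite := inferInstance, V := fun _ => V, f := fun _ => f, A := fun _ => V.left.basicOpen r
    mem := fun _ => hf, affine := fun _ => hA.basicOpen r
    le := fun _ z hz => by rw [hr] at hz; exact hz.2
    flat := fun _ => inferInstance
    cover := fun z hz => ?_ }⟩⟩
  obtain ⟨a, ha, rfl⟩ := hgle hz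
  exact ⟨(), a, by rw [hr]; exact ⟨ha, hz⟩, rfl⟩

/-- A gerbe for the fppf topology is locally surjective for the topology of flat affine families. -/
theorem locHyp_of_fppf {𝒳 𝒴 : BasedCategory (Over S)} {π : 𝒳 ⥤ᵇ 𝒴} (hx : FibCat.IsFibGrpd 𝒳.p)
    (hy : FibCat.IsFibGrpd 𝒴.p) (h : Gerb.IsGerbeOver (QuotSh.J Scheme.fppfPrecoverage S) π) : LocHyp π :=
  locHyp_of_le π qCov_of_mem_fppf hx hy h

end Groth.Agent.QDesc10
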