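import Groth.Agent.QDesc10.Topo
import Groth.Agent.QDesc10.Fib
import Groth.Prelude.Def_StGerb

/-!
# Functors which are locally surjective on objects and morphisms, for the topology of flat affine families
-/

set_option autoImplicit false
set_option backward.isDefEq.respectTransparency false
set_option backward.isDefEq.respectTransparency.types false
set_option linter.style.haveILetI false

universe v v' w w' u

open CategoryTheory CategoryTheory.Limits AlgebraicGeometry TopologicalSpace Opposite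

namespace Groth.Agent.QDesc10

variable {S : Scheme.{u}} {𝒳 : BasedCategory.{v, w} (Over S)} {𝒴 : BasedCategory.{v', w'} (Over S)}
  (π : 𝒳 ⥤ᵇ 𝒴)

/-- Fibred in groupoids, locally surjective on objects and on morphisms. -/
structure LocHyp : Prop where
  fx : FibCat.IsFibGrpd 𝒳.p
  fy : FibCat.IsFibGrpd 𝒴.p
  surj : Gerb.LocSurjObj (qtop S) π
  hom : Gerb.LocSurjHom (qtop S) π

theorem locHyp_of_le {J : GrothendieckTopology (Over S)}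
    (hJ : ∀ (T : Over S) (R : Sieve T), R ∈ J T → QCov T R) (hx : FibCat.IsFibGrpd 𝒳.p)
    (hy : FibCat.IsFibGrpd 𝒴.p) (h : Gerb.IsGerbeOver J π) : LocHyp π where
  fx := hx
  fy := hy
  surj y := by
    obtain ⟨R, hR, hR'⟩ := h.1 y
    exact ⟨R, hJ _ _ hR, hR'⟩
  hom x x' b hb := by
    obtain ⟨R, hR, hR'⟩ := h.2 x x' b hb
    exact ⟨R, hJ _ _ hR, hR'⟩

theorem pmap_map {ξ' ξ : 𝒳.obj} (φ : ξ' ⟶ ξ) :
    𝒴.p.map (π.map φ) = eqToHom (π.w_obj ξ') ≫ 𝒳.p.map φ ≫ eqToHom (π.w_obj ξ).symm :=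
  IsHomLift.fac' 𝒴.p (𝒳.p.map φ) (π.map φ)

variable {π}

/-- A morphism to an object in the image comes from a morphism upstairs, up to a vertical isomorphism. -/
theorem exists_lift_pi (h : LocHyp π) {z' : 𝒴.obj} {ξ : 𝒳.obj} (θ : z' ⟶ π.obj ξ) :
    ∃ (z : 𝒳.obj) (φ : z ⟶ ξ) (c : z' ⟶ π.obj z) (e : 𝒴.p.obj z' = 𝒳.p.obj z),
      IsIso c ∧ 𝒴.p.map c = eqToHom (e.trans (π.w_obj z).symm) ∧ c ≫ π.map φ = θ := by
  obtain ⟨z, φ, e, he⟩ := exists_lift h.fx (x := ξ) (𝒴.p.map θ ≫ eqToHom (π.w_obj ξ))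
  obtain ⟨c, hc, hcφ⟩ := exists_factor h.fy (π.map φ) θ (eqToHom (e.symm.trans (π.w_obj z).symm))
    (by rw [pmap_map, he]; simp)
  haveI : IsIso (𝒴.p.map c) := by rw [hc]; infer_instance
  exact ⟨z, φ, c, e.symm, isIso_of_map h.fy c, hc, hcφ⟩

/-- Two lifts of one object agree after refinement. -/
theorem exists_refine (h : LocHyp π) {w : 𝒴.obj} {ξ₁ ξ₂ : 𝒳.obj} (ψ₁ : w ⟶ π.obj ξ₁) (ψ₂ : w ⟶ π.obj ξ₂) :
    ∃ R : Sieve (𝒴.p.obj w), QCov _ R ∧ ∀ ⦃z' : 𝒴.obj⦄ (θ : z' ⟶ w), R (𝒴.p.map θ) →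
      ∃ (z : 𝒳.obj) (φ₁ : z ⟶ ξ₁) (φ₂ : z ⟶ ξ₂) (c : z' ⟶ π.obj z),
        IsIso c ∧ c ≫ π.map φ₁ = θ ≫ ψ₁ ∧ c ≫ π.map φ₂ = θ ≫ ψ₂ := by
  obtain ⟨ξ₁', χ₁, c₁, e₁, _, hp₁, hc₁⟩ := exists_lift_pi h ψ₁
  obtain ⟨ξ₂', χ₂, c₂, e₂, _, hp₂, hc₂⟩ := exists_lift_pi h ψ₂
  let b : π.obj ξ₁' ⟶ π.obj ξ₂' := inv c₁ ≫ c₂
  have hb : 𝒴.p.IsHomLift (𝟙 (𝒳.p.obj ξ₁')) b :=
    IsHomLift.of_fac' 𝒴.p _ _ (π.w_obj _) ((π.w_obj _).trans (e₂.symm.trans e₁)) (by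
      simp [b, hp₁, hp₂])
  obtain ⟨R₁, hR₁, hR₁'⟩ := h.hom ξ₁' ξ₂' b hb
  let g : 𝒴.p.obj w ⟶ 𝒳.p.obj ξ₁' := eqToHom e₁
  refine ⟨R₁.pullback g, QCov.pullback hR₁ g, fun z' θ hθ => ?_⟩
  obtain ⟨x₀, a, a', ha, ha', hab⟩ := hR₁' (𝒴.p.map θ ≫ g) hθ
  have e₀ : 𝒳.p.obj x₀ = 𝒴.p.obj z' := IsHomLift.domain_eq 𝒳.p (𝒴.p.map θ ≫ g) a
  have hpa : 𝒳.p.map a = eqToHom e₀ ≫ 𝒴.p.map θ ≫ g := by
    rw [IsHomLift.fac' 𝒳.p (𝒴.p.map θ ≫ g) a]; simp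
  obtain ⟨c, hc, hca⟩ := exists_factor h.fy (π.map a) (θ ≫ c₁) (eqToHom (e₀.symm.trans (π.w_obj x₀).symm))
    (by rw [pmap_map, hpa, Functor.map_comp, hp₁]; simp [g])
  haveI : IsIso (𝒴.p.map c) := by rw [hc]; infer_instance
  refine ⟨x₀, a ≫ χ₁, a' ≫ χ₂, c, isIso_of_map h.fy c, ?_, ?_⟩
  · rw [π.toFunctor.map_comp, reassoc_of% hca, hc₁]
  · rw [π.toFunctor.map_comp, ← hab, Category.assoc, reassoc_of% hca]
    simp [b, hc₂]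

variable (π)

/-- The sieve below `η` of morphisms factoring through the image of an object upstairs. -/
def liftSieve (η : 𝒴.obj) : Sieve (𝒴.p.obj η) where
  arrows _ f := ∃ (ξ : 𝒳.obj) (m : π.obj ξ ⟶ η) (t : _ ⟶ 𝒴.p.obj (π.obj ξ)), t ≫ 𝒴.p.map m = f
  downward_closed := fun {_ _ _} hf g => by
    obtain ⟨ξ, m, t, ht⟩ := hf
    exact ⟨ξ, m, g ≫ t, by rw [Category.assoc, ht]⟩

variable {π}

theorem qCov_liftSieve (h : LocHyp π) (η : 𝒴.obj) : QCov _ (liftSieve π η) := by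
  obtain ⟨R, hR, hR'⟩ := h.surj η
  refine QCov.mono hR fun V f hf => ?_
  obtain ⟨x, g, hg⟩ := hR' f hf
  exact ⟨x, g, eqToHom (IsHomLift.domain_eq 𝒴.p f g).symm, by rw [IsHomLift.fac' 𝒴.p f g]; simp⟩

theorem exists_of_liftSieve (h : LocHyp π) {z η : 𝒴.obj} {φ : z ⟶ η} (hφ : liftSieve π η (𝒴.p.map φ)) :
    ∃ (ξ : 𝒳.obj) (m : π.obj ξ ⟶ η) (ψ : z ⟶ π.obj ξ), ψ ≫ m = φ := by
  obtain ⟨ξ, m, t, ht⟩ := hφ
  obtain ⟨ψ, -, hψ⟩ := exists_factor h.fy m φ t ht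
  exact ⟨ξ, m, ψ, hψ⟩

end Groth.Agent.QDesc10
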