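import Groth.Agent.QDesc10.Sheaf
import Groth.Agent.QDesc10.Refine
import Groth.Agent.QDesc10.Comap

/-!
# Inverse image of quasi-coherent modules along a locally bijective functor is fully faithful
-/

set_option autoImplicit false
set_option backward.isDefEq.respectTransparency false
set_option backward.isDefEq.respectTransparency.types false
set_option linter.style.haveILetI false

universe v v' w w' u

open CategoryTheory CategoryTheory.Limits AlgebraicGeometry TopologicalSpace Opposite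

namespace Groth.Agent.QDesc10

open Groth.Agent.AModX

/-- A morphism of modules from maps of sections. -/
noncomputable def mkModHom {X : Scheme.{u}} {M N : X.Modules} (a : ∀ U : X.Opens, Γ(M, U) →+ Γ(N, U))
    (hres : ∀ {U V : X.Opens} (i : V ≤ U) (x : Γ(M, U)), a V (res M i x) = res N i (a U x))
    (hsmul : ∀ (U : X.Opens) (c : Γ(X, U)) (x : Γ(M, U)), a U (c • x) = c • a U x) : M ⟶ N :=
  { val := PresheafOfModules.homMk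
      { app := fun V => AddCommGrpCat.ofHom (a V.unop)
        naturality := fun V W i => by
          ext x
          exact hres i.unop.le x }
      (fun V c x => hsmul V.unop c x) }

@[simp] theorem mkModHom_app {X : Scheme.{u}} {M N : X.Modules} (a : ∀ U : X.Opens, Γ(M, U) →+ Γ(N, U))
    (hres : ∀ {U V : X.Opens} (i : V ≤ U) (x : Γ(M, U)), a V (res M i x) = res N i (a U x))
    (hsmul : ∀ (U : X.Opens) (c : Γ(X, U)) (x : Γ(M, U)), a U (c • x) = c • a U x) (U : X.Opens) (x : Γ(M, U)) :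
    (mkModHom a hres hsmul).app U x = a U x := rfl

theorem exists_castHom {X T : Scheme.{u}} (h : X = T) {M N : X.Modules}
    (b : StMod.castMod h M ⟶ StMod.castMod h N) : ∃ a : M ⟶ N, StMod.castHom h a = b := by
  subst h; exact ⟨b, rfl⟩

theorem castHom_injective {X T : Scheme.{u}} (h : X = T) {M N : X.Modules} {a a' : M ⟶ N}
    (e : StMod.castHom h a = StMod.castHom h a') : a = a' := by
  subst h; exact e

variable {S : Scheme.{u}} {𝒳 : BasedCategory.{v, w} (Over S)} {𝒴 : BasedCategory.{v', w'} (Over S)}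
  {π : 𝒳 ⥤ᵇ 𝒴} (hπ : LocHyp π) {G G' : StMod.Mod 𝒴}
  (hc' : G'.IsCartesian) (hq' : G'.IsLocQCoh)

/-- A family of morphisms on the objects in the image, natural along morphisms in the image. -/
structure HomFam (π : 𝒳 ⥤ᵇ 𝒴) (G G' : StMod.Mod 𝒴) where
  /-- the morphisms -/
  app : ∀ ξ : 𝒳.obj, G.obj (π.obj ξ) ⟶ G'.obj (π.obj ξ)
  nat : ∀ {ξ' ξ : 𝒳.obj} (φ : ξ' ⟶ ξ) (U : (StMod.sch 𝒴 (π.obj ξ)).Opens) (x : Γ(G.obj (π.obj ξ), U)),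
    (app ξ').app (StMod.bmap 𝒴 (π.map φ) ⁻¹ᵁ U) (tra G (π.map φ) le_rfl x) =
      tra G' (π.map φ) le_rfl ((app ξ).app U x)

variable (a : HomFam π G G')

theorem HomFam.nat' {ξ' ξ : 𝒳.obj} (φ : ξ' ⟶ ξ) {U : (StMod.sch 𝒴 (π.obj ξ)).Opens}
    {U' : (StMod.sch 𝒴 (π.obj ξ')).Opens} (h : U' ≤ StMod.bmap 𝒴 (π.map φ) ⁻¹ᵁ U) (x : Γ(G.obj (π.obj ξ), U)) :
    (a.app ξ').app U' (tra G (π.map φ) h x) = tra G' (π.map φ) h ((a.app ξ).app U x) := by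
  have h1 := congrArg (res (G'.obj (π.obj ξ')) h) (a.nat φ U x)
  rwa [← app_res, res_tra, res_tra] at h1

/-- The value of the descended morphism along a factorisation through the image. -/
noncomputable def facVal {w η : 𝒴.obj} {U : (StMod.sch 𝒴 η).Opens} (x : Γ(G.obj η, U)) {ξ : 𝒳.obj}
    (m : π.obj ξ ⟶ η) (ψ : w ⟶ π.obj ξ) (O : (StMod.sch 𝒴 w).Opens)
    (hO : O ≤ StMod.bmap 𝒴 ψ ⁻¹ᵁ (StMod.bmap 𝒴 m ⁻¹ᵁ U)) : Γ(G'.obj w, O) :=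
  tra G' ψ hO ((a.app ξ).app _ (tra G m le_rfl x))

include hπ hc' hq' in
theorem facVal_unique {w η : 𝒴.obj} {U : (StMod.sch 𝒴 η).Opens} (x : Γ(G.obj η, U)) {ξ₁ ξ₂ : 𝒳.obj}
    (m₁ : π.obj ξ₁ ⟶ η) (ψ₁ : w ⟶ π.obj ξ₁) (m₂ : π.obj ξ₂ ⟶ η) (ψ₂ : w ⟶ π.obj ξ₂)
    (e : ψ₁ ≫ m₁ = ψ₂ ≫ m₂) {O : (StMod.sch 𝒴 w).Opens}
    (hO₁ : O ≤ StMod.bmap 𝒴 ψ₁ ⁻¹ᵁ (StMod.bmap 𝒴 m₁ ⁻¹ᵁ U))
    (hO₂ : O ≤ StMod.bmap 𝒴 ψ₂ ⁻¹ᵁ (StMod.bmap 𝒴 m₂ ⁻¹ᵁ U)) :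
    facVal a x m₁ ψ₁ O hO₁ = facVal a x m₂ ψ₂ O hO₂ := by
  obtain ⟨R, hR, hR'⟩ := exists_refine hπ ψ₁ ψ₂
  refine ext_sec hπ.fy hc' hq' hR fun z' θ hθ => ?_
  obtain ⟨z, φ₁, φ₂, c, _, h₁, h₂⟩ := hR' θ hθ
  let O' := StMod.bmap 𝒴 θ ⁻¹ᵁ O
  let O₀ := StMod.bmap 𝒴 (inv c) ⁻¹ᵁ O'
  have hc0 : O' ≤ StMod.bmap 𝒴 c ⁻¹ᵁ O₀ := by
    rw [show StMod.bmap 𝒴 c ⁻¹ᵁ O₀ = (StMod.bmap 𝒴 c ≫ StMod.bmap 𝒴 (inv c)) ⁻¹ᵁ O' from rfl,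
      ← StMod.bmap_comp, IsIso.hom_inv_id, StMod.bmap_id]
    exact le_rfl
  have hcc : ∀ {W : (StMod.sch 𝒴 z').Opens}, StMod.bmap 𝒴 (inv c) ⁻¹ᵁ (StMod.bmap 𝒴 c ⁻¹ᵁ
      (StMod.bmap 𝒴 (inv c) ⁻¹ᵁ W)) = StMod.bmap 𝒴 (inv c) ⁻¹ᵁ W := fun {W} => by
    rw [show StMod.bmap 𝒴 c ⁻¹ᵁ (StMod.bmap 𝒴 (inv c) ⁻¹ᵁ W) =
      (StMod.bmap 𝒴 c ≫ StMod.bmap 𝒴 (inv c)) ⁻¹ᵁ W from rfl, ← StMod.bmap_comp, IsIso.hom_inv_id, StMod.bmap_id]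
    rfl
  have key : ∀ {ξ : 𝒳.obj} (m : π.obj ξ ⟶ η) (ψ : w ⟶ π.obj ξ) (φ : z ⟶ ξ)
      (hO : O ≤ StMod.bmap 𝒴 ψ ⁻¹ᵁ (StMod.bmap 𝒴 m ⁻¹ᵁ U)) (h : c ≫ π.map φ = θ ≫ ψ)
      (kz : O₀ ≤ StMod.bmap 𝒴 (π.map φ ≫ m) ⁻¹ᵁ U),
      tra G' θ (U' := O') le_rfl (facVal a x m ψ O hO) =
        tra G' c hc0 ((a.app z).app O₀ (tra G (π.map φ ≫ m) kz x)) := by
    intro ξ m ψ φ hO h kz
    have k1 : O₀ ≤ StMod.bmap 𝒴 (π.map φ) ⁻¹ᵁ (StMod.bmap 𝒴 m ⁻¹ᵁ U) := by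
      rw [StMod.bmap_comp] at kz; exact kz
    have k2 : O' ≤ StMod.bmap 𝒴 (θ ≫ ψ) ⁻¹ᵁ (StMod.bmap 𝒴 m ⁻¹ᵁ U) := by
      rw [StMod.bmap_comp]; exact (StMod.bmap 𝒴 θ).preimage_mono hO
    rw [facVal, tra_comp θ ψ hO le_rfl k2, ← tra_comp (π.map φ) m le_rfl k1 kz, a.nat' φ k1,
      tra_comp c (π.map φ) k1 hc0 (h ▸ k2)]
    exact tra_congr h.symm _ _ _
  have kz : ∀ {ξ : 𝒳.obj} (m : π.obj ξ ⟶ η) (ψ : w ⟶ π.obj ξ) (φ : z ⟶ ξ)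
      (hO : O ≤ StMod.bmap 𝒴 ψ ⁻¹ᵁ (StMod.bmap 𝒴 m ⁻¹ᵁ U)) (h : c ≫ π.map φ = θ ≫ ψ),
      O₀ ≤ StMod.bmap 𝒴 (π.map φ ≫ m) ⁻¹ᵁ U := by
    intro ξ m ψ φ hO h
    have e' : π.map φ ≫ m = inv c ≫ θ ≫ ψ ≫ m := by rw [IsIso.eq_inv_comp, reassoc_of% h]
    rw [e', StMod.bmap_comp, StMod.bmap_comp, StMod.bmap_comp]
    exact (StMod.bmap 𝒴 (inv c)).preimage_mono ((StMod.bmap 𝒴 θ).preimage_mono hO)
  rw [key m₁ ψ₁ φ₁ hO₁ h₁ (kz m₁ ψ₁ φ₁ hO₁ h₁), key m₂ ψ₂ φ₂ hO₂ h₂ (kz m₂ ψ₂ φ₂ hO₂ h₂)]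
  have em : π.map φ₁ ≫ m₁ = π.map φ₂ ≫ m₂ := by
    rw [← cancel_epi c, reassoc_of% h₁, e, reassoc_of% h₂]
  exact congrArg _ (congrArg _ (tra_congr em _ _ _))

include hπ hc' hq' in
theorem exists_extend {η : 𝒴.obj} (U : (StMod.sch 𝒴 η).Opens) (x : Γ(G.obj η, U)) :
    ∃ y : Γ(G'.obj η, U), ∀ {ξ : 𝒳.obj} (m : π.obj ξ ⟶ η),
      tra G' m le_rfl y = (a.app ξ).app _ (tra G m le_rfl x) := by
  choose ξ m ψ hψ using fun (z : 𝒴.obj) (φ : z ⟶ η) (hφ : liftSieve π η (𝒴.p.map φ)) =>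
    exists_of_liftSieve hπ hφ
  have hpre : ∀ (z : 𝒴.obj) (φ : z ⟶ η) (hφ : liftSieve π η (𝒴.p.map φ)),
      StMod.bmap 𝒴 φ ⁻¹ᵁ U ≤ StMod.bmap 𝒴 (ψ z φ hφ) ⁻¹ᵁ (StMod.bmap 𝒴 (m z φ hφ) ⁻¹ᵁ U) := fun z φ hφ => by
    rw [← preimage_comp, hψ z φ hφ]
  let y : Mt G' (liftSieve π η) U :=
    { val := fun z φ hφ => facVal a x (m z φ hφ) (ψ z φ hφ) _ (hpre z φ hφ)
      compat := fun z' z χ φ hφ hχ le => by
        have k : StMod.bmap 𝒴 (χ ≫ φ) ⁻¹ᵁ U ≤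
            StMod.bmap 𝒴 (χ ≫ ψ z φ hφ) ⁻¹ᵁ (StMod.bmap 𝒴 (m z φ hφ) ⁻¹ᵁ U) := by
          rw [← preimage_comp, Category.assoc, hψ z φ hφ]
        rw [facVal, tra_comp χ _ _ le k]
        exact facVal_unique hπ hc' hq' a x (m z φ hφ) (χ ≫ ψ z φ hφ) (m z' (χ ≫ φ) hχ) (ψ z' (χ ≫ φ) hχ)
          (by rw [Category.assoc, hψ z φ hφ, hψ z' (χ ≫ φ) hχ]) k _ }
  obtain ⟨y₀, hy₀⟩ := exists_sec hπ.fy hc' hq' (qCov_liftSieve hπ η) y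
  refine ⟨y₀, fun {ξ'} m' => ?_⟩
  have hm : liftSieve π η (𝒴.p.map m') := ⟨ξ', m', 𝟙 _, Category.id_comp _⟩
  rw [hy₀ m' hm]
  have k : StMod.bmap 𝒴 m' ⁻¹ᵁ U ≤ StMod.bmap 𝒴 (𝟙 (π.obj ξ')) ⁻¹ᵁ (StMod.bmap 𝒴 m' ⁻¹ᵁ U) := by
    rw [StMod.bmap_id]; exact le_rfl
  refine (facVal_unique hπ hc' hq' a x (m _ m' hm) (ψ _ m' hm) m' (𝟙 _) (by rw [hψ]; simp) _ k).trans ?_
  rw [facVal, tra_id k le_rfl, res_self]

include hπ hc' hq' in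
/-- Two sections agreeing after transport to all lifts are equal. -/
theorem ext_lift {η : 𝒴.obj} {U : (StMod.sch 𝒴 η).Opens} {y y' : Γ(G'.obj η, U)}
    (H : ∀ {ξ : 𝒳.obj} (m : π.obj ξ ⟶ η),
      tra G' m (U' := StMod.bmap 𝒴 m ⁻¹ᵁ U) le_rfl y = tra G' m le_rfl y') : y = y' := by
  refine ext_sec hπ.fy hc' hq' (qCov_liftSieve hπ η) fun z φ hφ => ?_
  obtain ⟨ξ, m, ψ, e⟩ := exists_of_liftSieve hπ hφ
  subst e
  have k : StMod.bmap 𝒴 (ψ ≫ m) ⁻¹ᵁ U ≤ StMod.bmap 𝒴 ψ ⁻¹ᵁ (StMod.bmap 𝒴 m ⁻¹ᵁ U) := (preimage_comp _ _ _).le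
  rw [← tra_comp ψ m le_rfl k le_rfl, ← tra_comp ψ m le_rfl k le_rfl, H m]

include hπ hc' hq' in
/-- A natural family of morphisms on the image extends to a morphism. -/
theorem exists_hom_of_homFam : ∃ u : G ⟶ G', ∀ ξ, u.app (π.obj ξ) = a.app ξ := by
  choose f hf using fun (η : 𝒴.obj) (U : (StMod.sch 𝒴 η).Opens) (x : Γ(G.obj η, U)) =>
    exists_extend hπ hc' hq' a U x
  let fh : ∀ η U, Γ(G.obj η, U) →+ Γ(G'.obj η, U) := fun η U => AddMonoidHom.mk' (f η U) fun x x' =>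
    ext_lift hπ hc' hq' fun m => by rw [map_add, hf, hf, hf, map_add, map_add]
  let F₀ : ∀ η, G.obj η ⟶ G'.obj η := fun η => mkModHom (fh η)
    (fun {U V} i x => ext_lift hπ hc' hq' fun {ξ} m => by
      show tra G' m _ (f η V (res _ i x)) = tra G' m _ (res _ i (f η U x))
      rw [hf, tra_res, tra_res, ← res_tra m le_rfl ((StMod.bmap 𝒴 m).preimage_mono i),
        ← res_tra m le_rfl ((StMod.bmap 𝒴 m).preimage_mono i), app_res, hf])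
    (fun U c x => ext_lift hπ hc' hq' fun {ξ} m => by
      show tra G' m _ (f η U (c • x)) = tra G' m _ (c • f η U x)
      rw [hf, tra_smul, tra_smul, Scheme.Modules.Hom.app_smul, hf])
  refine ⟨⟨F₀, fun {η' η} β g hg => comm_of_tra F₀ (fun {η' η} β U x => ?_) β hg⟩, fun ξ => ?_⟩
  · refine ext_lift hπ hc' hq' fun {ξ} m => ?_
    show tra G' m le_rfl (f η' _ (tra G β le_rfl x)) = tra G' m le_rfl (tra G' β le_rfl (f η U x))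
    have k := (preimage_comp m β U).ge
    rw [hf, tra_comp m β le_rfl le_rfl k, tra_comp m β le_rfl le_rfl k, ← res_tra (m ≫ β) le_rfl k,
      ← res_tra (m ≫ β) le_rfl k, hf η U x (m ≫ β), app_res]
  · refine Scheme.Modules.hom_ext _ _ fun U => ?_
    ext x
    refine ext_lift hπ hc' hq' fun {ξ'} m => ?_
    show tra G' m le_rfl (f (π.obj ξ) U x) = tra G' m le_rfl ((a.app ξ).app U x)
    rw [hf]
    have k : StMod.bmap 𝒴 m ⁻¹ᵁ U ≤ StMod.bmap 𝒴 m ⁻¹ᵁ (StMod.bmap 𝒴 (𝟙 (π.obj ξ)) ⁻¹ᵁ U) := by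
      rw [StMod.bmap_id]; exact le_rfl
    have k' : StMod.bmap 𝒴 m ⁻¹ᵁ U ≤ StMod.bmap 𝒴 (𝟙 (π.obj ξ')) ⁻¹ᵁ (StMod.bmap 𝒴 m ⁻¹ᵁ U) := by
      rw [StMod.bmap_id]; exact le_rfl
    have h := facVal_unique hπ hc' hq' a x m (𝟙 _) (𝟙 (π.obj ξ)) m (by simp) k' k
    rw [facVal, facVal, tra_id k' le_rfl, res_self] at h
    rw [h, tra_id (ξ := π.obj ξ) le_rfl (by rw [StMod.bmap_id]; exact le_rfl), app_res, tra_res]

variable {a}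

include hπ hc' hq' in
theorem hom_ext_of_image {u v : G ⟶ G'} (H : ∀ ξ, u.app (π.obj ξ) = v.app (π.obj ξ)) : u = v := by
  refine StMod.Mod.hom_ext fun η => Scheme.Modules.hom_ext _ _ fun U => ?_
  ext x
  refine ext_lift hπ hc' hq' fun {ξ} m => ?_
  rw [← tra_app u m le_rfl x, ← tra_app v m le_rfl x, H ξ]

include hπ hc' hq' in
theorem exists_comapMap_eq (b : StMod.Mod.comap π G ⟶ StMod.Mod.comap π G') :
    ∃! u : G ⟶ G', StMod.Mod.comapMap π u = b := by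
  choose a ha using fun ξ => exists_castHom (StMod.sch_obj_eq π ξ) (b.app ξ)
  have hd : ∀ ξ U x, (b.app ξ).app (eo π ξ ⁻¹ᵁ U) (dn G ξ U x) = dn G' ξ U ((a ξ).app U x) := fun ξ U x => by
    rw [← ha]; exact castHom_castSec _ _ _ x
  let A : HomFam π G G' := ⟨a, fun {ξ' ξ} φ U x => by
    refine (dn G' ξ' _).injective ?_
    rw [← hd, ← tra_dn G φ le_rfl (eo_preimage_bmap φ U).le x, tra_app, hd,
      tra_dn G' φ le_rfl (eo_preimage_bmap φ U).le]⟩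
  obtain ⟨u, hu⟩ := exists_hom_of_homFam hπ hc' hq' A
  refine ⟨u, StMod.Mod.hom_ext fun ξ => ?_, fun u' hu' => hom_ext_of_image hπ hc' hq' fun ξ => ?_⟩
  · rw [StMod.Mod.comapMap_app, hu ξ]; exact ha ξ
  · refine castHom_injective (StMod.sch_obj_eq π ξ) ?_
    rw [← StMod.Mod.comapMap_app, hu', hu ξ]
    exact (ha ξ).symm

include hπ in
/-- Inverse image of quasi-coherent modules is fully faithful. -/
theorem full_and_faithful : (StMod.comapQ π).Full ∧ (StMod.comapQ π).Faithful := by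
  refine ⟨⟨fun {G G'} b => ?_⟩, ⟨fun {G G'} u v e => ?_⟩⟩
  · obtain ⟨u, hu, -⟩ := exists_comapMap_eq hπ G'.property.1 G'.property.2 b.hom
    exact ⟨ObjectProperty.homMk u, ObjectProperty.hom_ext _ hu⟩
  · refine ObjectProperty.hom_ext _ ((exists_comapMap_eq hπ G'.property.1 G'.property.2 _).unique
      (congrArg (fun t => t.hom) e) rfl)

end Groth.Agent.QDesc10
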