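import Groth.Agent.QDesc10.GlueMod

/-!
# The descended module and its inverse image
-/

set_option autoImplicit false
set_option backward.isDefEq.respectTransparency false
set_option backward.isDefEq.respectTransparency.types false
set_option linter.style.haveILetI false

universe v v' w w' u

open CategoryTheory CategoryTheory.Limits AlgebraicGeometry TopologicalSpace Opposite

namespace Groth.Agent.QDesc10

open Groth.Agent.AModX

variable {S : Scheme.{u}} {𝒵 : BasedCategory.{v, w} (Over S)} {𝒴 : BasedCategory.{v', w'} (Over S)}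
  {ρ : 𝒵 ⥤ᵇ 𝒴} {F : StMod.Mod 𝒵} (hρ : FFHyp ρ) (hc : F.IsCartesian) (hq : F.IsLocQCoh)
  {η : 𝒴.obj} {U : (StMod.sch 𝒴 η).Opens} {ξ : 𝒵.obj}

/-- The value of a section on a lift. -/
noncomputable def val (m : ρ.obj ξ ⟶ η) (s : grp hρ F η U) : Γ(F.obj ξ, gm m ⁻¹ᵁ U) :=
  value hρ hc hq m (hgen hρ.loc m) (s := s.1) s.2

theorem tra_val (m : ρ.obj ξ ⟶ η) (s : grp hρ F η U) {z : 𝒵.obj} (a : z ⟶ ξ) {O : (StMod.sch 𝒵 z).Opens}
    (hO : O ≤ StMod.bmap 𝒵 a ⁻¹ᵁ (gm m ⁻¹ᵁ U)) :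
    tra F a hO (val hρ hc hq m s) = res _ (hO.trans (pre_map a m).ge) (val hρ hc hq (ρ.map a ≫ m) s) := by
  refine ext_value hρ hc hq (ρ.map a ≫ m) (hgen hρ.loc _) fun i z' a' b e => ?_
  have e' : ρ.map (a' ≫ a) ≫ m = ρ.map b ≫ (ch hρ.loc η).hom i := by
    rw [ρ.toFunctor.map_comp, Category.assoc, e]
  have k : StMod.bmap 𝒵 a' ⁻¹ᵁ O ≤ StMod.bmap 𝒵 (a' ≫ a) ⁻¹ᵁ (gm m ⁻¹ᵁ U) := by
    rw [StMod.bmap_comp]; exact (StMod.bmap 𝒵 a').preimage_mono hO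
  rw [tra_comp a' a hO le_rfl k, tra_res, val, val, tra_value hρ hc hq m _ _ (a' ≫ a) b e' k,
    tra_value hρ hc hq (ρ.map a ≫ m) _ _ a' b e]

theorem res_val_congr {m m' : ρ.obj ξ ⟶ η} (e : m = m') (s : grp hρ F η U) {O : (StMod.sch 𝒵 ξ).Opens}
    (h : O ≤ gm m ⁻¹ᵁ U) (h' : O ≤ gm m' ⁻¹ᵁ U) :
    res _ h (val hρ hc hq m s) = res _ h' (val hρ hc hq m' s) := by
  subst e; rfl

theorem tra_val_congr {ξ' : 𝒵.obj} (m : ρ.obj ξ ⟶ η) (m' : ρ.obj ξ' ⟶ η) {z : 𝒵.obj} (a : z ⟶ ξ) (b : z ⟶ ξ')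
    (e : ρ.map a ≫ m = ρ.map b ≫ m') (s : grp hρ F η U) {O : (StMod.sch 𝒵 z).Opens}
    (ha : O ≤ StMod.bmap 𝒵 a ⁻¹ᵁ (gm m ⁻¹ᵁ U)) (hb : O ≤ StMod.bmap 𝒵 b ⁻¹ᵁ (gm m' ⁻¹ᵁ U)) :
    tra F a ha (val hρ hc hq m s) = tra F b hb (val hρ hc hq m' s) := by
  rw [tra_val, tra_val]
  exact res_val_congr hρ hc hq e s _ _

theorem val_self (i : (ch hρ.loc η).ι) (s : grp hρ F η U) :
    val hρ hc hq ((ch hρ.loc η).hom i) s = s.1 i :=
  (value_unique hρ hc hq _ _ s.2 fun j z a b e => s.2 i j z a b e _ le_rfl (link_le e)).symm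

theorem val_add (m : ρ.obj ξ ⟶ η) (s s' : grp hρ F η U) :
    val hρ hc hq m (s + s') = val hρ hc hq m s + val hρ hc hq m s' :=
  (value_unique hρ hc hq m _ (s + s').2 fun i z a b e => by
    rw [map_add, val, val, tra_value hρ hc hq m _ _ a b e le_rfl, tra_value hρ hc hq m _ _ a b e le_rfl,
      ← map_add]
    rfl).symm

theorem val_smul (m : ρ.obj ξ ⟶ η) (r : Γ(StMod.sch 𝒴 η, U)) (s : grp hρ F η U) :
    val hρ hc hq m (r • s) = (gm m).app U r • val hρ hc hq m s :=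
  (value_unique hρ hc hq m _ (r • s).2 fun i z a b e => by
    rw [smul_grp_val, tra_smul, tra_smul, val, tra_value hρ hc hq m _ _ a b e le_rfl, appLE_gm, appLE_gm]
    congr 2
    simp only [e]).symm

theorem val_res {V : (StMod.sch 𝒴 η).Opens} (i : V ≤ U) (m : ρ.obj ξ ⟶ η) (s : grp hρ F η U) :
    val hρ hc hq m (gres hρ F i s) = res _ ((gm m).preimage_mono i) (val hρ hc hq m s) :=
  (value_unique hρ hc hq m _ (gres hρ F i s).2 fun j z a b e => by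
    rw [tra_res, gres_val, tra_res, val, tra_value hρ hc hq m _ _ a b e]).symm

variable {η' η'' : 𝒴.obj}

theorem pre_comp_le (m : ρ.obj ξ ⟶ η') {β : η' ⟶ η} {U' : (StMod.sch 𝒴 η').Opens}
    (h : U' ≤ StMod.bmap 𝒴 β ⁻¹ᵁ U) : gm m ⁻¹ᵁ U' ≤ gm (m ≫ β) ⁻¹ᵁ U := by
  rw [gm_comp]; exact (gm m).preimage_mono h

/-- Transport of compatible families. -/
noncomputable def mapG (β : η' ⟶ η) {U' : (StMod.sch 𝒴 η').Opens} (h : U' ≤ StMod.bmap 𝒴 β ⁻¹ᵁ U)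
    (s : grp hρ F η U) : grp hρ F η' U' :=
  ⟨fun i => res _ (pre_comp_le _ h) (val hρ hc hq ((ch hρ.loc η').hom i ≫ β) s), fun i j z a b e O ha hb => by
    rw [tra_res, tra_res]
    exact tra_val_congr hρ hc hq _ _ a b (by rw [reassoc_of% e]) s _ _⟩

theorem mapG_val (β : η' ⟶ η) {U' : (StMod.sch 𝒴 η').Opens} (h : U' ≤ StMod.bmap 𝒴 β ⁻¹ᵁ U)
    (s : grp hρ F η U) (i : (ch hρ.loc η').ι) :
    (mapG hρ hc hq β h s).1 i = res _ (pre_comp_le _ h) (val hρ hc hq ((ch hρ.loc η').hom i ≫ β) s) := rfl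

theorem val_mapG (m : ρ.obj ξ ⟶ η') (β : η' ⟶ η) {U' : (StMod.sch 𝒴 η').Opens}
    (h : U' ≤ StMod.bmap 𝒴 β ⁻¹ᵁ U) (s : grp hρ F η U) :
    val hρ hc hq m (mapG hρ hc hq β h s) = res _ (pre_comp_le m h) (val hρ hc hq (m ≫ β) s) :=
  (value_unique hρ hc hq m _ (mapG hρ hc hq β h s).2 fun i z a b e => by
    rw [tra_res, mapG_val, tra_res]
    exact tra_val_congr hρ hc hq _ _ a b (by rw [reassoc_of% e]) s _ _).symm

theorem mapG_id {U' : (StMod.sch 𝒴 η).Opens} (h : U' ≤ StMod.bmap 𝒴 (𝟙 η) ⁻¹ᵁ U) (i : U' ≤ U)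
    (s : grp hρ F η U) : mapG hρ hc hq (𝟙 η) h s = gres hρ F i s :=
  grp_ext hρ F fun j => by
    rw [mapG_val, gres_val, ← val_self hρ hc hq j s]
    exact res_val_congr hρ hc hq (Category.comp_id _) s _ _

theorem mapG_comp (β : η' ⟶ η) (α : η'' ⟶ η') {U' : (StMod.sch 𝒴 η').Opens} {U'' : (StMod.sch 𝒴 η'').Opens}
    (h : U' ≤ StMod.bmap 𝒴 β ⁻¹ᵁ U) (h' : U'' ≤ StMod.bmap 𝒴 α ⁻¹ᵁ U')
    (k : U'' ≤ StMod.bmap 𝒴 (α ≫ β) ⁻¹ᵁ U) (s : grp hρ F η U) :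
    mapG hρ hc hq α h' (mapG hρ hc hq β h s) = mapG hρ hc hq (α ≫ β) k s :=
  grp_ext hρ F fun i => by
    rw [mapG_val, mapG_val, val_mapG, res_res]
    exact res_val_congr hρ hc hq (Category.assoc _ _ _) s _ _

theorem mapG_res (β : η' ⟶ η) {V : (StMod.sch 𝒴 η).Opens} {U' V' : (StMod.sch 𝒴 η').Opens}
    (h : U' ≤ StMod.bmap 𝒴 β ⁻¹ᵁ U) (i : V ≤ U) (h' : V' ≤ StMod.bmap 𝒴 β ⁻¹ᵁ V) (i' : V' ≤ U')
    (s : grp hρ F η U) : mapG hρ hc hq β h' (gres hρ F i s) = gres hρ F i' (mapG hρ hc hq β h s) :=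
  grp_ext hρ F fun j => by
    rw [mapG_val, gres_val, mapG_val, val_res, res_res, res_res]

theorem mapG_smul (β : η' ⟶ η) (r : Γ(StMod.sch 𝒴 η, U)) (s : grp hρ F η U) :
    mapG hρ hc hq β (U' := StMod.bmap 𝒴 β ⁻¹ᵁ U) le_rfl (r • s) =
      (StMod.bmap 𝒴 β).app U r • mapG hρ hc hq β le_rfl s :=
  grp_ext hρ F fun i => by
    rw [mapG_val, smul_grp_val, mapG_val, val_smul, res_smul]
    refine congrArg (· • _) ?_
    have key : ∀ {X Y Z : Scheme.{u}} {g : X ⟶ Z} (g₁ : X ⟶ Y) (g₂ : Y ⟶ Z) (_ : g = g₁ ≫ g₂) (O : Z.Opens)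
        (le : g₁ ⁻¹ᵁ (g₂ ⁻¹ᵁ O) ≤ g ⁻¹ᵁ O) (c : Γ(Z, O)),
        resR le (g.app O c) = g₁.app (g₂ ⁻¹ᵁ O) (g₂.app O c) := by
      intro X Y Z g g₁ g₂ e O le c
      subst e
      exact resR_self _
    exact key _ _ (gm_comp _ _) U _ r

theorem le_bmap {β : η' ⟶ η} {g : StMod.sch 𝒴 η' ⟶ StMod.sch 𝒴 η} (hg : StMod.bmap 𝒴 β = g)
    (U : (StMod.sch 𝒴 η).Opens) : g ⁻¹ᵁ U ≤ StMod.bmap 𝒴 β ⁻¹ᵁ U := by
  subst hg; exact le_rfl

/-- The comparison map of the descended module. -/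
noncomputable def glMap (β : η' ⟶ η) {g : StMod.sch 𝒴 η' ⟶ StMod.sch 𝒴 η} (hg : StMod.bmap 𝒴 β = g) :
    glObj hρ F η ⟶ (Scheme.Modules.pushforward g).obj (glObj hρ F η') :=
  mkModHom (N := (Scheme.Modules.pushforward g).obj (glObj hρ F η'))
    (fun U => AddMonoidHom.mk' (fun s => (show Γ((Scheme.Modules.pushforward g).obj (glObj hρ F η'), U) from
        ofFam hρ F (mapG hρ hc hq β (le_bmap hg U) (toFam hρ F s))))
      (fun s s' => grp_ext hρ F fun i => by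
        show res _ _ (val hρ hc hq _ (toFam hρ F s + toFam hρ F s')) = _
        rw [val_add, map_add]
        rfl))
    (fun {U V} i s => mapG_res hρ hc hq β (le_bmap hg U) i (le_bmap hg V) (g.preimage_mono i) (toFam hρ F s))
    (fun U r s => by
      subst hg
      exact mapG_smul hρ hc hq β r (toFam hρ F s))

theorem glMap_app (β : η' ⟶ η) {g : StMod.sch 𝒴 η' ⟶ StMod.sch 𝒴 η} (hg : StMod.bmap 𝒴 β = g)
    (U : (StMod.sch 𝒴 η).Opens) (s : Γ(glObj hρ F η, U)) :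
    (glMap hρ hc hq β hg).app U s = ofFam hρ F (mapG hρ hc hq β (le_bmap hg U) (toFam hρ F s)) := rfl

theorem glMap_id (η : 𝒴.obj) :
    glMap hρ hc hq (𝟙 η) (StMod.bmap_id η) ≫
      (Scheme.Modules.pushforwardId (StMod.sch 𝒴 η)).hom.app (glObj hρ F η) = 𝟙 (glObj hρ F η) := by
  refine Scheme.Modules.hom_ext _ _ fun U => ?_
  ext s
  exact (mapG_id hρ hc hq (U' := U) (le_bmap (StMod.bmap_id η) U) le_rfl (toFam hρ F s)).trans
    (grp_ext hρ F fun i => res_self _)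

theorem glMap_comp (α : η'' ⟶ η') (β : η' ⟶ η) {h : StMod.sch 𝒴 η'' ⟶ StMod.sch 𝒴 η'}
    {g : StMod.sch 𝒴 η' ⟶ StMod.sch 𝒴 η} (hh : StMod.bmap 𝒴 α = h) (hg : StMod.bmap 𝒴 β = g)
    (hk : StMod.bmap 𝒴 (α ≫ β) = h ≫ g) :
    glMap hρ hc hq (α ≫ β) hk = glMap hρ hc hq β hg ≫
      (Scheme.Modules.pushforward g).map (glMap hρ hc hq α hh) ≫
        (Scheme.Modules.pushforwardComp h g).hom.app (glObj hρ F η'') := by
  refine Scheme.Modules.hom_ext _ _ fun U => ?_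
  ext s
  exact (mapG_comp hρ hc hq β α (le_bmap hg U) (le_bmap hh (g ⁻¹ᵁ U)) (le_bmap hk U) (toFam hρ F s)).symm

/-- The descended module. -/
noncomputable def glMod : StMod.Mod 𝒴 where
  obj η := glObj hρ F η
  map {η' η} β g hg := glMap hρ hc hq β hg
  map_id η := glMap_id hρ hc hq η
  map_comp {η'' η' η} α β h g hh hg := glMap_comp hρ hc hq α β hh hg _

theorem tra_glMod (β : η' ⟶ η) {U' : (StMod.sch 𝒴 η').Opens} (h : U' ≤ StMod.bmap 𝒴 β ⁻¹ᵁ U)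
    (s : grp hρ F η U) :
    tra (glMod hρ hc hq) β h (ofFam hρ F s) = ofFam hρ F (mapG hρ hc hq β h s) := by
  refine (mapG_res hρ hc hq β (le_bmap rfl U) le_rfl h h s).symm.trans ?_
  rw [show gres hρ F (le_refl U) s = s from grp_ext hρ F fun i => res_self _]
  rfl

end Groth.Agent.QDesc10
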