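import Groth.Agent.QDesc10.GlueQ
import Mathlib.LinearAlgebra.TensorProduct.Pi
import Mathlib.RingTheory.Flat.Basic

/-!
# Sections of the descended module on an affine open base change to flat affine lifts
-/

set_option autoImplicit false
set_option backward.isDefEq.respectTransparency false
set_option backward.isDefEq.respectTransparency.types false
set_option linter.style.haveILetI false

universe v v' w w' u

open CategoryTheory CategoryTheory.Limits AlgebraicGeometry TopologicalSpace Opposite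
open scoped TensorProduct

namespace Groth.Agent.QDesc10

open Groth.Agent.AModX

variable {S : Scheme.{u}} {𝒵 : BasedCategory.{v, w} (Over S)} {𝒴 : BasedCategory.{v', w'} (Over S)}
  {ρ : 𝒵 ⥤ᵇ 𝒴} {η : 𝒴.obj} {F : StMod.Mod 𝒵} {W : (StMod.sch 𝒴 η).Opens}

/-- Functions over a preimage as an algebra. -/
@[reducible] noncomputable def algPre {X Y : Scheme.{u}} (g : X ⟶ Y) (W : Y.Opens) :
    Algebra Γ(Y, W) Γ(X, g ⁻¹ᵁ W) := (g.app W).hom.toAlgebra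

attribute [local instance] algPre

/-- Sections over a preimage as a module. -/
@[reducible] noncomputable def modPre {ξ : 𝒵.obj} (m : ρ.obj ξ ⟶ η) (W : (StMod.sch 𝒴 η).Opens) :
    Module Γ(StMod.sch 𝒴 η, W) Γ(F.obj ξ, gm m ⁻¹ᵁ W) := Module.compHom _ ((gm m).app W).hom

attribute [local instance] modPre

theorem towerPre {ξ : 𝒵.obj} (m : ρ.obj ξ ⟶ η) (W : (StMod.sch 𝒴 η).Opens) :
    IsScalarTower Γ(StMod.sch 𝒴 η, W) Γ(StMod.sch 𝒵 ξ, gm m ⁻¹ᵁ W) Γ(F.obj ξ, gm m ⁻¹ᵁ W) :=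
  .of_algebraMap_smul fun _ _ => rfl

attribute [local instance] towerPre

theorem algPre_appLE {X Y : Scheme.{u}} (g : X ⟶ Y) (W : Y.Opens) (r : Γ(Y, W)) :
    algebraMap Γ(Y, W) Γ(X, g ⁻¹ᵁ W) r = g.appLE W (g ⁻¹ᵁ W) le_rfl r := by
  rw [← Scheme.Hom.app_eq_appLE]; rfl

theorem modPre_appLE {ξ : 𝒵.obj} (m : ρ.obj ξ ⟶ η) (W : (StMod.sch 𝒴 η).Opens)
    (r : Γ(StMod.sch 𝒴 η, W)) (x : Γ(F.obj ξ, gm m ⁻¹ᵁ W)) :
    r • x = (gm m).appLE W (gm m ⁻¹ᵁ W) le_rfl r • x := by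
  rw [← Scheme.Hom.app_eq_appLE]; rfl

variable (hρ : FFHyp ρ) (hc : F.IsCartesian) (hq : F.IsLocQCoh)

/-- The value on a lift, as a linear map. -/
noncomputable def valL {ξ : 𝒵.obj} (m : ρ.obj ξ ⟶ η) (W : (StMod.sch 𝒴 η).Opens) :
    grp hρ F η W →ₗ[Γ(StMod.sch 𝒴 η, W)] Γ(F.obj ξ, gm m ⁻¹ᵁ W) where
  toFun := val hρ hc hq m
  map_add' := val_add hρ hc hq m
  map_smul' r s := val_smul hρ hc hq m r s

theorem pre_le {z' z : 𝒵.obj} {c : z' ⟶ z} {n : ρ.obj z ⟶ η} {n' : ρ.obj z' ⟶ η} (e : ρ.map c ≫ n = n') :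
    gm n' ⁻¹ᵁ W ≤ StMod.bmap 𝒵 c ⁻¹ᵁ (gm n ⁻¹ᵁ W) := by
  rw [← e, pre_map]

/-- Transport, as a linear map over the functions below. -/
noncomputable def traL {z' z : 𝒵.obj} (c : z' ⟶ z) {n : ρ.obj z ⟶ η} {n' : ρ.obj z' ⟶ η}
    (e : ρ.map c ≫ n = n') :
    Γ(F.obj z, gm n ⁻¹ᵁ W) →ₗ[Γ(StMod.sch 𝒴 η, W)] Γ(F.obj z', gm n' ⁻¹ᵁ W) where
  toFun := tra F c (pre_le e)
  map_add' := map_add _
  map_smul' r x := by
    subst e
    show tra F c _ ((gm n).app W r • x) = (gm (ρ.map c ≫ n)).app W r • _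
    rw [tra_smul, appLE_gm, ← Scheme.Hom.app_eq_appLE]

/-- The tensor product of the value map. -/
noncomputable def bc {ξ : 𝒵.obj} (m : ρ.obj ξ ⟶ η) (W : (StMod.sch 𝒴 η).Opens) :
    Γ(StMod.sch 𝒵 ξ, gm m ⁻¹ᵁ W) ⊗[Γ(StMod.sch 𝒴 η, W)] grp hρ F η W →ₗ[Γ(StMod.sch 𝒵 ξ, gm m ⁻¹ᵁ W)]
      Γ(F.obj ξ, gm m ⁻¹ᵁ W) :=
  (valL hρ hc hq m W).liftBaseChange _

theorem bc_tmul {ξ : 𝒵.obj} (m : ρ.obj ξ ⟶ η) (β : Γ(StMod.sch 𝒵 ξ, gm m ⁻¹ᵁ W)) (s : grp hρ F η W) :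
    bc hρ hc hq m W (β ⊗ₜ s) = β • val hρ hc hq m s :=
  LinearMap.liftBaseChange_tmul ..  

section square

variable {ξ z w : 𝒵.obj} {m : ρ.obj ξ ⟶ η} {n : ρ.obj z ⟶ η} (a : w ⟶ ξ) (b : w ⟶ z)
  (hcomm : StMod.bmap 𝒵 a ≫ gm m = StMod.bmap 𝒵 b ≫ gm n)

variable (F W) in
/-- The comparison over a fibre product of lifts. -/
noncomputable def psi :
    Γ(StMod.sch 𝒵 ξ, gm m ⁻¹ᵁ W) ⊗[Γ(StMod.sch 𝒴 η, W)] Γ(F.obj z, gm n ⁻¹ᵁ W) →+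
      Γ(F.obj w, sqOpen b (StMod.bmap 𝒵 a) (gm m ⁻¹ᵁ W) (gm n ⁻¹ᵁ W)) :=
  sqHom b (StMod.bmap 𝒵 a) le_rfl le_rfl hcomm (algPre_appLE (gm m) W) (modPre_appLE n W)

theorem psi_tmul (β : Γ(StMod.sch 𝒵 ξ, gm m ⁻¹ᵁ W)) (x : Γ(F.obj z, gm n ⁻¹ᵁ W)) :
    psi F W a b hcomm (β ⊗ₜ x) =
      (StMod.bmap 𝒵 a).appLE (gm m ⁻¹ᵁ W) (sqOpen b (StMod.bmap 𝒵 a) (gm m ⁻¹ᵁ W) (gm n ⁻¹ᵁ W)) inf_le_left β •
        tra F b (U' := sqOpen b (StMod.bmap 𝒵 a) (gm m ⁻¹ᵁ W) (gm n ⁻¹ᵁ W)) inf_le_right x :=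
  sqHom_tmul ..

include hc hq in
theorem bijective_psi (hsq : IsPullback (StMod.bmap 𝒵 a) (StMod.bmap 𝒵 b) (gm m) (gm n))
    (hW : IsAffineOpen W) (h₁ : IsAffineOpen (gm m ⁻¹ᵁ W)) (h₂ : IsAffineOpen (gm n ⁻¹ᵁ W)) :
    Function.Bijective (psi F W a b hsq.w) :=
  bijective_sqHom _ _ le_rfl le_rfl hsq.w _ _ hc hq hsq hW h₁ h₂

theorem psi_val (e : ρ.map a ≫ m = ρ.map b ≫ n)
    (t : Γ(StMod.sch 𝒵 ξ, gm m ⁻¹ᵁ W) ⊗[Γ(StMod.sch 𝒴 η, W)] grp hρ F η W) :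
    psi F W a b hcomm ((valL hρ hc hq n W).lTensor _ t) =
      tra F a (U' := sqOpen b (StMod.bmap 𝒵 a) (gm m ⁻¹ᵁ W) (gm n ⁻¹ᵁ W)) inf_le_left
        (bc hρ hc hq m W t) := by
  induction t using TensorProduct.induction_on with
  | zero => simp
  | tmul β s =>
    rw [LinearMap.lTensor_tmul, psi_tmul, bc_tmul, tra_smul]
    exact congrArg _ (tra_val_congr hρ hc hq n m b a e.symm s _ _)
  | add x y hx hy => simp only [map_add, hx, hy]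

variable {z' w' : 𝒵.obj} {n' : ρ.obj z' ⟶ η} (a' : w' ⟶ ξ) (b' : w' ⟶ z')
  (hcomm' : StMod.bmap 𝒵 a' ≫ gm m = StMod.bmap 𝒵 b' ≫ gm n')

theorem sq_le {c : z' ⟶ z} (e : ρ.map c ≫ n = n') (θ : w' ⟶ w) (hθa : θ ≫ a = a') (hθb : θ ≫ b = b' ≫ c) :
    sqOpen b' (StMod.bmap 𝒵 a') (gm m ⁻¹ᵁ W) (gm n' ⁻¹ᵁ W) ≤
      StMod.bmap 𝒵 θ ⁻¹ᵁ sqOpen b (StMod.bmap 𝒵 a) (gm m ⁻¹ᵁ W) (gm n ⁻¹ᵁ W) := fun q hq => by
  refine ⟨?_, ?_⟩
  · have h : q ∈ StMod.bmap 𝒵 (θ ≫ a) ⁻¹ᵁ (gm m ⁻¹ᵁ W) := by rw [hθa]; exact hq.1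
    rw [StMod.bmap_comp] at h; exact h
  · have h : q ∈ StMod.bmap 𝒵 (θ ≫ b) ⁻¹ᵁ (gm n ⁻¹ᵁ W) := by
      rw [hθb, StMod.bmap_comp]; exact pre_le e hq.2
    rw [StMod.bmap_comp] at h; exact h

theorem psi_tra {c : z' ⟶ z} (e : ρ.map c ≫ n = n') (θ : w' ⟶ w) (hθa : θ ≫ a = a')
    (hθb : θ ≫ b = b' ≫ c)
    (t : Γ(StMod.sch 𝒵 ξ, gm m ⁻¹ᵁ W) ⊗[Γ(StMod.sch 𝒴 η, W)] Γ(F.obj z, gm n ⁻¹ᵁ W)) :
    psi F W a' b' hcomm' ((traL c e).lTensor _ t) =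
      tra F θ (sq_le a b a' b' e θ hθa hθb) (psi F W a b hcomm t) := by
  induction t using TensorProduct.induction_on with
  | zero => simp
  | tmul β x =>
    subst hθa
    have k1 : sqOpen b' (StMod.bmap 𝒵 (θ ≫ a)) (gm m ⁻¹ᵁ W) (gm n' ⁻¹ᵁ W) ≤
        StMod.bmap 𝒵 (b' ≫ c) ⁻¹ᵁ (gm n ⁻¹ᵁ W) := fun q hq => by
      rw [StMod.bmap_comp]; exact pre_le e hq.2
    rw [LinearMap.lTensor_tmul, psi_tmul, psi_tmul, tra_smul, tra_comp θ b _ _ (hθb ▸ k1)]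
    refine congrArg₂ (· • ·) ?_ ((tra_comp b' c (pre_le e) inf_le_right k1 x).trans (tra_congr hθb.symm _ _ _))
    refine Eq.trans ?_ (ConcreteCategory.congr_hom (Scheme.Hom.appLE_comp_appLE (StMod.bmap 𝒵 θ)
      (StMod.bmap 𝒵 a) (gm m ⁻¹ᵁ W) _ _ inf_le_left (sq_le a b _ b' e θ rfl hθb)) β).symm
    simp only [StMod.bmap_comp]
  | add x y hx hy => simp only [map_add, hx, hy]

end square

theorem piRight_eq {A : Type*} [CommRing A] {M : Type*} [AddCommGroup M] [Module A M] {κ : Type*}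
    [Fintype κ] [DecidableEq κ] {N : κ → Type*} [∀ k, AddCommGroup (N k)] [∀ k, Module A (N k)]
    (x : M ⊗[A] (∀ k, N k)) (k : κ) :
    TensorProduct.piRight A A M N x k = (LinearMap.proj (R := A) (φ := N) k).lTensor M x := by
  induction x using TensorProduct.induction_on with
  | zero => simp
  | tmul a f => simp
  | add x y hx hy => simp only [map_add, Pi.add_apply, hx, hy]

section exact

variable (K : KFam ρ η W) (z : K.κ × K.κ → 𝒵.obj) (c : ∀ p, z p ⟶ K.z p.1) (d : ∀ p, z p ⟶ K.z p.2)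
  (e : ∀ p, ρ.map (c p) ≫ K.m p.1 = ρ.map (d p) ≫ K.m p.2)

/-- The values on a family. -/
noncomputable def toPi : grp hρ F η W →ₗ[Γ(StMod.sch 𝒴 η, W)] ∀ k, Γ(F.obj (K.z k), gm (K.m k) ⁻¹ᵁ W) :=
  LinearMap.pi fun k => valL hρ hc hq (K.m k) W

variable (F) in
/-- The differences on fibre products. -/
noncomputable def dif : (∀ k, Γ(F.obj (K.z k), gm (K.m k) ⁻¹ᵁ W)) →ₗ[Γ(StMod.sch 𝒴 η, W)]
    ∀ p, Γ(F.obj (z p), gm (ρ.map (c p) ≫ K.m p.1) ⁻¹ᵁ W) :=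
  LinearMap.pi fun p => (traL (c p) rfl).comp (LinearMap.proj p.1) -
    (traL (d p) (e p).symm).comp (LinearMap.proj p.2)

theorem injective_toPi (hW : IsAffineOpen W) : Function.Injective (toPi hρ hc hq K) := fun _ _ h =>
  ext_kfam K hρ hc hq hW le_rfl fun k => congrFun h k

include hρ hc hq in
theorem exact_toPi_dif (hW : IsAffineOpen W)
    (hsq : ∀ p, IsPullback (StMod.bmap 𝒵 (c p)) (StMod.bmap 𝒵 (d p)) (gm (K.m p.1)) (gm (K.m p.2))) :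
    Function.Exact (toPi hρ hc hq K) (dif F K z c d e) := by
  intro t
  constructor
  · intro h0
    have ht : Compat (c := K.lifts) t := by
      intro i j x α β e' U hα hβ
      obtain ⟨θ, hθa, hθb⟩ := exists_factor_square hρ (e (i, j)) (hsq (i, j)) α β e'
      have hO : U ≤ StMod.bmap 𝒵 θ ⁻¹ᵁ (gm (ρ.map (c (i, j)) ≫ K.m i) ⁻¹ᵁ W) := fun q hq' => by
        have h2 : q ∈ StMod.bmap 𝒵 (θ ≫ c (i, j)) ⁻¹ᵁ (gm (K.m i) ⁻¹ᵁ W) := by rw [hθa]; exact hα hq'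
        rw [StMod.bmap_comp] at h2
        exact (pre_map (c (i, j)) (K.m i)).ge h2
      have key : tra F (c (i, j)) (pre_le rfl) (t i) = tra F (d (i, j)) (pre_le (e (i, j)).symm) (t j) :=
        sub_eq_zero.1 (congrFun h0 (i, j))
      have h4 := congrArg (tra F θ hO) key
      have k1 : U ≤ StMod.bmap 𝒵 (θ ≫ c (i, j)) ⁻¹ᵁ (gm (K.m i) ⁻¹ᵁ W) := by rw [hθa]; exact hα
      have k2 : U ≤ StMod.bmap 𝒵 (θ ≫ d (i, j)) ⁻¹ᵁ (gm (K.m j) ⁻¹ᵁ W) := by rw [hθb]; exact hβ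
      rw [tra_comp θ (c (i, j)) _ hO k1, tra_comp θ (d (i, j)) _ hO k2] at h4
      rw [tra_congr hθa.symm hα k1, tra_congr hθb.symm hβ k2]
      exact h4
    obtain ⟨s, hs⟩ := exists_of_kfam K hρ hc hq hW le_rfl ht
    exact ⟨s, funext hs⟩
  · rintro ⟨s, rfl⟩
    exact funext fun p => sub_eq_zero.2 (tra_val_congr hρ hc hq _ _ _ _ (e p) s _ _)

end exact

include hρ hc hq in
/-- The value map on a flat affine lift is base change. -/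
theorem bijective_bc (hW : IsAffineOpen W) {ξ : 𝒵.obj} (m : ρ.obj ξ ⟶ η) [IsAffine (StMod.sch 𝒵 ξ)]
    [Flat (gm m)] (hm : ∀ y, gm m y ∈ W) : Function.Bijective (bc hρ hc hq m W) := by
  classical
  obtain ⟨K⟩ := exists_kfam hρ hW
  have := Fintype.ofFinite K.κ
  have hA : IsAffineOpen (gm m ⁻¹ᵁ W) := by rw [pre_eq_top m hm]; exact isAffineOpen_top _
  haveI : Module.Flat Γ(StMod.sch 𝒴 η, W) Γ(StMod.sch 𝒵 ξ, gm m ⁻¹ᵁ W) := by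
    have h := flat_appLE (gm m) hW hA le_rfl inferInstance
    rwa [← Scheme.Hom.app_eq_appLE] at h
  let B := Γ(StMod.sch 𝒵 ξ, gm m ⁻¹ᵁ W)
  choose w a b ew hsqw using fun k => exists_lift_square hρ m (K.m k)
  choose z c d ez hsqz using fun p : K.κ × K.κ => exists_lift_square hρ (K.m p.1) (K.m p.2)
  have hψ := fun k => bijective_psi hc hq (a k) (b k) (hsqw k) hW hA (K.affine_pre k)
  have hval : ∀ (X : B ⊗[Γ(StMod.sch 𝒴 η, W)] grp hρ F η W) k,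
      TensorProduct.piRight Γ(StMod.sch 𝒴 η, W) Γ(StMod.sch 𝒴 η, W) B _ ((toPi hρ hc hq K).lTensor B X) k =
        (valL hρ hc hq (K.m k) W).lTensor B X := fun X k => by
    rw [piRight_eq, ← LinearMap.comp_apply, ← LinearMap.lTensor_comp]
    rfl
  refine ⟨(injective_iff_map_eq_zero _).2 fun X hX => ?_, fun y => ?_⟩
  · refine Module.Flat.lTensor_preserves_injective_linearMap (M := B) _ (injective_toPi hρ hc hq K hW) ?_
    rw [map_zero]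
    refine (TensorProduct.piRight Γ(StMod.sch 𝒴 η, W) Γ(StMod.sch 𝒴 η, W) B _).injective (funext fun k => ?_)
    rw [hval, map_zero, Pi.zero_apply]
    refine (hψ k).1 ?_
    rw [psi_val hρ hc hq _ _ _ (ew k), hX, map_zero, map_zero]
  · choose x hx using fun k => (hψ k).2 (tra F (a k) inf_le_left y)
    let X := (TensorProduct.piRight Γ(StMod.sch 𝒴 η, W) Γ(StMod.sch 𝒴 η, W) B
      (fun k => Γ(F.obj (K.z k), gm (K.m k) ⁻¹ᵁ W))).symm x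
    have hX : ∀ k, (LinearMap.proj k).lTensor B X = x k := fun k => by
      rw [← piRight_eq, LinearEquiv.apply_symm_apply]
    have h0 : (dif F K z c d ez).lTensor B X = 0 := by
      refine (TensorProduct.piRight Γ(StMod.sch 𝒴 η, W) Γ(StMod.sch 𝒴 η, W) B _).injective (funext fun p => ?_)
      rw [piRight_eq, ← LinearMap.comp_apply, ← LinearMap.lTensor_comp, dif, LinearMap.proj_pi, map_zero,
        Pi.zero_apply, LinearMap.lTensor_sub, LinearMap.sub_apply, LinearMap.lTensor_comp,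
        LinearMap.lTensor_comp, LinearMap.comp_apply, LinearMap.comp_apply, hX, hX, sub_eq_zero]
      obtain ⟨w', a', b', ew', hsq'⟩ := exists_lift_square hρ m (ρ.map (c p) ≫ K.m p.1)
      have e1 : ρ.map a' ≫ m = ρ.map (b' ≫ c p) ≫ K.m p.1 := by
        rw [ew', ρ.toFunctor.map_comp, Category.assoc]
      have e2 : ρ.map a' ≫ m = ρ.map (b' ≫ d p) ≫ K.m p.2 := by
        rw [ew', ρ.toFunctor.map_comp, Category.assoc, ez p]
      obtain ⟨θ₁, h1a, h1b⟩ := exists_factor_square hρ (ew p.1) (hsqw p.1) a' (b' ≫ c p) e1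
      obtain ⟨θ₂, h2a, h2b⟩ := exists_factor_square hρ (ew p.2) (hsqw p.2) a' (b' ≫ d p) e2
      refine (bijective_psi hc hq a' b' hsq' hW hA (isAffineOpen_pre_square K hW (ez p) (hsqz p))).1 ?_
      rw [psi_tra (a p.1) (b p.1) (hsqw p.1).w a' b' hsq'.w rfl θ₁ h1a h1b,
        psi_tra (a p.2) (b p.2) (hsqw p.2).w a' b' hsq'.w (ez p).symm θ₂ h2a h2b, hx, hx,
        tra_comp θ₁ (a p.1) _ _ (h1a ▸ inf_le_left), tra_comp θ₂ (a p.2) _ _ (h2a ▸ inf_le_left)]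
      exact tra_congr (h1a.trans h2a.symm) _ _ _
    obtain ⟨X₀, hX₀⟩ := (Module.Flat.lTensor_exact B (exact_toPi_dif hρ hc hq K z c d ez hW hsqz) X).1 h0
    refine ⟨X₀, ext_value hρ hc hq (c := K.lifts) m (qCov_lifts K hW m hm) fun k x' α β e => ?_⟩
    obtain ⟨θ, hθa, hθb⟩ := exists_factor_square hρ (ew k) (hsqw k) α β e
    have hk : tra F (a k) (U' := sqOpen (b k) (StMod.bmap 𝒵 (a k)) (gm m ⁻¹ᵁ W) (gm (K.m k) ⁻¹ᵁ W))
        inf_le_left (bc hρ hc hq m W X₀) = tra F (a k) inf_le_left y := by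
      rw [← psi_val hρ hc hq (a k) (b k) (hsqw k).w (ew k), ← hx k, ← hX k, ← hX₀, ← piRight_eq, hval]
    have hle : StMod.bmap 𝒵 α ⁻¹ᵁ (gm m ⁻¹ᵁ W) ≤
        StMod.bmap 𝒵 θ ⁻¹ᵁ sqOpen (b k) (StMod.bmap 𝒵 (a k)) (gm m ⁻¹ᵁ W) (gm (K.m k) ⁻¹ᵁ W) := by
      intro q hq'
      refine ⟨?_, ?_⟩
      · have h : q ∈ StMod.bmap 𝒵 (θ ≫ a k) ⁻¹ᵁ (gm m ⁻¹ᵁ W) := by rw [hθa]; exact hq'
        rw [StMod.bmap_comp] at h; exact h
      · have h : q ∈ StMod.bmap 𝒵 (θ ≫ b k) ⁻¹ᵁ (gm (K.m k) ⁻¹ᵁ W) := by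
          rw [hθb]; exact link_le (c := K.lifts) (U := W) e hq'
        rw [StMod.bmap_comp] at h; exact h
    have k1 : StMod.bmap 𝒵 α ⁻¹ᵁ (gm m ⁻¹ᵁ W) ≤ StMod.bmap 𝒵 (θ ≫ a k) ⁻¹ᵁ (gm m ⁻¹ᵁ W) := by rw [hθa]
    have h5 := congrArg (tra F θ hle) hk
    rw [tra_comp θ (a k) _ hle k1, tra_comp θ (a k) _ hle k1] at h5
    rw [tra_congr hθa.symm le_rfl k1, tra_congr hθa.symm le_rfl k1]
    exact h5

end Groth.Agent.QDesc10
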