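import Groth.Agent.QDesc10.Glue

/-!
# The descended module over an affine open through finitely many flat affine lifts
-/

set_option autoImplicit false
set_option backward.isDefEq.respectTransparency false
set_option backward.isDefEq.respectTransparency.types false
set_option linter.style.haveILetI false

universe v v' w w' u

open CategoryTheory CategoryTheory.Limits AlgebraicGeometry TopologicalSpace Opposite

namespace Groth.Agent.QDesc10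

open Groth.Agent.AModX

variable {S : Scheme.{u}} {𝒵 : BasedCategory.{v, w} (Over S)} {𝒴 : BasedCategory.{v', w'} (Over S)}
  {ρ : 𝒵 ⥤ᵇ 𝒴} {η : 𝒴.obj}

/-- A finite family of flat affine lifts covering an open below. -/
structure KFam (ρ : 𝒵 ⥤ᵇ 𝒴) (η : 𝒴.obj) (W : (StMod.sch 𝒴 η).Opens) where
  /-- the index -/
  κ : Type
  finite : Finite κ
  /-- the objects -/
  z : κ → 𝒵.obj
  /-- the morphisms -/
  m : ∀ k, ρ.obj (z k) ⟶ η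
  affine : ∀ k, IsAffine (StMod.sch 𝒵 (z k))
  flat : ∀ k, Flat (gm (m k))
  mem : ∀ k y, gm (m k) y ∈ W
  cover : ∀ x ∈ W, ∃ k y, gm (m k) y = x

attribute [instance] KFam.finite

theorem exists_kfam (hρ : FFHyp ρ) {W : (StMod.sch 𝒴 η).Opens} (hW : IsAffineOpen W) :
    Nonempty (KFam ρ η W) := by
  obtain ⟨κ, hκ, y, a, ha, haff, hfl, hmem, hcov⟩ :=
    exists_affine_lifts hρ.loc.fy (qCov_liftSieve hρ.loc η) hW
  choose ξ m ψ hψ using fun k => exists_of_liftSieve hρ.loc (ha k)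
  choose z φ c e hc hpc hcφ using fun k => exists_lift_pi hρ.loc (ψ k)
  let m' : ∀ k, ρ.obj (z k) ⟶ η := fun k => inv (c k) ≫ a k
  let i : ∀ k, StMod.sch 𝒵 (z k) ⟶ StMod.sch 𝒴 (y k) := fun k => (eqToHom (e k).symm).left
  haveI : ∀ k, IsIso (i k) := fun k => inferInstanceAs (IsIso ((Over.forget S).map (eqToHom (e k).symm)))
  have hg : ∀ k, gm (m' k) = i k ≫ StMod.bmap 𝒴 (a k) := fun k => by
    show (eqToHom _ ≫ 𝒴.p.map (inv (c k) ≫ a k)).left = _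
    have h1 : 𝒴.p.map (inv (c k) ≫ a k) =
        eqToHom ((ρ.w_obj (z k)).trans (e k).symm) ≫ 𝒴.p.map (a k) := by
      rw [← cancel_epi (𝒴.p.map (c k)), ← Functor.map_comp, IsIso.hom_inv_id_assoc, hpc k]
      simp
    rw [h1, ← Category.assoc, Over.comp_left]
    exact congrArg (fun t => Over.Hom.left t ≫ StMod.bmap 𝒴 (a k)) (eqToHom_trans _ _)
  refine ⟨{ κ := κ, finite := hκ, z := z, m := m', affine := fun k => ?_, flat := fun k => ?_,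
            mem := fun k p => ?_, cover := fun x hx => ?_ }⟩
  · haveI := haff k
    exact .of_isIso (i k)
  · haveI := hfl k
    rw [hg k]; infer_instance
  · rw [hg k]; exact hmem k _
  · obtain ⟨k, p, hp⟩ := hcov x hx
    obtain ⟨q, hq⟩ := (i k).homeomorph.surjective p
    refine ⟨k, q, ?_⟩
    rw [hg k]
    exact (congrArg (StMod.bmap 𝒴 (a k)) hq).trans hp

/-- A fibre product of two lifts. -/
theorem exists_lift_square (hρ : FFHyp ρ) {ξ₁ ξ₂ : 𝒵.obj} (m₁ : ρ.obj ξ₁ ⟶ η) (m₂ : ρ.obj ξ₂ ⟶ η) :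
    ∃ (z : 𝒵.obj) (a : z ⟶ ξ₁) (b : z ⟶ ξ₂), ρ.map a ≫ m₁ = ρ.map b ≫ m₂ ∧
      IsPullback (StMod.bmap 𝒵 a) (StMod.bmap 𝒵 b) (gm m₁) (gm m₂) := by
  obtain ⟨y, χ, q, e, hsq⟩ := exists_square hρ.loc.fy m₁ m₂
  obtain ⟨z, a, c, ec, hc, hpc, hca⟩ := exists_lift_pi hρ.loc χ
  obtain ⟨b, hb⟩ := hρ.full (inv c ≫ q)
  have e1 : ρ.map a ≫ m₁ = ρ.map b ≫ m₂ := by
    rw [← cancel_epi c, reassoc_of% hca, hb]; simp [e]
  refine ⟨z, a, b, e1, ?_⟩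
  let i : StMod.sch 𝒵 z ⟶ StMod.sch 𝒴 y := eo ρ z ≫ StMod.bmap 𝒴 (inv c)
  haveI : IsIso (StMod.bmap 𝒴 (inv c)) :=
    inferInstanceAs (IsIso ((Over.forget S).map (𝒴.p.map (inv c))))
  haveI : IsIso i := inferInstanceAs (IsIso (_ ≫ _))
  have key : ∀ {ξ : 𝒵.obj} (φ : z ⟶ ξ) (θ : y ⟶ ρ.obj ξ), ρ.map φ = inv c ≫ θ →
      StMod.bmap 𝒵 φ ≫ eo ρ ξ = i ≫ StMod.bmap 𝒴 θ := by
    intro ξ φ θ h
    have h1 := StMod.bmap_map_comm ρ φ (g := StMod.bmap 𝒵 φ) rfl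
    have h2 : eo ρ z ≫ StMod.bmap 𝒴 (ρ.map φ) = StMod.bmap 𝒵 φ ≫ eo ρ ξ := by
      rw [← cancel_mono (eqToHom (StMod.sch_obj_eq ρ ξ)), Category.assoc, h1]; simp
    rw [← h2, h, StMod.bmap_comp]
    simp [i]
  have hgm : ∀ {ξ : 𝒵.obj} (n : ρ.obj ξ ⟶ η), gm n = eo ρ ξ ≫ StMod.bmap 𝒴 n := fun {ξ} n => by
    have h := gm_comp (𝟙 (ρ.obj ξ)) n
    rw [Category.id_comp, gm_id] at h
    exact h
  refine hsq.of_iso (asIso i).symm (asIso (eo ρ ξ₁)).symm (asIso (eo ρ ξ₂)).symm (Iso.refl _) ?_ ?_ ?_ ?_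
  · show StMod.bmap 𝒴 χ ≫ inv (eo ρ ξ₁) = inv i ≫ StMod.bmap 𝒵 a
    rw [IsIso.eq_inv_comp, ← Category.assoc, ← key a χ (by rw [← hca]; simp), Category.assoc,
      IsIso.hom_inv_id, Category.comp_id]
  · show StMod.bmap 𝒴 q ≫ inv (eo ρ ξ₂) = inv i ≫ StMod.bmap 𝒵 b
    rw [IsIso.eq_inv_comp, ← Category.assoc, ← key b q hb, Category.assoc, IsIso.hom_inv_id, Category.comp_id]
  · show StMod.bmap 𝒴 m₁ ≫ 𝟙 _ = inv (eo ρ ξ₁) ≫ gm m₁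
    rw [IsIso.eq_inv_comp, hgm, Category.comp_id]
  · show StMod.bmap 𝒴 m₂ ≫ 𝟙 _ = inv (eo ρ ξ₂) ≫ gm m₂
    rw [IsIso.eq_inv_comp, hgm, Category.comp_id]

/-- Refinements of two lifts factor through their fibre product. -/
theorem exists_factor_square (hρ : FFHyp ρ) {ξ₁ ξ₂ z : 𝒵.obj} {m₁ : ρ.obj ξ₁ ⟶ η} {m₂ : ρ.obj ξ₂ ⟶ η}
    {a : z ⟶ ξ₁} {b : z ⟶ ξ₂} (e : ρ.map a ≫ m₁ = ρ.map b ≫ m₂)
    (hsq : IsPullback (StMod.bmap 𝒵 a) (StMod.bmap 𝒵 b) (gm m₁) (gm m₂))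
    {x : 𝒵.obj} (a' : x ⟶ ξ₁) (b' : x ⟶ ξ₂) (e' : ρ.map a' ≫ m₁ = ρ.map b' ≫ m₂) :
    ∃ θ : x ⟶ z, θ ≫ a = a' ∧ θ ≫ b = b' := by
  have w : StMod.bmap 𝒵 a' ≫ gm m₁ = StMod.bmap 𝒵 b' ≫ gm m₂ := by rw [← gm_map, ← gm_map, e']
  let h := hsq.lift (StMod.bmap 𝒵 a') (StMod.bmap 𝒵 b') w
  have hfst : h ≫ StMod.bmap 𝒵 a = StMod.bmap 𝒵 a' := hsq.lift_fst _ _ _
  have hsnd : h ≫ StMod.bmap 𝒵 b = StMod.bmap 𝒵 b' := hsq.lift_snd _ _ _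
  let g : 𝒵.p.obj x ⟶ 𝒵.p.obj z := Over.homMk h (by
    rw [← Over.w (𝒵.p.map a), ← Over.w (𝒵.p.map a')]
    exact (Category.assoc _ _ _).symm.trans (congrArg (· ≫ (𝒵.p.obj ξ₁).hom) hfst))
  obtain ⟨θ, hθ, hθa⟩ := exists_factor hρ.loc.fx a a' g (Over.OverMorphism.ext hfst)
  refine ⟨θ, hθa, hρ.faith _ _ (hom_ext hρ.loc.fy m₂ ?_ ?_)⟩
  · rw [pmap_map, pmap_map, Functor.map_comp, hθ]
    congr 2
    exact Over.OverMorphism.ext hsnd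
  · rw [ρ.toFunctor.map_comp, Category.assoc, ← e, ← Category.assoc, ← ρ.toFunctor.map_comp, hθa, e']

/-- A lift of an open of the scheme of an object. -/
theorem exists_open_lift (h : FibCat.IsFibGrpd 𝒵.p) {ξ : 𝒵.obj} (O : (StMod.sch 𝒵 ξ).Opens) :
    ∃ (z : 𝒵.obj) (a : z ⟶ ξ) (_ : IsOpenImmersion (StMod.bmap 𝒵 a)), (StMod.bmap 𝒵 a).opensRange = O := by
  let f : Over.mk (O.ι ≫ (𝒵.p.obj ξ).hom) ⟶ 𝒵.p.obj ξ := Over.homMk O.ι rfl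
  obtain ⟨z, a, e, he⟩ := exists_lift h (x := ξ) f
  have hb : StMod.bmap 𝒵 a = (eqToHom e).left ≫ O.ι := by
    show (𝒵.p.map a).left = _
    rw [he, Over.comp_left]
    rfl
  haveI : IsIso (eqToHom e).left := inferInstanceAs (IsIso ((Over.forget S).map (eqToHom e)))
  haveI : IsOpenImmersion (StMod.bmap 𝒵 a) := by rw [hb]; infer_instance
  refine ⟨z, a, inferInstance, ?_⟩
  apply Opens.ext
  rw [Scheme.Hom.coe_opensRange, hb]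
  ext p
  constructor
  · rintro ⟨q, rfl⟩; exact ((eqToHom e).left q).2
  · intro hp
    obtain ⟨q, hq⟩ := (eqToHom e).left.homeomorph.surjective ⟨p, hp⟩
    exact ⟨q, congrArg O.ι hq⟩

variable {W : (StMod.sch 𝒴 η).Opens} (K : KFam ρ η W)

/-- The lifts of a family. -/
abbrev KFam.lifts : Lifts.{v, v', w, w', 0} ρ η := ⟨K.κ, K.z, K.m⟩

theorem qCov_lifts (hW : IsAffineOpen W) {ξ : 𝒵.obj} (m : ρ.obj ξ ⟶ η) (hm : ∀ p, gm m p ∈ W) :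
    QCov _ ((genSieve K.lifts).pullback (StMod.baseOver ρ ξ m)) := by
  refine qCov_pullback_of_fam hW ?_ _ hm
  exact {
    κ := K.κ, finite := inferInstance, V := fun k => 𝒵.p.obj (K.z k)
    f := fun k => StMod.baseOver ρ (K.z k) (K.m k), A := fun _ => ⊤
    mem := fun k => ⟨k, 𝟙 _, Category.id_comp _⟩
    affine := fun k => by haveI : IsAffine (𝒵.p.obj (K.z k)).left := K.affine k; exact isAffineOpen_top _
    le := fun k p _ => K.mem k p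
    flat := fun k => by haveI := K.flat k; exact inferInstanceAs (Flat (_ ≫ gm (K.m k)))
    cover := fun x hx => by
      obtain ⟨k, p, hp⟩ := K.cover x hx
      exact ⟨k, p, trivial, hp⟩ }

variable {F : StMod.Mod 𝒵} {U : (StMod.sch 𝒴 η).Opens} (hρ : FFHyp ρ) (hc : F.IsCartesian) (hq : F.IsLocQCoh)

theorem preimage_le_range {ξ : 𝒵.obj} (n : ρ.obj ξ ⟶ η) {zo : 𝒵.obj} (a : zo ⟶ ξ)
    [IsOpenImmersion (StMod.bmap 𝒵 a)] (ha : (StMod.bmap 𝒵 a).opensRange = gm n ⁻¹ᵁ W) (hU : U ≤ W) :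
    gm n ⁻¹ᵁ U ≤ (StMod.bmap 𝒵 a).opensRange := ha ▸ (gm n).preimage_mono hU

theorem mem_of_range {ξ : 𝒵.obj} (n : ρ.obj ξ ⟶ η) {zo : 𝒵.obj} (a : zo ⟶ ξ)
    [IsOpenImmersion (StMod.bmap 𝒵 a)] (ha : (StMod.bmap 𝒵 a).opensRange = gm n ⁻¹ᵁ W) (p) :
    gm (ρ.map a ≫ n) p ∈ W := by
  rw [gm_map]
  have h : StMod.bmap 𝒵 a p ∈ gm n ⁻¹ᵁ W := ha ▸ ⟨p, rfl⟩
  exact h

include hρ hc hq in
/-- The values on the family determine a section over the open. -/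
theorem ext_kfam (hW : IsAffineOpen W) (hU : U ≤ W) {s s' : grp hρ F η U}
    (H : ∀ k, val hρ hc hq (K.m k) s = val hρ hc hq (K.m k) s') : s = s' := by
  refine grp_ext hρ F fun i => ?_
  obtain ⟨zo, a, _, ha⟩ := exists_open_lift hρ.loc.fx (gm ((ch hρ.loc η).hom i) ⁻¹ᵁ W)
  refine (bijective_tra_of_isOpenImmersion hc a _ (preimage_le_range _ a ha hU)).1 ?_
  rw [← val_self hρ hc hq i s, ← val_self hρ hc hq i s']
  refine ext_value hρ hc hq (c := K.lifts) (ρ.map a ≫ (ch hρ.loc η).hom i)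
    (qCov_lifts K hW _ (mem_of_range _ a ha)) fun k x a' b e => ?_
  have k1 : StMod.bmap 𝒵 a' ⁻¹ᵁ (StMod.bmap 𝒵 a ⁻¹ᵁ (gm ((ch hρ.loc η).hom i) ⁻¹ᵁ U)) ≤
      StMod.bmap 𝒵 (a' ≫ a) ⁻¹ᵁ (gm ((ch hρ.loc η).hom i) ⁻¹ᵁ U) := by rw [preimage_comp]
  have e' : ρ.map (a' ≫ a) ≫ (ch hρ.loc η).hom i = ρ.map b ≫ K.m k := by
    rw [ρ.toFunctor.map_comp, Category.assoc]; exact e
  have k2 : StMod.bmap 𝒵 a' ⁻¹ᵁ (StMod.bmap 𝒵 a ⁻¹ᵁ (gm ((ch hρ.loc η).hom i) ⁻¹ᵁ U)) ≤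
      StMod.bmap 𝒵 b ⁻¹ᵁ (gm (K.m k) ⁻¹ᵁ U) := by
    rw [← pre_map (U := U) b, show ρ.map b ≫ K.m k = ρ.map (a' ≫ a) ≫ (ch hρ.loc η).hom i from e'.symm, pre_map, preimage_comp]
  rw [tra_comp a' a _ _ k1, tra_comp a' a _ _ k1, tra_val_congr hρ hc hq _ (K.m k) (a' ≫ a) b e' s k1 k2,
    tra_val_congr hρ hc hq _ (K.m k) (a' ≫ a) b e' s' k1 k2, H k]

include hρ hc hq in
/-- A compatible family on the lifts of an affine open comes from a section. -/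
theorem exists_of_kfam (hW : IsAffineOpen W) (hU : U ≤ W) {t : Fam K.lifts F U} (ht : Compat t) :
    ∃ s : grp hρ F η U, ∀ k, val hρ hc hq (K.m k) s = t k := by
  let c := ch hρ.loc η
  choose zo a hopen ha using fun i : c.ι => exists_open_lift hρ.loc.fx (gm (c.hom i) ⁻¹ᵁ W)
  haveI := hopen
  let vK : ∀ i, Γ(F.obj (zo i), gm (ρ.map (a i) ≫ c.hom i) ⁻¹ᵁ U) := fun i =>
    value hρ hc hq (ρ.map (a i) ≫ c.hom i) (qCov_lifts K hW _ (mem_of_range _ (a i) (ha i))) ht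
  have hb := fun i => bijective_tra_of_isOpenImmersion hc (a i) _ (preimage_le_range (c.hom i) (a i) (ha i) hU)
  choose s hs using fun i => (hb i).2 (res _ (pre_map (a i) (c.hom i)).ge (vK i))
  have hs' : ∀ i {x : 𝒵.obj} (α : x ⟶ zo i) (k : K.κ) (β : x ⟶ K.z k),
      ρ.map (α ≫ a i) ≫ c.hom i = ρ.map β ≫ K.m k → ∀ (O : (StMod.sch 𝒵 x).Opens)
      (h₁ : O ≤ StMod.bmap 𝒵 (α ≫ a i) ⁻¹ᵁ (gm (c.hom i) ⁻¹ᵁ U))
      (h₂ : O ≤ StMod.bmap 𝒵 β ⁻¹ᵁ (gm (K.m k) ⁻¹ᵁ U)), tra F (α ≫ a i) h₁ (s i) = tra F β h₂ (t k) := by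
    intro i x α k β e O h₁ h₂
    have h₁' : O ≤ StMod.bmap 𝒵 α ⁻¹ᵁ (StMod.bmap 𝒵 (a i) ⁻¹ᵁ (gm (c.hom i) ⁻¹ᵁ U)) := by
      rw [← preimage_comp]; exact h₁
    rw [← tra_comp α (a i) le_rfl h₁' h₁, hs i, tra_res]
    exact tra_value hρ hc hq (c := K.lifts) _ _ ht α β
      (by rw [← Category.assoc, ← ρ.toFunctor.map_comp]; exact e) _
  have hcomp : Compat (c := c) s := by
    intro i j x α β e O hα hβ
    obtain ⟨xo, o, _, ho⟩ := exists_open_lift hρ.loc.fx (StMod.bmap 𝒵 α ⁻¹ᵁ (gm (c.hom i) ⁻¹ᵁ W))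
    have hOle : O ≤ (StMod.bmap 𝒵 o).opensRange :=
      ho ▸ hα.trans ((StMod.bmap 𝒵 α).preimage_mono ((gm (c.hom i)).preimage_mono hU))
    refine (bijective_tra_of_isOpenImmersion hc o O hOle).1 ?_
    have hfac : ∀ (j : c.ι) (δ : x ⟶ c.obj j), ρ.map α ≫ c.hom i = ρ.map δ ≫ c.hom j →
        ∃ α₀ : xo ⟶ zo j, α₀ ≫ a j = o ≫ δ := by
      intro j δ hδ
      have hr : Set.range (StMod.bmap 𝒵 (o ≫ δ)) ⊆ Set.range (StMod.bmap 𝒵 (a j)) := by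
        rintro _ ⟨p, rfl⟩
        rw [← Scheme.Hom.coe_opensRange, ha j, StMod.bmap_comp]
        show StMod.bmap 𝒵 o p ∈ StMod.bmap 𝒵 δ ⁻¹ᵁ (gm (c.hom j) ⁻¹ᵁ W)
        rw [← pre_map, ← hδ, pre_map, ← ho]
        exact ⟨p, rfl⟩
      let h := IsOpenImmersion.lift (StMod.bmap 𝒵 (a j)) (StMod.bmap 𝒵 (o ≫ δ)) hr
      have hh : h ≫ StMod.bmap 𝒵 (a j) = StMod.bmap 𝒵 (o ≫ δ) := IsOpenImmersion.lift_fac _ _ _
      obtain ⟨α₀, -, h0⟩ := exists_factor hρ.loc.fx (a j) (o ≫ δ) (Over.homMk h (by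
        rw [← Over.w (𝒵.p.map (a j)), ← Over.w (𝒵.p.map (o ≫ δ))]
        exact (Category.assoc _ _ _).symm.trans (congrArg (· ≫ (𝒵.p.obj (c.obj j)).hom) hh)))
        (Over.OverMorphism.ext hh)
      exact ⟨α₀, h0⟩
    obtain ⟨α₀, hα₀⟩ := hfac i α rfl
    obtain ⟨β₀, hβ₀⟩ := hfac j β e
    let O' := StMod.bmap 𝒵 o ⁻¹ᵁ O
    have kα : O' ≤ StMod.bmap 𝒵 (o ≫ α) ⁻¹ᵁ (gm (c.hom i) ⁻¹ᵁ U) := by
      rw [preimage_comp]; exact (StMod.bmap 𝒵 o).preimage_mono hα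
    have kβ : O' ≤ StMod.bmap 𝒵 (o ≫ β) ⁻¹ᵁ (gm (c.hom j) ⁻¹ᵁ U) := by
      rw [preimage_comp]; exact (StMod.bmap 𝒵 o).preimage_mono hβ
    rw [tra_comp o α hα le_rfl kα, tra_comp o β hβ le_rfl kβ, tra_congr hα₀.symm kα (hα₀ ▸ kα),
      tra_congr hβ₀.symm kβ (hβ₀ ▸ kβ)]
    have hmem : ∀ p, gm (ρ.map (α₀ ≫ a i) ≫ c.hom i) p ∈ W := fun p => by
      rw [hα₀, gm_map, StMod.bmap_comp]
      have : StMod.bmap 𝒵 o p ∈ StMod.bmap 𝒵 α ⁻¹ᵁ (gm (c.hom i) ⁻¹ᵁ W) := ho ▸ ⟨p, rfl⟩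
      exact this
    refine ext_value hρ hc hq (c := K.lifts) (ρ.map (α₀ ≫ a i) ≫ c.hom i) (qCov_lifts K hW _ hmem)
      fun k y γ δ eγ => ?_
    have e₁ : ρ.map ((γ ≫ α₀) ≫ a i) ≫ c.hom i = ρ.map δ ≫ K.m k := by
      rw [Category.assoc, ρ.toFunctor.map_comp, Category.assoc]; exact eγ
    have e₂ : ρ.map ((γ ≫ β₀) ≫ a j) ≫ c.hom j = ρ.map δ ≫ K.m k := by
      rw [← e₁, Category.assoc, Category.assoc, hα₀, hβ₀, ρ.toFunctor.map_comp, ρ.toFunctor.map_comp,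
        ρ.toFunctor.map_comp, ρ.toFunctor.map_comp, Category.assoc, Category.assoc, Category.assoc, Category.assoc, e]
    have l₁ : StMod.bmap 𝒵 γ ⁻¹ᵁ O' ≤ StMod.bmap 𝒵 ((γ ≫ α₀) ≫ a i) ⁻¹ᵁ (gm (c.hom i) ⁻¹ᵁ U) := by
      rw [Category.assoc, preimage_comp, hα₀]; exact (StMod.bmap 𝒵 γ).preimage_mono kα
    have l₂ : StMod.bmap 𝒵 γ ⁻¹ᵁ O' ≤ StMod.bmap 𝒵 ((γ ≫ β₀) ≫ a j) ⁻¹ᵁ (gm (c.hom j) ⁻¹ᵁ U) := by
      rw [Category.assoc, preimage_comp, hβ₀]; exact (StMod.bmap 𝒵 γ).preimage_mono kβ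
    have l₃ : StMod.bmap 𝒵 γ ⁻¹ᵁ O' ≤ StMod.bmap 𝒵 δ ⁻¹ᵁ (gm (K.m k) ⁻¹ᵁ U) := by
      refine l₁.trans ?_
      rw [← pre_map, e₁, pre_map]
    rw [tra_comp γ (α₀ ≫ a i) _ le_rfl (Category.assoc γ α₀ (a i) ▸ l₁),
      tra_comp γ (β₀ ≫ a j) _ le_rfl (Category.assoc γ β₀ (a j) ▸ l₂),
      tra_congr (Category.assoc γ α₀ (a i)).symm _ l₁, tra_congr (Category.assoc γ β₀ (a j)).symm _ l₂,
      hs' i (γ ≫ α₀) k δ e₁ _ l₁ l₃, hs' j (γ ≫ β₀) k δ e₂ _ l₂ l₃]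
  refine ⟨⟨s, hcomp⟩, fun k => ?_⟩
  refine ext_value hρ hc hq (K.m k) (hgen hρ.loc _) fun i x α β e => ?_
  obtain ⟨o, ho⟩ : ∃ o : x ⟶ zo i, o ≫ a i = β := by
    have hr : Set.range (StMod.bmap 𝒵 β) ⊆ Set.range (StMod.bmap 𝒵 (a i)) := by
      rintro _ ⟨p, rfl⟩
      rw [← Scheme.Hom.coe_opensRange, ha i]
      have : p ∈ StMod.bmap 𝒵 β ⁻¹ᵁ (gm (c.hom i) ⁻¹ᵁ W) := by
        rw [← pre_map, ← e, pre_map]; exact K.mem k _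
      exact this
    let h := IsOpenImmersion.lift (StMod.bmap 𝒵 (a i)) (StMod.bmap 𝒵 β) hr
    have hh : h ≫ StMod.bmap 𝒵 (a i) = StMod.bmap 𝒵 β := IsOpenImmersion.lift_fac _ _ _
    obtain ⟨o, -, h0⟩ := exists_factor hρ.loc.fx (a i) β (Over.homMk h (by
      rw [← Over.w (𝒵.p.map (a i)), ← Over.w (𝒵.p.map β)]
      exact (Category.assoc _ _ _).symm.trans (congrArg (· ≫ (𝒵.p.obj (c.obj i)).hom) hh)))
      (Over.OverMorphism.ext hh)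
    exact ⟨o, h0⟩
  have k1 := link_le (U := U) e
  rw [val, tra_value hρ hc hq (K.m k) _ _ α β e le_rfl]
  show tra F β _ (s i) = tra F α _ (t k)
  rw [tra_congr ho.symm k1 (ho ▸ k1)]
  exact hs' i o k α (by rw [ho]; exact e.symm) _ _ _

end Groth.Agent.QDesc10
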