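import Groth.Agent.QDesc10.Value
import Groth.Agent.QDesc10.Full
import Mathlib.Topology.Sheaves.SheafCondition.UniqueGluing

/-!
# The module of compatible families on lifts
-/

set_option autoImplicit false
set_option backward.isDefEq.respectTransparency false
set_option backward.isDefEq.respectTransparency.types false
set_option linter.style.haveILetI false

universe v v' w w' u

open CategoryTheory CategoryTheory.Limits AlgebraicGeometry TopologicalSpace Opposite

namespace Groth.Agent.QDesc10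

open Groth.Agent.AModX

variable {S : Scheme.{u}} {𝒵 : BasedCategory.{v, w} (Over S)} {𝒴 : BasedCategory.{v', w'} (Over S)}
  {ρ : 𝒵 ⥤ᵇ 𝒴}

theorem exists_gen_lifts (h : LocHyp ρ) (η : 𝒴.obj) :
    ∃ c : Lifts.{v, v', w, w', u} ρ η, QCov _ (genSieve c) := by
  choose W hW hxW K using qCov_liftSieve h η
  let K' := fun x => (K x).some
  choose ξ m t ht using fun (i : Σ x, (K' x).κ) => (K' i.1).mem i.2
  let c : Lifts.{v, v', w, w', u} ρ η := ⟨Σ x, (K' x).κ, ξ, m⟩
  exact ⟨c, fun x => ⟨W x, hW x, hxW x, ⟨{ K' x with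
    mem := fun k => ⟨⟨x, k⟩, t ⟨x, k⟩ ≫ eqToHom (ρ.w_obj (ξ ⟨x, k⟩)), by
      rw [← ht ⟨x, k⟩]; simp [c, StMod.baseOver]⟩ }⟩⟩⟩

/-- Chosen lifts generating a covering. -/
noncomputable def ch (h : LocHyp ρ) (η : 𝒴.obj) : Lifts.{v, v', w, w', u} ρ η := (exists_gen_lifts h η).choose

theorem hgen (h : LocHyp ρ) {η : 𝒴.obj} {ξ : 𝒵.obj} (m : ρ.obj ξ ⟶ η) :
    QCov _ ((genSieve (ch h η)).pullback (StMod.baseOver ρ ξ m)) :=
  QCov.pullback (exists_gen_lifts h η).choose_spec _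

variable (hρ : FFHyp ρ) (F : StMod.Mod 𝒵)

/-- The compatible families. -/
def grp (η : 𝒴.obj) (U : (StMod.sch 𝒴 η).Opens) : AddSubgroup (Fam (ch hρ.loc η) F U) where
  carrier := {s | Compat s}
  add_mem' := fun {s s'} hs hs' i j z a b e O ha hb => by
    show tra F a ha (s i + s' i) = tra F b hb (s j + s' j)
    rw [map_add, map_add, hs i j z a b e O ha hb, hs' i j z a b e O ha hb]
  zero_mem' := fun i j z a b e O ha hb => by
    show tra F a ha 0 = tra F b hb 0
    rw [map_zero, map_zero]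
  neg_mem' := fun {s} hs i j z a b e O ha hb => by
    show tra F a ha (-s i) = tra F b hb (-s j)
    rw [map_neg, map_neg, hs i j z a b e O ha hb]

theorem grp_ext {η : 𝒴.obj} {U : (StMod.sch 𝒴 η).Opens} {s s' : grp hρ F η U} (h : ∀ i, s.1 i = s'.1 i) :
    s = s' := Subtype.ext (funext h)

theorem appLE_gm {η : 𝒴.obj} {U : (StMod.sch 𝒴 η).Opens} {z ξ : 𝒵.obj} (a : z ⟶ ξ) (m : ρ.obj ξ ⟶ η)
    {O : (StMod.sch 𝒵 z).Opens} (ha : O ≤ StMod.bmap 𝒵 a ⁻¹ᵁ (gm m ⁻¹ᵁ U)) (r : Γ(StMod.sch 𝒴 η, U)) :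
    (StMod.bmap 𝒵 a).appLE (gm m ⁻¹ᵁ U) O ha ((gm m).app U r) =
      (gm (ρ.map a ≫ m)).appLE U O (by rw [pre_map]; exact ha) r := by
  rw [Scheme.Hom.app_eq_appLE]
  refine (ConcreteCategory.congr_hom (Scheme.Hom.appLE_comp_appLE (StMod.bmap 𝒵 a) (gm m) U (gm m ⁻¹ᵁ U) O
    le_rfl ha) r).trans ?_
  simp only [gm_map]

noncomputable instance instSMulGrp (η : 𝒴.obj) (U : (StMod.sch 𝒴 η).Opens) :
    SMul Γ(StMod.sch 𝒴 η, U) (grp hρ F η U) where
  smul r s := ⟨fun i => (gm ((ch hρ.loc η).hom i)).app U r • s.1 i, fun i j z a b e O ha hb => by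
    rw [tra_smul, tra_smul, s.2 i j z a b e O ha hb, appLE_gm, appLE_gm]
    congr 2
    simp only [e]⟩

theorem smul_grp_val {η : 𝒴.obj} {U : (StMod.sch 𝒴 η).Opens} (r : Γ(StMod.sch 𝒴 η, U)) (s : grp hρ F η U)
    (i : (ch hρ.loc η).ι) : (r • s).1 i = (gm ((ch hρ.loc η).hom i)).app U r • s.1 i := rfl

noncomputable instance instModuleGrp (η : 𝒴.obj) (U : (StMod.sch 𝒴 η).Opens) :
    Module Γ(StMod.sch 𝒴 η, U) (grp hρ F η U) where
  one_smul s := grp_ext hρ F fun i => by rw [smul_grp_val, map_one, one_smul]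
  mul_smul r r' s := grp_ext hρ F fun i => by rw [smul_grp_val, smul_grp_val, smul_grp_val, map_mul, mul_smul]
  smul_zero r := grp_ext hρ F fun i => by rw [smul_grp_val]; exact smul_zero _
  smul_add r s s' := grp_ext hρ F fun i => by rw [smul_grp_val]; exact smul_add _ _ _
  add_smul r r' s := grp_ext hρ F fun i => by rw [smul_grp_val, map_add]; exact add_smul _ _ _
  zero_smul s := grp_ext hρ F fun i => by rw [smul_grp_val, map_zero]; exact zero_smul _ _

/-- Restriction. -/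
noncomputable def gres {η : 𝒴.obj} {U V : (StMod.sch 𝒴 η).Opens} (h : V ≤ U) : grp hρ F η U →+ grp hρ F η V where
  toFun s := ⟨fun i => res _ ((gm ((ch hρ.loc η).hom i)).preimage_mono h) (s.1 i), fun i j z a b e O ha hb => by
    rw [tra_res, tra_res]
    exact s.2 i j z a b e O _ _⟩
  map_zero' := grp_ext hρ F fun _ => map_zero _
  map_add' _ _ := grp_ext hρ F fun _ => map_add _ _ _

theorem gres_val {η : 𝒴.obj} {U V : (StMod.sch 𝒴 η).Opens} (h : V ≤ U) (s : grp hρ F η U)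
    (i : (ch hρ.loc η).ι) :
    (gres hρ F h s).1 i = res _ ((gm ((ch hρ.loc η).hom i)).preimage_mono h) (s.1 i) := rfl

/-- The presheaf of compatible families. -/
noncomputable def psh (η : 𝒴.obj) : ((StMod.sch 𝒴 η).Opens)ᵒᵖ ⥤ Ab.{u} where
  obj U := AddCommGrpCat.of (grp hρ F η U.unop)
  map {U V} i := AddCommGrpCat.ofHom (gres hρ F i.unop.le)
  map_id U := by
    refine AddCommGrpCat.hom_ext (AddMonoidHom.ext fun s => grp_ext hρ F fun i => ?_)
    exact res_self _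
  map_comp i j := by
    refine AddCommGrpCat.hom_ext (AddMonoidHom.ext fun s => grp_ext hρ F fun i => ?_)
    exact (res_res _ _ _).symm

noncomputable instance (η : 𝒴.obj) (U : ((StMod.sch 𝒴 η).Opens)ᵒᵖ) :
    Module ((StMod.sch 𝒴 η).ringCatSheaf.obj.obj U) ((psh hρ F η).obj U) :=
  inferInstanceAs (Module Γ(StMod.sch 𝒴 η, U.unop) (grp hρ F η U.unop))

theorem gres_smul {η : 𝒴.obj} {U V : (StMod.sch 𝒴 η).Opens} (h : V ≤ U) (r : Γ(StMod.sch 𝒴 η, U))
    (s : grp hρ F η U) : gres hρ F h (r • s) = resR h r • gres hρ F h s :=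
  grp_ext hρ F fun i => by
    rw [gres_val, smul_grp_val, smul_grp_val, gres_val, res_smul]
    refine congrArg (· • _) ?_
    exact (ConcreteCategory.congr_hom ((gm ((ch hρ.loc η).hom i)).naturality (homOfLE h).op) r).symm

/-- The presheaf of modules of compatible families. -/
noncomputable def pmod (η : 𝒴.obj) : (StMod.sch 𝒴 η).PresheafOfModules :=
  PresheafOfModules.ofPresheaf (R := (StMod.sch 𝒴 η).ringCatSheaf.obj) (psh hρ F η)
    fun U V i r s => gres_smul hρ F i.unop.le r s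

theorem isSheaf (η : 𝒴.obj) :
    Presheaf.IsSheaf (Opens.grothendieckTopology (StMod.sch 𝒴 η)) (pmod hρ F η).presheaf := by
  refine (TopCat.Presheaf.isSheaf_iff_isSheafUniqueGluing
    (X := (StMod.sch 𝒴 η).toPresheafedSpace.carrier) (psh hρ F η)).2 fun J W sf hsf => ?_
  let g := fun i => gm ((ch hρ.loc η).hom i)
  have hex : ∀ i, ∃! t : Γ(F.obj ((ch hρ.loc η).obj i), g i ⁻¹ᵁ iSup W),
      ∀ j, res _ ((g i).preimage_mono (le_iSup W j)) t = (sf j).1 i := fun i => by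
    refine existsUnique_glue (M := F.obj ((ch hρ.loc η).obj i)) (fun j => g i ⁻¹ᵁ W j)
      (fun j => (g i).preimage_mono (le_iSup W j)) (fun p hp => ?_) (fun j => (sf j).1 i) (fun j k => ?_)
    · obtain ⟨j, hj⟩ := Opens.mem_iSup.1 (show g i p ∈ iSup W from hp)
      exact ⟨j, hj⟩
    · exact congrArg (fun a : grp hρ F η (W j ⊓ W k) => a.1 i) (hsf j k)
  choose t ht hu using hex
  refine ⟨⟨t, fun i j z a b e O ha hb => ?_⟩, fun k => grp_ext hρ F fun i => ht i k,
    fun s hs => grp_ext hρ F fun i => hu i _ fun k => congrArg (fun a : grp hρ F η (W k) => a.1 i) (hs k)⟩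
  refine eq_of_locally _ _ fun p hp => ?_
  obtain ⟨k, hk⟩ := Opens.mem_iSup.1 (show g i (StMod.bmap 𝒵 a p) ∈ iSup W from ha hp)
  let O' := O ⊓ StMod.bmap 𝒵 a ⁻¹ᵁ (g i ⁻¹ᵁ W k)
  have hb' : O' ≤ StMod.bmap 𝒵 b ⁻¹ᵁ (g j ⁻¹ᵁ W k) := by
    refine inf_le_right.trans ?_
    rw [← pre_map, ← pre_map, e]
  refine ⟨O', inf_le_left, ⟨hp, hk⟩, ?_⟩
  rw [res_tra, res_tra, ← tra_res a ((g i).preimage_mono (le_iSup W k)) (inf_le_right : O' ≤ _),
    ← tra_res b ((g j).preimage_mono (le_iSup W k)) hb', ht i k, ht j k]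
  exact (sf k).2 i j z a b e O' _ _

/-- The module of compatible families. -/
noncomputable def glObj (η : 𝒴.obj) : (StMod.sch 𝒴 η).Modules := ⟨pmod hρ F η, isSheaf hρ F η⟩

/-- A section as a compatible family. -/
noncomputable def toFam {η : 𝒴.obj} {U : (StMod.sch 𝒴 η).Opens} (s : Γ(glObj hρ F η, U)) : grp hρ F η U := s

/-- A compatible family as a section. -/
noncomputable def ofFam {η : 𝒴.obj} {U : (StMod.sch 𝒴 η).Opens} (s : grp hρ F η U) : Γ(glObj hρ F η, U) := s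

end Groth.Agent.QDesc10
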