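import Groth.Agent.QDesc10.GlueK
import Groth.Agent.QCoh.Qcqs

/-!
# The descended module is quasi-coherent
-/

set_option autoImplicit false
set_option backward.isDefEq.respectTransparency false
set_option backward.isDefEq.respectTransparency.types false
set_option linter.style.haveILetI false

universe v v' w w' u

open CategoryTheory CategoryTheory.Limits AlgebraicGeometry TopologicalSpace Opposite

namespace Groth.Agent.QDesc10

open Groth.Agent.AModX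

theorem exists_pow_ext {X : Scheme.{u}} {M : X.Modules} (hM : Coh.IsQCoh M) {W : X.Opens}
    (hW : IsAffineOpen W) (f : Γ(X, W)) {O : X.Opens} (hO : X.basicOpen f = O) (h : O ≤ W) (s : Γ(M, O)) :
    ∃ (n : ℕ) (t : Γ(M, W)), res M h t = resR h f ^ n • s := by
  subst hO
  exact QCoh.exists_pow_smul_eq_map hM hW f s

theorem exists_pow_kill {X : Scheme.{u}} {M : X.Modules} (hM : Coh.IsQCoh M) {W : X.Opens}
    (hW : IsAffineOpen W) (f : Γ(X, W)) {O : X.Opens} (hO : X.basicOpen f = O) (h : O ≤ W) (t : Γ(M, W))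
    (ht : res M h t = 0) : ∃ n : ℕ, f ^ n • t = 0 := by
  subst hO
  exact QCoh.exists_pow_smul_eq_zero hM hW f t ht

variable {S : Scheme.{u}} {𝒵 : BasedCategory.{v, w} (Over S)} {𝒴 : BasedCategory.{v', w'} (Over S)}
  {ρ : 𝒵 ⥤ᵇ 𝒴} {η : 𝒴.obj} {F : StMod.Mod 𝒵}
  {W : (StMod.sch 𝒴 η).Opens} (K : KFam ρ η W)

theorem pre_eq_top {ξ : 𝒵.obj} (m : ρ.obj ξ ⟶ η) (hm : ∀ y, gm m y ∈ W) : gm m ⁻¹ᵁ W = ⊤ :=
  top_le_iff.1 fun y _ => hm y

theorem KFam.affine_pre (k : K.κ) : IsAffineOpen (gm (K.m k) ⁻¹ᵁ W) := by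
  rw [pre_eq_top _ (K.mem k)]
  haveI := K.affine k
  exact isAffineOpen_top _

theorem isAffineOpen_pre_square (hW : IsAffineOpen W) {k l : K.κ} {z : 𝒵.obj} {a : z ⟶ K.z k}
    {b : z ⟶ K.z l} (e : ρ.map a ≫ K.m k = ρ.map b ≫ K.m l)
    (hsq : IsPullback (StMod.bmap 𝒵 a) (StMod.bmap 𝒵 b) (gm (K.m k)) (gm (K.m l))) :
    IsAffineOpen (gm (ρ.map a ≫ K.m k) ⁻¹ᵁ W) := by
  have h : gm (ρ.map a ≫ K.m k) ⁻¹ᵁ W =
      sqOpen b (StMod.bmap 𝒵 a) (gm (K.m k) ⁻¹ᵁ W) (gm (K.m l) ⁻¹ᵁ W) := by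
    refine le_antisymm (le_inf (pre_map a _).le ?_) (inf_le_left.trans (pre_map a _).ge)
    rw [e, pre_map]
  rw [h]
  exact isAffineOpen_sqOpen hsq hW (K.affine_pre k) (K.affine_pre l) le_rfl le_rfl

theorem app_pow_smul {ξ z : 𝒵.obj} (a : z ⟶ ξ) (m : ρ.obj ξ ⟶ η) {U : (StMod.sch 𝒴 η).Opens}
    {O : (StMod.sch 𝒵 z).Opens} (h : O ≤ StMod.bmap 𝒵 a ⁻¹ᵁ (gm m ⁻¹ᵁ U)) (r : Γ(StMod.sch 𝒴 η, U)) (n : ℕ)
    (x : Γ(F.obj ξ, gm m ⁻¹ᵁ U)) :
    tra F a h ((gm m).app U r ^ n • x) =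
      (gm (ρ.map a ≫ m)).appLE U O (by rw [pre_map]; exact h) r ^ n • tra F a h x := by
  rw [tra_smul, map_pow, appLE_gm]

theorem resR_app {X Y : Scheme.{u}} (g : X ⟶ Y) {U V : Y.Opens} (i : V ≤ U) (r : Γ(Y, U)) :
    g.app V (resR i r) = resR (g.preimage_mono i) (g.app U r) :=
  ConcreteCategory.congr_hom (g.naturality (homOfLE i).op) r

variable (hρ : FFHyp ρ) (hc : F.IsCartesian) (hq : F.IsLocQCoh)

theorem val_zero {ξ : 𝒵.obj} (m : ρ.obj ξ ⟶ η) {U : (StMod.sch 𝒴 η).Opens} :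
    val hρ hc hq m (0 : grp hρ F η U) = 0 := by
  have h := val_add hρ hc hq m (0 : grp hρ F η U) 0
  rw [add_zero] at h
  exact left_eq_add.1 h

include hρ hc hq in
theorem exists_kill_of_res_eq_zero (hW : IsAffineOpen W) (f : Γ(StMod.sch 𝒴 η, W))
    {h : (StMod.sch 𝒴 η).basicOpen f ≤ W} (t : grp hρ F η W) (ht : gres hρ F h t = 0) :
    ∃ n : ℕ, f ^ n • t = 0 := by
  obtain ⟨K⟩ := exists_kfam hρ hW
  have := Fintype.ofFinite K.κ
  have h0 : ∀ k, res _ ((gm (K.m k)).preimage_mono h) (val hρ hc hq (K.m k) t) = 0 := fun k => by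
    rw [← val_res hρ hc hq h, ht, val_zero]
  choose n hn using fun k => exists_pow_kill (hq (K.z k)) (K.affine_pre k) ((gm (K.m k)).app W f)
    (Scheme.preimage_basicOpen _ f).symm ((gm (K.m k)).preimage_mono h) (val hρ hc hq (K.m k) t) (h0 k)
  refine ⟨Finset.univ.sup n, ext_kfam K hρ hc hq hW le_rfl fun k => ?_⟩
  obtain ⟨d, hd⟩ := Nat.exists_eq_add_of_le (Finset.le_sup (f := n) (Finset.mem_univ k))
  rw [val_zero, val_smul, map_pow, hd, pow_add, mul_comm, mul_smul, hn k]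
  exact smul_zero _

include hρ hc hq in
theorem exists_extend_pow (hW : IsAffineOpen W) (f : Γ(StMod.sch 𝒴 η, W))
    (h : (StMod.sch 𝒴 η).basicOpen f ≤ W) (s : grp hρ F η ((StMod.sch 𝒴 η).basicOpen f)) :
    ∃ (n : ℕ) (t : grp hρ F η W), gres hρ F h t = resR h f ^ n • s := by
  obtain ⟨K⟩ := exists_kfam hρ hW
  have := Fintype.ofFinite K.κ
  have hbo : ∀ {ξ : 𝒵.obj} (m : ρ.obj ξ ⟶ η),
      (StMod.sch 𝒵 ξ).basicOpen ((gm m).app W f) = gm m ⁻¹ᵁ (StMod.sch 𝒴 η).basicOpen f :=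
    fun m => (Scheme.preimage_basicOpen _ f).symm
  choose n t₀ ht₀ using fun k => exists_pow_ext (hq (K.z k)) (K.affine_pre k) ((gm (K.m k)).app W f)
    (hbo _) ((gm (K.m k)).preimage_mono h) (val hρ hc hq (K.m k) s)
  let N := Finset.univ.sup n
  let t₁ : Fam K.lifts F W := fun k => (gm (K.m k)).app W f ^ (N - n k) • t₀ k
  have ht₁ : ∀ k, res _ ((gm (K.m k)).preimage_mono h) (t₁ k) =
      val hρ hc hq (K.m k) (resR h f ^ N • s) := fun k => by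
    rw [res_smul, map_pow, ht₀ k, smul_smul, ← pow_add,
      Nat.sub_add_cancel (Finset.le_sup (f := n) (Finset.mem_univ k)), val_smul, map_pow, resR_app]
  choose z a b e hsq using fun p : K.κ × K.κ => exists_lift_square hρ (K.m p.1) (K.m p.2)
  let O := fun p => gm (ρ.map (a p) ≫ K.m p.1) ⁻¹ᵁ W
  have ha : ∀ p, O p ≤ StMod.bmap 𝒵 (a p) ⁻¹ᵁ (gm (K.m p.1) ⁻¹ᵁ W) := fun p => (pre_map _ _).le
  have hb : ∀ p, O p ≤ StMod.bmap 𝒵 (b p) ⁻¹ᵁ (gm (K.m p.2) ⁻¹ᵁ W) := fun p => by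
    show gm (ρ.map (a p) ≫ K.m p.1) ⁻¹ᵁ W ≤ _
    rw [e p, pre_map]
  choose d hd using fun p => exists_pow_kill (hq (z p)) (isAffineOpen_pre_square K hW (e p) (hsq p))
    ((gm (ρ.map (a p) ≫ K.m p.1)).app W f) (hbo _) ((gm _).preimage_mono h)
    (tra F (a p) (ha p) (t₁ p.1) - tra F (b p) (hb p) (t₁ p.2)) (by
      rw [map_sub, res_tra, res_tra, sub_eq_zero,
        ← tra_res (a p) ((gm (K.m p.1)).preimage_mono h) (by rw [← pre_map]),
        ← tra_res (b p) ((gm (K.m p.2)).preimage_mono h) (by rw [← pre_map, e p]),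
        ht₁, ht₁]
      exact tra_val_congr hρ hc hq _ _ _ _ (e p) _ _ _)
  let D := Finset.univ.sup d
  let t₂ : Fam K.lifts F W := fun k => (gm (K.m k)).app W f ^ D • t₁ k
  have ht₂ : Compat t₂ := by
    intro i j x α β e' U hα hβ
    obtain ⟨θ, hθa, hθb⟩ := exists_factor_square hρ (e (i, j)) (hsq (i, j)) α β e'
    have hO : U ≤ StMod.bmap 𝒵 θ ⁻¹ᵁ O (i, j) := fun q hq' => by
      have h2 : q ∈ StMod.bmap 𝒵 (θ ≫ a (i, j)) ⁻¹ᵁ (gm (K.m i) ⁻¹ᵁ W) := by rw [hθa]; exact hα hq'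
      rw [StMod.bmap_comp] at h2
      exact (pre_map (a (i, j)) (K.m i)).ge h2
    have key : tra F (a (i, j)) (ha (i, j)) (t₂ i) = tra F (b (i, j)) (hb (i, j)) (t₂ j) := by
      rw [← sub_eq_zero]
      obtain ⟨d', hd'⟩ := Nat.exists_eq_add_of_le (Finset.le_sup (f := d) (Finset.mem_univ (i, j)))
      show tra F (a (i, j)) (ha (i, j)) ((gm (K.m i)).app W f ^ D • t₁ i) -
        tra F (b (i, j)) (hb (i, j)) ((gm (K.m j)).app W f ^ D • t₁ j) = 0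
      have h3 : tra F (b (i, j)) (hb (i, j)) ((gm (K.m j)).app W f ^ D • t₁ j) =
          (gm (ρ.map (a (i, j)) ≫ K.m i)).app W f ^ D • tra F (b (i, j)) (hb (i, j)) (t₁ j) := by
        rw [app_pow_smul, Scheme.Hom.app_eq_appLE]
        simp only [O, e (i, j)]
      rw [h3, app_pow_smul, Scheme.Hom.app_eq_appLE, ← smul_sub, ← Scheme.Hom.app_eq_appLE,
        show D = d (i, j) + d' from hd', pow_add, mul_comm, mul_smul]
      exact (congrArg _ (hd (i, j))).trans (smul_zero _)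
    have h4 := congrArg (tra F θ hO) key
    have k1 : U ≤ StMod.bmap 𝒵 (θ ≫ a (i, j)) ⁻¹ᵁ (gm (K.m i) ⁻¹ᵁ W) := by rw [hθa]; exact hα
    have k2 : U ≤ StMod.bmap 𝒵 (θ ≫ b (i, j)) ⁻¹ᵁ (gm (K.m j) ⁻¹ᵁ W) := by rw [hθb]; exact hβ
    rw [tra_comp θ (a (i, j)) _ hO k1, tra_comp θ (b (i, j)) _ hO k2] at h4
    rw [tra_congr hθa.symm hα k1, tra_congr hθb.symm hβ k2]
    exact h4
  obtain ⟨t, ht⟩ := exists_of_kfam K hρ hc hq hW le_rfl ht₂
  refine ⟨D + N, t, ext_kfam K hρ hc hq hW h fun k => ?_⟩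
  rw [val_res, ht k, pow_add, mul_smul, val_smul, ← ht₁ k, map_pow, resR_app, res_smul, map_pow]

include hρ hc hq in
/-- The descended module is quasi-coherent. -/
theorem isLocQCoh_glMod : (glMod hρ hc hq).IsLocQCoh := fun _η =>
  QCoh.isQCoh_of_sections
    (fun _U hU f s => exists_extend_pow hρ hc hq hU f _ (toFam hρ F s))
    (fun _U hU f t ht => exists_kill_of_res_eq_zero hρ hc hq hU f (h := Scheme.basicOpen_le _ f)
      (toFam hρ F t) ht)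

end Groth.Agent.QDesc10
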