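import Groth.Agent.QDesc10.Sheaf
import Groth.Agent.QDesc10.Refine
import Groth.Agent.QDesc10.Comap

/-!
# A module constant on the kernel of a functor extends to the full image
-/

set_option autoImplicit false
set_option backward.isDefEq.respectTransparency false
set_option backward.isDefEq.respectTransparency.types false
set_option linter.style.haveILetI false

universe v v' w w' u

open CategoryTheory CategoryTheory.Limits AlgebraicGeometry TopologicalSpace Opposite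

namespace Groth.Agent.QDesc10

open Groth.Agent.AModX

variable {S : Scheme.{u}} {𝒳 : BasedCategory.{v, w} (Over S)} {𝒴 : BasedCategory.{v', w'} (Over S)}
  (π : 𝒳 ⥤ᵇ 𝒴)

/-- The base of a morphism between images, read between the objects upstairs. -/
def baseImage {ξ' ξ : 𝒳.obj} (ψ : π.obj ξ' ⟶ π.obj ξ) : 𝒳.p.obj ξ' ⟶ 𝒳.p.obj ξ :=
  eqToHom (π.w_obj ξ').symm ≫ 𝒴.p.map ψ ≫ eqToHom (π.w_obj ξ)

theorem baseImage_map {ξ' ξ : 𝒳.obj} (φ : ξ' ⟶ ξ) : baseImage π (π.map φ) = 𝒳.p.map φ := by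
  simp [baseImage, pmap_map]

/-- The structure functor of the full image. -/
def imageP : InducedCategory 𝒴.obj π.obj ⥤ Over S where
  obj (ξ : 𝒳.obj) := 𝒳.p.obj ξ
  map f := baseImage π f.hom
  map_id (ξ : 𝒳.obj) := by
    show eqToHom _ ≫ 𝒴.p.map (𝟙 (π.obj ξ)) ≫ eqToHom _ = _
    simp
  map_comp {a b c} f g := by
    show eqToHom _ ≫ 𝒴.p.map (f.hom ≫ g.hom) ≫ eqToHom _ =
      (eqToHom _ ≫ 𝒴.p.map f.hom ≫ eqToHom _) ≫ (eqToHom _ ≫ 𝒴.p.map g.hom ≫ eqToHom _)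
    simp

/-- The full image of a based functor. -/
def image : BasedCategory.{v', w} (Over S) := BasedCategory.ofFunctor (imageP π)

/-- An object of the image. -/
abbrev toI (ξ : 𝒳.obj) : (image π).obj := ξ

/-- A morphism of the image. -/
abbrev homI {ξ' ξ : 𝒳.obj} (ψ : π.obj ξ' ⟶ π.obj ξ) : toI π ξ' ⟶ toI π ξ := InducedCategory.homMk ψ

/-- From the source to the image. -/
def toImage : 𝒳 ⥤ᵇ image π where
  toFunctor :=
    { obj := fun ξ => toI π ξ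
      map := fun φ => homI π (π.map φ)
      map_id := fun ξ => InducedCategory.hom_ext (π.toFunctor.map_id ξ)
      map_comp := fun f g => InducedCategory.hom_ext (π.toFunctor.map_comp f g) }
  w := CategoryTheory.Functor.ext (fun _ => rfl) fun ξ' ξ φ => by
    show baseImage π (π.map φ) = _
    rw [baseImage_map]; simp

/-- From the image to the target. -/
def fromImage : image π ⥤ᵇ 𝒴 where
  toFunctor := inducedFunctor π.obj
  w := CategoryTheory.Functor.ext (fun (ξ : 𝒳.obj) => π.w_obj ξ) fun (ξ' ξ : 𝒳.obj) f => by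
    show 𝒴.p.map f.hom = eqToHom _ ≫ baseImage π f.hom ≫ eqToHom _
    simp [baseImage]

theorem comp_eq : BasedFunctor.comp (toImage π) (fromImage π) = π := rfl

variable {π}

theorem fromImage_bijective {a b : (image π).obj} (ψ : (fromImage π).obj a ⟶ (fromImage π).obj b) :
    ∃! φ : a ⟶ b, (fromImage π).map φ = ψ :=
  ⟨InducedCategory.homMk ψ, rfl, fun _ h => InducedCategory.hom_ext h⟩

theorem isFibGrpd_image' (hx : FibCat.IsFibGrpd 𝒳.p) (hy : FibCat.IsFibGrpd 𝒴.p) :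
    FibCat.IsFibGrpd (image π).p where
  exists_lift {x V} f := by
    obtain ⟨z, φ, e, he⟩ := exists_lift hx (x := x) f
    refine ⟨toI π z, homI π (π.map φ), IsHomLift.of_fac' _ _ _ e rfl ?_⟩
    show baseImage π (π.map φ) = _
    rw [baseImage_map, he]; simp
  isStronglyCartesian {y x} φ :=
    { universal_property' := fun {a'} g φ' h => by
        have hφ' : baseImage π φ'.hom = g ≫ baseImage π φ.hom := by
          have h2 := IsHomLift.fac' (image π).p (g ≫ (image π).p.map φ) φ'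
          simp only [eqToHom_refl, Category.id_comp, Category.comp_id] at h2
          exact h2
        obtain ⟨χ, ⟨hχ, hc⟩, huniq⟩ := existsUnique_factor hy φ.hom φ'.hom
          (eqToHom (π.w_obj a') ≫ g ≫ eqToHom (π.w_obj y).symm) (by
            have := congrArg (fun t => eqToHom (π.w_obj a') ≫ t ≫ eqToHom (π.w_obj x).symm) hφ'
            simp [baseImage] at this
            simp [this])
        refine ⟨InducedCategory.homMk χ, ⟨IsHomLift.of_fac' _ _ _ rfl rfl ?_, InducedCategory.hom_ext hc⟩,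
          fun χ' hχ' => InducedCategory.hom_ext (huniq χ'.hom ⟨?_, congrArg (fun t => t.hom) hχ'.2⟩)⟩
        · show baseImage π χ = _
          simp [baseImage, hχ]
        · haveI := hχ'.1
          have h3 := IsHomLift.fac' (image π).p g χ'
          simp only [eqToHom_refl, Category.id_comp, Category.comp_id] at h3
          rw [← h3]
          show _ = eqToHom _ ≫ baseImage π χ'.hom ≫ eqToHom _
          simp [baseImage] }

theorem isFibGrpd_image (hπ : LocHyp π) : FibCat.IsFibGrpd (image π).p := isFibGrpd_image' hπ.fx hπ.fy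

theorem locHyp_fromImage' (hx : FibCat.IsFibGrpd 𝒳.p) (hy : FibCat.IsFibGrpd 𝒴.p)
    (hs : Gerb.LocSurjObj (qtop S) π) : LocHyp (fromImage π) where
  fx := isFibGrpd_image' hx hy
  fy := hy
  surj y := by
    obtain ⟨R, hR, hR'⟩ := hs y
    refine ⟨R, hR, fun V f hf => ?_⟩
    obtain ⟨x, g, hg⟩ := hR' f hf
    exact ⟨toI π x, g, hg⟩
  hom x x' b hb := by
    refine ⟨⊤, qCov_top _, fun V f _ => ?_⟩
    obtain ⟨z, φ, hφ⟩ := (isFibGrpd_image' hx hy).exists_lift (x := x) f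
    have e : (image π).p.map (InducedCategory.homMk b : x ⟶ x') =
        eqToHom (((fromImage π).w_obj x').symm.trans (IsHomLift.codomain_eq 𝒴.p (𝟙 _) b)).symm := by
      show baseImage π b = _
      rw [baseImage, IsHomLift.fac' 𝒴.p (𝟙 ((image π).p.obj x)) b]
      simp
    refine ⟨z, φ, φ ≫ InducedCategory.homMk b, hφ, IsHomLift.of_fac' _ _ _
      (IsHomLift.domain_eq (image π).p f φ)
      (((fromImage π).w_obj x').symm.trans (IsHomLift.codomain_eq 𝒴.p (𝟙 _) b)) ?_, rfl⟩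
    rw [Functor.map_comp, e, IsHomLift.fac' (image π).p f φ]
    simp

theorem locHyp_fromImage (hπ : LocHyp π) : LocHyp (fromImage π) :=
  locHyp_fromImage' hπ.fx hπ.fy hπ.surj

/-- Morphisms with the same image transport sections equally. -/
def IsThin (π : 𝒳 ⥤ᵇ 𝒴) (F : StMod.Mod 𝒳) : Prop :=
  ∀ {ξ' ξ : 𝒳.obj} (φ φ' : ξ' ⟶ ξ), π.map φ = π.map φ' → ∀ {U : (StMod.sch 𝒳 ξ).Opens}
    {U' : (StMod.sch 𝒳 ξ').Opens} (h : U' ≤ StMod.bmap 𝒳 φ ⁻¹ᵁ U) (h' : U' ≤ StMod.bmap 𝒳 φ' ⁻¹ᵁ U)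
    (x : Γ(F.obj ξ, U)), tra F φ h x = tra F φ' h' x

variable (π) in
/-- The sieve of refinements of a morphism between images. -/
def extSieve {ξ' ξ : 𝒳.obj} (ψ : π.obj ξ' ⟶ π.obj ξ) : Sieve (𝒳.p.obj ξ') where
  arrows _ f := ∃ (z : 𝒳.obj) (φ : z ⟶ ξ') (b : z ⟶ ξ) (t : _ ⟶ 𝒳.p.obj z),
    π.map φ ≫ ψ = π.map b ∧ t ≫ 𝒳.p.map φ = f
  downward_closed := fun {_ _ _} hf g => by
    obtain ⟨z, φ, b, t, h1, h2⟩ := hf
    exact ⟨z, φ, b, g ≫ t, h1, by rw [Category.assoc, h2]⟩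

theorem qCov_extSieve (hπ : LocHyp π) {ξ' ξ : 𝒳.obj} (ψ : π.obj ξ' ⟶ π.obj ξ) : QCov _ (extSieve π ψ) := by
  obtain ⟨R, hR, hR'⟩ := exists_refine hπ (𝟙 (π.obj ξ')) ψ
  refine QCov.mono (QCov.pullback hR (eqToHom (π.w_obj ξ').symm)) fun V f hf => ?_
  obtain ⟨z', θ, e, he⟩ := exists_lift hπ.fy (x := π.obj ξ') (f ≫ eqToHom (π.w_obj ξ').symm)
  obtain ⟨z, φ₁, φ₂, c, _, h1, h2⟩ := hR' θ (by rw [he]; exact R.downward_closed hf _)
  rw [Category.comp_id] at h1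
  refine ⟨z, φ₁, φ₂, eqToHom e.symm ≫ 𝒴.p.map c ≫ eqToHom (π.w_obj z), ?_, ?_⟩
  · rw [← cancel_epi c, h2, reassoc_of% h1]
  · have h3 := congrArg 𝒴.p.map h1
    rw [Functor.map_comp, he, pmap_map] at h3
    have h4 := congrArg (fun t => eqToHom e.symm ≫ t ≫ eqToHom (π.w_obj ξ')) h3
    simp at h4 ⊢
    exact h4

theorem exists_of_extSieve (hπ : LocHyp π) {ξ' ξ z : 𝒳.obj} {ψ : π.obj ξ' ⟶ π.obj ξ} {φ : z ⟶ ξ'}
    (hφ : extSieve π ψ (𝒳.p.map φ)) : ∃ b : z ⟶ ξ, π.map φ ≫ ψ = π.map b := by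
  obtain ⟨z₀, φ₀, b, t, h1, h2⟩ := hφ
  obtain ⟨χ, -, hχ⟩ := exists_factor hπ.fx φ₀ φ t h2
  exact ⟨χ ≫ b, by rw [π.toFunctor.map_comp, ← h1, ← hχ, π.toFunctor.map_comp, Category.assoc]⟩

theorem bmap_of_image {ξ' ξ z : 𝒳.obj} {ψ : π.obj ξ' ⟶ π.obj ξ} {φ : z ⟶ ξ'} {b : z ⟶ ξ}
    (e : π.map φ ≫ ψ = π.map b) :
    StMod.bmap 𝒳 b = StMod.bmap 𝒳 φ ≫ StMod.bmap (image π) (homI π ψ) := by
  show (𝒳.p.map b).left = (𝒳.p.map φ).left ≫ (baseImage π ψ).left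
  rw [← Over.comp_left, ← baseImage_map π b, ← e, ← baseImage_map π φ]
  simp [baseImage]

section Ext

variable {F : StMod.Mod 𝒳} (hπ : LocHyp π) (hc : F.IsCartesian) (hq : F.IsLocQCoh) (hT : IsThin π F)
  {ξ' ξ : 𝒳.obj} (ψ : π.obj ξ' ⟶ π.obj ξ) {U : (StMod.sch 𝒳 ξ).Opens} {U' : (StMod.sch 𝒳 ξ').Opens}
  (h : U' ≤ StMod.bmap (image π) (homI π ψ) ⁻¹ᵁ U)

include h in
theorem le_of_image {z : 𝒳.obj} {φ : z ⟶ ξ'} {b : z ⟶ ξ} (e : π.map φ ≫ ψ = π.map b) :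
    StMod.bmap 𝒳 φ ⁻¹ᵁ U' ≤ StMod.bmap 𝒳 b ⁻¹ᵁ U := by
  rw [bmap_of_image e]
  exact (StMod.bmap 𝒳 φ).preimage_mono h

include hπ hc hq hT in
theorem existsUnique_ext (x : Γ(F.obj ξ, U)) : ∃! y : Γ(F.obj ξ', U'), ∀ {z : 𝒳.obj} (φ : z ⟶ ξ') (b : z ⟶ ξ)
    (e : π.map φ ≫ ψ = π.map b), tra F φ le_rfl y = tra F b (le_of_image ψ h e) x := by
  choose b hb using fun (z : 𝒳.obj) (φ : z ⟶ ξ') (hφ : extSieve π ψ (𝒳.p.map φ)) => exists_of_extSieve hπ hφ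
  let y : Mt F (extSieve π ψ) U' :=
    { val := fun z φ hφ => tra F (b z φ hφ) (le_of_image ψ h (hb z φ hφ)) x
      compat := fun z' z χ φ hφ hχ le => by
        have k : StMod.bmap 𝒳 (χ ≫ φ) ⁻¹ᵁ U' ≤ StMod.bmap 𝒳 (χ ≫ b z φ hφ) ⁻¹ᵁ U := by
          rw [StMod.bmap_comp χ (b z φ hφ)]
          exact le.trans ((StMod.bmap 𝒳 χ).preimage_mono (le_of_image ψ h (hb z φ hφ)))
        rw [tra_comp _ _ _ le k]
        exact hT _ _ (by rw [π.toFunctor.map_comp, ← hb z φ hφ, ← hb z' (χ ≫ φ) hχ, π.toFunctor.map_comp,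
          Category.assoc]) _ _ _ }
  obtain ⟨y₀, hy₀⟩ := exists_sec hπ.fx hc hq (qCov_extSieve hπ ψ) y
  refine ⟨y₀, fun {z} φ b' e => ?_, fun y₁ hy₁ => ext_sec hπ.fx hc hq (qCov_extSieve hπ ψ) fun z φ hφ => ?_⟩
  · have hφ : extSieve π ψ (𝒳.p.map φ) := ⟨z, φ, b', 𝟙 _, e, Category.id_comp _⟩
    rw [hy₀ φ hφ]
    exact hT _ _ ((hb z φ hφ).symm.trans e) _ _ _
  · rw [hy₁ φ _ (hb z φ hφ), hy₀ φ hφ]

/-- Transport along a morphism between images. -/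
noncomputable def ext (x : Γ(F.obj ξ, U)) : Γ(F.obj ξ', U') :=
  (existsUnique_ext hπ hc hq hT ψ h x).choose

theorem tra_ext (x : Γ(F.obj ξ, U)) {z : 𝒳.obj} (φ : z ⟶ ξ') (b : z ⟶ ξ) (e : π.map φ ≫ ψ = π.map b)
    {O : (StMod.sch 𝒳 z).Opens} (hO : O ≤ StMod.bmap 𝒳 φ ⁻¹ᵁ U') :
    tra F φ hO (ext hπ hc hq hT ψ h x) = tra F b (hO.trans (le_of_image ψ h e)) x := by
  have h1 := congrArg (res (F.obj z) hO) ((existsUnique_ext hπ hc hq hT ψ h x).choose_spec.1 φ b e)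
  rwa [res_tra, res_tra] at h1

include hπ hc hq in
theorem ext_ext {y y' : Γ(F.obj ξ', U')} (H : ∀ {z : 𝒳.obj} (φ : z ⟶ ξ') (b : z ⟶ ξ),
    π.map φ ≫ ψ = π.map b → tra F φ (U' := StMod.bmap 𝒳 φ ⁻¹ᵁ U') le_rfl y = tra F φ le_rfl y') : y = y' :=
  ext_sec hπ.fx hc hq (qCov_extSieve hπ ψ) fun z φ hφ => by
    obtain ⟨b, hb⟩ := exists_of_extSieve hπ hφ
    exact H φ b hb

end Ext

section Mod

variable {F : StMod.Mod 𝒳} (hπ : LocHyp π) (hc : F.IsCartesian) (hq : F.IsLocQCoh) (hT : IsThin π F)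

theorem ext_map {ξ' ξ : 𝒳.obj} (φ : ξ' ⟶ ξ) {U : (StMod.sch 𝒳 ξ).Opens} {U' : (StMod.sch 𝒳 ξ').Opens}
    (h : U' ≤ StMod.bmap (image π) (homI π (π.map φ)) ⁻¹ᵁ U) (h' : U' ≤ StMod.bmap 𝒳 φ ⁻¹ᵁ U)
    (x : Γ(F.obj ξ, U)) : ext hπ hc hq hT (π.map φ) h x = tra F φ h' x :=
  ext_ext hπ hc hq (π.map φ) fun {z} φ' b e => by
    have k : StMod.bmap 𝒳 φ' ⁻¹ᵁ U' ≤ StMod.bmap 𝒳 (φ' ≫ φ) ⁻¹ᵁ U := by
      rw [StMod.bmap_comp]; exact (StMod.bmap 𝒳 φ').preimage_mono h'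
    rw [tra_ext hπ hc hq hT _ h x φ' b e le_rfl, tra_comp φ' φ h' le_rfl k]
    exact hT _ _ (by rw [π.toFunctor.map_comp, e]) _ _ _

end Mod

end Groth.Agent.QDesc10
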