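import Groth.Agent.QDesc10.Image
import Groth.Agent.QDesc10.Cart
import Groth.Agent.QDesc10.Full

/-!
# The module on the full image
-/

set_option autoImplicit false
set_option backward.isDefEq.respectTransparency false
set_option backward.isDefEq.respectTransparency.types false
set_option linter.style.haveILetI false

universe v v' w w' u

open CategoryTheory CategoryTheory.Limits AlgebraicGeometry TopologicalSpace Opposite

namespace Groth.Agent.QDesc10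

open Groth.Agent.AModX

variable {S : Scheme.{u}} {𝒳 : BasedCategory.{v, w} (Over S)} {𝒴 : BasedCategory.{v', w'} (Over S)}
  {π : 𝒳 ⥤ᵇ 𝒴} {F : StMod.Mod 𝒳} (hπ : LocHyp π) (hc : F.IsCartesian) (hq : F.IsLocQCoh)
  (hT : IsThin π F)

section

variable {ξ'' ξ' ξ : 𝒳.obj} (ψ : π.obj ξ' ⟶ π.obj ξ) {U : (StMod.sch 𝒳 ξ).Opens}
  {U' : (StMod.sch 𝒳 ξ').Opens} (h : U' ≤ StMod.bmap (image π) (homI π ψ) ⁻¹ᵁ U)

theorem ext_add (x y : Γ(F.obj ξ, U)) :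
    ext hπ hc hq hT ψ h (x + y) = ext hπ hc hq hT ψ h x + ext hπ hc hq hT ψ h y :=
  ext_ext hπ hc hq ψ fun φ b e => by
    rw [map_add, tra_ext hπ hc hq hT ψ h _ φ b e le_rfl, tra_ext hπ hc hq hT ψ h x φ b e le_rfl,
      tra_ext hπ hc hq hT ψ h y φ b e le_rfl, map_add]

theorem ext_res {V : (StMod.sch 𝒳 ξ).Opens} {V' : (StMod.sch 𝒳 ξ').Opens} (i : V ≤ U)
    (h' : V' ≤ StMod.bmap (image π) (homI π ψ) ⁻¹ᵁ V) (i' : V' ≤ U') (x : Γ(F.obj ξ, U)) :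
    ext hπ hc hq hT ψ h' (res (F.obj ξ) i x) = res (F.obj ξ') i' (ext hπ hc hq hT ψ h x) :=
  ext_ext hπ hc hq ψ fun φ b e => by
    rw [tra_ext hπ hc hq hT ψ h' _ φ b e le_rfl, tra_res, tra_res, tra_ext hπ hc hq hT ψ h x φ b e]

theorem ext_smul (r : Γ(StMod.sch 𝒳 ξ, U)) (x : Γ(F.obj ξ, U)) :
    ext hπ hc hq hT ψ h (r • x) =
      (StMod.bmap (image π) (homI π ψ)).appLE U U' h r • ext hπ hc hq hT ψ h x :=
  ext_ext hπ hc hq ψ fun {z} φ b e => by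
    rw [tra_ext hπ hc hq hT ψ h _ φ b e le_rfl, tra_smul, tra_smul, tra_ext hπ hc hq hT ψ h x φ b e le_rfl]
    refine congrArg (· • _) ?_
    refine Eq.trans ?_ (ConcreteCategory.congr_hom (Scheme.Hom.appLE_comp_appLE (StMod.bmap 𝒳 φ)
      (StMod.bmap (image π) (homI π ψ)) U U' (StMod.bmap 𝒳 φ ⁻¹ᵁ U') h le_rfl) r).symm
    simp only [bmap_of_image e]
    rfl

theorem ext_comp (ψ' : π.obj ξ'' ⟶ π.obj ξ') {U'' : (StMod.sch 𝒳 ξ'').Opens}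
    (h' : U'' ≤ StMod.bmap (image π) (homI π ψ') ⁻¹ᵁ U')
    (k : U'' ≤ StMod.bmap (image π) (homI π (ψ' ≫ ψ)) ⁻¹ᵁ U) (x : Γ(F.obj ξ, U)) :
    ext hπ hc hq hT ψ' h' (ext hπ hc hq hT ψ h x) = ext hπ hc hq hT (ψ' ≫ ψ) k x :=
  ext_ext hπ hc hq ψ' fun {z} φ b e => by
    refine ext_sec hπ.fx hc hq (qCov_extSieve hπ (π.map b ≫ ψ)) fun z' φ' hφ' => ?_
    obtain ⟨b', hb'⟩ := exists_of_extSieve hπ hφ'
    have e2 : π.map (φ' ≫ φ) ≫ ψ' ≫ ψ = π.map b' := by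
      rw [← hb', π.toFunctor.map_comp, Category.assoc, reassoc_of% e]
    have e3 : π.map (φ' ≫ b) ≫ ψ = π.map b' := by rw [← hb', π.toFunctor.map_comp, Category.assoc]
    have k1 : StMod.bmap 𝒳 φ' ⁻¹ᵁ (StMod.bmap 𝒳 φ ⁻¹ᵁ U'') = StMod.bmap 𝒳 (φ' ≫ φ) ⁻¹ᵁ U'' :=
      (preimage_comp φ' φ U'').symm
    have k2 : StMod.bmap 𝒳 φ' ⁻¹ᵁ (StMod.bmap 𝒳 φ ⁻¹ᵁ U'') ≤ StMod.bmap 𝒳 (φ' ≫ b) ⁻¹ᵁ U' := by
      rw [preimage_comp]; exact (StMod.bmap 𝒳 φ').preimage_mono (le_of_image ψ' h' e)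
    rw [tra_ext hπ hc hq hT ψ' h' _ φ b e le_rfl, tra_comp φ' b _ le_rfl k2,
      tra_ext hπ hc hq hT ψ h x (φ' ≫ b) b' e3 k2, tra_comp φ' φ le_rfl le_rfl k1.le,
      tra_ext hπ hc hq hT (ψ' ≫ ψ) k x (φ' ≫ φ) b' e2 k1.le]

theorem ext_id {U U' : (StMod.sch 𝒳 ξ).Opens} (h : U' ≤ StMod.bmap (image π) (homI π (𝟙 (π.obj ξ))) ⁻¹ᵁ U)
    (i : U' ≤ U) (x : Γ(F.obj ξ, U)) : ext hπ hc hq hT (𝟙 (π.obj ξ)) h x = res (F.obj ξ) i x :=
  ext_ext hπ hc hq _ fun φ b e => by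
    rw [tra_ext hπ hc hq hT _ h x φ b e le_rfl, tra_res]
    exact hT _ _ (by rw [← e, Category.comp_id]) _ _ _

end

variable (π)

theorem bmap_homI_comp {ξ'' ξ' ξ : 𝒳.obj} (ψ' : π.obj ξ'' ⟶ π.obj ξ') (ψ : π.obj ξ' ⟶ π.obj ξ) :
    StMod.bmap (image π) (homI π (ψ' ≫ ψ)) =
      StMod.bmap (image π) (homI π ψ') ≫ StMod.bmap (image π) (homI π ψ) :=
  StMod.bmap_comp (homI π ψ') (homI π ψ)

theorem le_img {ξ' ξ : 𝒳.obj} (ψ : π.obj ξ' ⟶ π.obj ξ) {g : StMod.sch 𝒳 ξ' ⟶ StMod.sch 𝒳 ξ}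
    (hg : StMod.bmap (image π) (homI π ψ) = g) (U : (StMod.sch 𝒳 ξ).Opens) :
    g ⁻¹ᵁ U ≤ StMod.bmap (image π) (homI π ψ) ⁻¹ᵁ U := by
  subst hg; exact le_rfl

/-- The extension of `F` to the image, on sections. -/
noncomputable def imgMap {ξ' ξ : 𝒳.obj} (ψ : π.obj ξ' ⟶ π.obj ξ) {g : StMod.sch 𝒳 ξ' ⟶ StMod.sch 𝒳 ξ}
    (hg : StMod.bmap (image π) (homI π ψ) = g) : F.obj ξ ⟶ (Scheme.Modules.pushforward g).obj (F.obj ξ') :=
  mkModHom (N := (Scheme.Modules.pushforward g).obj (F.obj ξ'))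
    (fun U => AddMonoidHom.mk' (fun x => (show Γ((Scheme.Modules.pushforward g).obj (F.obj ξ'), U) from
      ext hπ hc hq hT ψ (le_img π ψ hg U) x)) (ext_add hπ hc hq hT _ _))
    (fun {U V} i x => ext_res hπ hc hq hT ψ (le_img π ψ hg U) i (le_img π ψ hg V) (g.preimage_mono i) x)
    (fun U c x => by
      subst hg
      show ext hπ hc hq hT ψ (U' := StMod.bmap (image π) (homI π ψ) ⁻¹ᵁ U) le_rfl (c • x) =
        (show Γ(StMod.sch 𝒳 ξ', StMod.bmap (image π) (homI π ψ) ⁻¹ᵁ U) from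
          (StMod.bmap (image π) (homI π ψ)).app U c) • ext hπ hc hq hT ψ le_rfl x
      rw [ext_smul hπ hc hq hT]
      refine congrArg (· • _) ?_
      simp [Scheme.Hom.appLE])

theorem imgMap_app {ξ' ξ : 𝒳.obj} (ψ : π.obj ξ' ⟶ π.obj ξ) {g : StMod.sch 𝒳 ξ' ⟶ StMod.sch 𝒳 ξ}
    (hg : StMod.bmap (image π) (homI π ψ) = g) (U : (StMod.sch 𝒳 ξ).Opens) (x : Γ(F.obj ξ, U)) :
    (imgMap π hπ hc hq hT ψ hg).app U x = ext hπ hc hq hT ψ (le_img π ψ hg U) x := rfl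

theorem imgMap_id (ξ : 𝒳.obj) (hg : StMod.bmap (image π) (homI π (𝟙 (π.obj ξ))) = 𝟙 (StMod.sch 𝒳 ξ)) :
    imgMap π hπ hc hq hT (𝟙 (π.obj ξ)) hg ≫ (Scheme.Modules.pushforwardId (StMod.sch 𝒳 ξ)).hom.app (F.obj ξ) =
      𝟙 (F.obj ξ) := by
  refine Scheme.Modules.hom_ext _ _ fun U => ?_
  ext x
  exact (imgMap_app π hπ hc hq hT _ hg U x).trans
    ((ext_id hπ hc hq hT (U' := U) _ le_rfl x).trans (res_self x))

theorem imgMap_comp {ξ'' ξ' ξ : 𝒳.obj} (ψ : π.obj ξ'' ⟶ π.obj ξ') (φ : π.obj ξ' ⟶ π.obj ξ)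
    {h : StMod.sch 𝒳 ξ'' ⟶ StMod.sch 𝒳 ξ'} {g : StMod.sch 𝒳 ξ' ⟶ StMod.sch 𝒳 ξ}
    (hh : StMod.bmap (image π) (homI π ψ) = h) (hg : StMod.bmap (image π) (homI π φ) = g)
    (hk : StMod.bmap (image π) (homI π (ψ ≫ φ)) = h ≫ g) :
    imgMap π hπ hc hq hT (ψ ≫ φ) hk = imgMap π hπ hc hq hT φ hg ≫
      (Scheme.Modules.pushforward g).map (imgMap π hπ hc hq hT ψ hh) ≫
        (Scheme.Modules.pushforwardComp h g).hom.app (F.obj ξ'') := by
  refine Scheme.Modules.hom_ext _ _ fun U => ?_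
  ext x
  show ext hπ hc hq hT (ψ ≫ φ) (le_img π _ hk U) x =
    ext hπ hc hq hT ψ (le_img π ψ hh (g ⁻¹ᵁ U)) (ext hπ hc hq hT φ (le_img π φ hg U) x)
  exact (ext_comp hπ hc hq hT φ (le_img π φ hg U) ψ (le_img π ψ hh (g ⁻¹ᵁ U)) (le_img π _ hk U) x).symm

/-- The extension of `F` to the image. -/
noncomputable def imgMod : StMod.Mod (image π) where
  obj ξ := F.obj ξ
  map {ξ' ξ} ψ g hg := imgMap π hπ hc hq hT (ξ' := ξ') (ξ := ξ) ψ.hom hg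
  map_id ξ := imgMap_id π hπ hc hq hT ξ (StMod.bmap_id (𝒳 := image π) ξ)
  map_comp {ξ'' ξ' ξ} ψ φ h g hh hg := imgMap_comp π hπ hc hq hT (ξ'' := ξ'') (ξ' := ξ') (ξ := ξ) ψ.hom φ.hom hh hg _

theorem tra_imgMod {ξ' ξ : 𝒳.obj} (ψ : π.obj ξ' ⟶ π.obj ξ) {U : (StMod.sch 𝒳 ξ).Opens}
    {U' : (StMod.sch 𝒳 ξ').Opens} (h : U' ≤ StMod.bmap (image π) (homI π ψ) ⁻¹ᵁ U) (x : Γ(F.obj ξ, U)) :
    tra (imgMod π hπ hc hq hT) (homI π ψ) h x = ext hπ hc hq hT ψ h x := by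
  have h1 := ext_res hπ hc hq hT ψ (le_img π ψ rfl U) le_rfl h h x
  rw [res_self] at h1
  exact h1.symm

theorem theta_imgMod_map {ξ' ξ : 𝒳.obj} (φ : ξ' ⟶ ξ) :
    IsIso (theta (imgMod π hπ hc hq hT) (homI π (π.map φ))) := by
  have hb : StMod.bmap 𝒳 φ = StMod.bmap (image π) (homI π (π.map φ)) := by
    show (𝒳.p.map φ).left = (baseImage π (π.map φ)).left
    rw [baseImage_map]
  have hF := hc φ (g := StMod.bmap (image π) (homI π (π.map φ))) hb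
  have e : (imgMod π hπ hc hq hT).map (homI π (π.map φ)) (g := StMod.bmap (image π) (homI π (π.map φ))) rfl =
      F.map φ hb := by
    refine Scheme.Modules.hom_ext _ _ fun U => ?_
    ext x
    have h1 := ext_map hπ hc hq hT φ (U := U) (U' := StMod.bmap (image π) (homI π (π.map φ)) ⁻¹ᵁ U) le_rfl
      (by rw [hb]) x
    exact (imgMap_app π hπ hc hq hT (π.map φ) rfl U x).trans
      (h1.trans ((tra_apply φ hb _ x).trans (res_self _)))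
  rw [theta, e]
  exact hF

theorem isCartesian_imgMod : (imgMod π hπ hc hq hT).IsCartesian := by
  refine isCartesian_of_theta fun {ξ' ξ} ψ => ?_
  obtain ⟨ι, z, a, ha, hfl, hcov⟩ := exists_flat_cover hπ.fx (qCov_extSieve hπ (ψ.hom))
  choose b hb using fun i => exists_of_extSieve hπ (ha i)
  have hbm : ∀ i, StMod.bmap 𝒳 (a i) = StMod.bmap (image π) (homI π (π.map (a i))) := fun i => by
    show (𝒳.p.map (a i)).left = (baseImage π (π.map (a i))).left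
    rw [baseImage_map]
  refine isIso_theta_of_cover ψ (fun i => toI π (z i)) (fun i => homI π (π.map (a i))) (fun i => ?_) (fun x => ?_)
    (fun i => theta_imgMod_map π hπ hc hq hT (a i)) (fun i => ?_)
  · rw [← hbm i]; exact hfl i
  · obtain ⟨i, y, hy⟩ := hcov x
    exact ⟨i, y, by rw [← hbm i]; exact hy⟩
  · rw [show homI π (π.map (a i)) ≫ ψ = homI π (π.map (b i)) from InducedCategory.hom_ext (hb i)]
    exact theta_imgMod_map π hπ hc hq hT (b i)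

/-- The module upstairs is the inverse image of the extension. -/
theorem nonempty_comap_imgMod : Nonempty (F ≅ StMod.Mod.comap (toImage π) (imgMod π hπ hc hq hT)) := by
  refine ⟨StMod.Mod.isoMk (fun ξ => Iso.refl (F.obj ξ)) fun {ξ' ξ} φ g hg => ?_⟩
  have hb : StMod.bmap (image π) (homI π (π.map φ)) = g := by
    rw [← hg]
    show (baseImage π (π.map φ)).left = (𝒳.p.map φ).left
    rw [baseImage_map]
  have e : (StMod.Mod.comap (toImage π) (imgMod π hπ hc hq hT)).map φ hg = F.map φ hg := by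
    rw [StMod.Mod.comap_map]
    erw [StMod.castMap_rfl, StMod.Mod.map_comp_pushforwardCongr]
    refine Scheme.Modules.hom_ext _ _ fun U => ?_
    ext x
    have h1 := ext_map hπ hc hq hT φ (U := U) (U' := g ⁻¹ᵁ U) (le_img π _ hb U) (by rw [hg]) x
    exact (imgMap_app π hπ hc hq hT (π.map φ) hb U x).trans (h1.trans ((tra_apply φ hg _ x).trans (res_self _)))
  rw [e]
  simp only [Iso.refl_hom, CategoryTheory.Functor.map_id, Category.id_comp]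
  exact Category.comp_id _

end Groth.Agent.QDesc10
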