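import Groth.Prelude.Def_StMod
import Mathlib.AlgebraicGeometry.Morphisms.Flat
import Mathlib.AlgebraicGeometry.Morphisms.Affine
import Mathlib.CategoryTheory.Sites.Grothendieck

/-!
# The topology of sieves with finite flat affine witnesses over affine opens
-/

set_option autoImplicit false
set_option backward.isDefEq.respectTransparency false
set_option backward.isDefEq.respectTransparency.types false
set_option linter.style.haveILetI false

universe u

open CategoryTheory CategoryTheory.Limits AlgebraicGeometry TopologicalSpace Opposite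

namespace Groth.Agent.QDesc10

variable {S : Scheme.{u}}

/-- A finite family in `R` of affine opens, flat over `T` and covering the open `W`. -/
structure QFam {T : Over S} (W : T.left.Opens) (R : Sieve T) where
  /-- the index -/
  κ : Type
  finite : Finite κ
  /-- the sources -/
  V : κ → Over S
  /-- the members -/
  f : ∀ k, V k ⟶ T
  /-- the affine pieces -/
  A : ∀ k, (V k).left.Opens
  mem : ∀ k, R (f k)
  affine : ∀ k, IsAffineOpen (A k)
  le : ∀ k, A k ≤ (f k).left ⁻¹ᵁ W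
  flat : ∀ k, Flat ((A k).ι ≫ (f k).left)
  cover : ∀ x ∈ W, ∃ k, ∃ a ∈ A k, (f k).left a = x

attribute [instance] QFam.finite

/-- The sieve has a family over an affine neighbourhood of every point. -/
def QCov (T : Over S) (R : Sieve T) : Prop :=
  ∀ x : T.left, ∃ W : T.left.Opens, IsAffineOpen W ∧ x ∈ W ∧ Nonempty (QFam W R)

theorem QCov.mono {T : Over S} {R R' : Sieve T} (h : QCov T R) (hle : R ≤ R') : QCov T R' := fun x => by
  obtain ⟨W, hW, hx, ⟨K⟩⟩ := h x
  exact ⟨W, hW, hx, ⟨{ K with mem := fun k => hle _ (K.mem k) }⟩⟩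

theorem qCov_pullback_of_fam {T T' : Over S} {R : Sieve T} {W : T.left.Opens} (hW : IsAffineOpen W)
    (K : QFam W R) (g : T' ⟶ T) (hg : ∀ x, g.left x ∈ W) : QCov T' (R.pullback g) := fun x => by
  have hx := hg x
  obtain ⟨W', hW', hxW', hle⟩ :=
    exists_isAffineOpen_mem_and_subset (x := x) (U := g.left ⁻¹ᵁ W) hx
  haveI : IsAffine (W : Scheme.{u}) := hW
  haveI : IsAffine (W' : Scheme.{u}) := hW'
  haveI : ∀ k, IsAffine (K.A k : Scheme.{u}) := K.affine
  let a : ∀ k, (K.A k : Scheme.{u}) ⟶ (W : Scheme.{u}) := fun k => (K.f k).left.resLE W (K.A k) (K.le k)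
  let b : (W' : Scheme.{u}) ⟶ (W : Scheme.{u}) := g.left.resLE W W' hle
  let P : K.κ → Scheme.{u} := fun k => Limits.pullback (a k) b
  let V' : K.κ → Over S := fun k => Over.mk (pullback.snd (a k) b ≫ W'.ι ≫ T'.hom)
  let f' : ∀ k, V' k ⟶ T' := fun k => Over.homMk (pullback.snd (a k) b ≫ W'.ι) (Category.assoc _ _ _)
  have hsq : ∀ k, (pullback.snd (a k) b ≫ W'.ι) ≫ g.left =
      (pullback.fst (a k) b ≫ (K.A k).ι) ≫ (K.f k).left := fun k => by
    have := congrArg (· ≫ W.ι) (pullback.condition (f := a k) (g := b))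
    simp only [a, b, Category.assoc, Scheme.Hom.resLE_comp_ι] at this
    simp only [Category.assoc]
    exact this.symm
  refine ⟨W', hW', hxW', ⟨{
    κ := K.κ, finite := inferInstance, V := V', f := f', A := fun _ => ⊤
    mem := fun k => ?_, affine := fun k => ?_, le := fun k => ?_, flat := fun k => ?_, cover := ?_ }⟩⟩
  · let q : V' k ⟶ K.V k := Over.homMk (pullback.fst (a k) b ≫ (K.A k).ι) (by
      show (pullback.fst (a k) b ≫ (K.A k).ι) ≫ (K.V k).hom = pullback.snd (a k) b ≫ W'.ι ≫ T'.hom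
      rw [← Over.w (K.f k), ← Over.w g]
      simp only [← Category.assoc]
      exact congrArg (· ≫ T.hom) (hsq k).symm)
    have e : f' k ≫ g = q ≫ K.f k := Over.OverMorphism.ext (hsq k)
    show R (f' k ≫ g)
    rw [e]
    exact R.downward_closed (K.mem k) q
  · exact isAffineOpen_top (Limits.pullback (a k) b)
  · intro z _
    show W'.ι (pullback.snd (a k) b z) ∈ W'
    exact (pullback.snd (a k) b z).2
  · haveI : Flat (a k) := by
      haveI := K.flat k
      have : IsPullback (𝟙 _) (a k) ((K.A k).ι ≫ (K.f k).left) W.ι :=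
        IsPullback.of_horiz_isIso_mono ⟨by rw [Category.id_comp, Scheme.Hom.resLE_comp_ι]⟩
      exact MorphismProperty.of_isPullback (P := @Flat) this (K.flat k)
    haveI : Flat (f' k).left := inferInstanceAs (Flat (pullback.snd (a k) b ≫ W'.ι))
    infer_instance
  · intro z hz
    obtain ⟨k, p, hp, hpz⟩ := K.cover _ (hle hz)
    obtain ⟨r, -, hr⟩ := Scheme.Pullback.exists_preimage_pullback (f := a k) (g := b)
      (⟨p, hp⟩ : (K.A k : Scheme.{u})) (⟨z, hz⟩ : (W' : Scheme.{u})) (by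
        refine W.ι.isOpenEmbedding.injective ?_
        rw [← Scheme.Hom.comp_apply, ← Scheme.Hom.comp_apply, Scheme.Hom.resLE_comp_ι, Scheme.Hom.resLE_comp_ι]
        exact hpz)
    refine ⟨k, r, trivial, ?_⟩
    show W'.ι (pullback.snd (a k) b r) = z
    rw [hr]
    rfl

theorem QCov.pullback {T T' : Over S} {R : Sieve T} (h : QCov T R) (g : T' ⟶ T) :
    QCov T' (R.pullback g) := fun x => by
  obtain ⟨W, hW, hx, ⟨K⟩⟩ := h (g.left x)
  obtain ⟨W₁, hW₁, hxW₁, hle⟩ := exists_isAffineOpen_mem_and_subset (x := x) (U := g.left ⁻¹ᵁ W) hx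
  let T₁ : Over S := Over.mk (W₁.ι ≫ T'.hom)
  let j : T₁ ⟶ T' := Over.homMk W₁.ι rfl
  obtain ⟨W₂, hW₂, hxW₂, ⟨L⟩⟩ := qCov_pullback_of_fam hW K (j ≫ g) (fun y => hle y.2) ⟨x, hxW₁⟩
  refine ⟨W₁.ι ''ᵁ W₂, hW₂.image_of_isOpenImmersion W₁.ι, ⟨⟨x, hxW₁⟩, hxW₂, rfl⟩, ⟨{
    κ := L.κ, finite := inferInstance, V := L.V, f := fun k => L.f k ≫ j, A := L.A
    mem := fun k => ?_, affine := L.affine, le := fun k z hz => ⟨_, L.le k hz, rfl⟩
    flat := fun k => ?_, cover := ?_ }⟩⟩
  · show R ((L.f k ≫ j) ≫ g)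
    rw [Category.assoc]
    exact L.mem k
  · haveI := L.flat k
    rw [Over.comp_left, ← Category.assoc]
    show Flat (_ ≫ W₁.ι)
    infer_instance
  · rintro _ ⟨y, hy, rfl⟩
    obtain ⟨k, a, ha, hak⟩ := L.cover y hy
    exact ⟨k, a, ha, congrArg W₁.ι hak⟩

theorem qCov_top (T : Over S) : QCov T ⊤ := fun x => by
  obtain ⟨W, hW, hx, -⟩ := exists_isAffineOpen_mem_and_subset (x := x) (U := ⊤) trivial
  exact ⟨W, hW, hx, ⟨{
    κ := Unit, finite := inferInstance, V := fun _ => T, f := fun _ => 𝟙 T, A := fun _ => W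
    mem := fun _ => trivial, affine := fun _ => hW, le := fun _ _ h => h
    flat := fun _ => by rw [Over.id_left, Category.comp_id]; infer_instance
    cover := fun y hy => ⟨(), y, hy, rfl⟩ }⟩⟩

theorem QCov.exists_fam {T : Over S} {R : Sieve T} (h : QCov T R) {W : T.left.Opens} (hW : IsAffineOpen W) :
    Nonempty (QFam W R) := by
  let TW : Over S := Over.mk (W.ι ≫ T.hom)
  let i : TW ⟶ T := Over.homMk W.ι rfl
  choose Wx hWx hxWx K using fun y : TW.left => h.pullback i y
  haveI : IsAffine TW.left := hW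
  obtain ⟨s, hs⟩ := CompactSpace.elim_nhds_subcover (fun y : TW.left => (Wx y : Set TW.left))
    (fun y => (Wx y).2.mem_nhds (hxWx y))
  let K' := fun y : s => (K y.1).some
  let e := Fintype.equivFin s
  refine ⟨{
    κ := Σ j : Fin (Fintype.card s), (K' (e.symm j)).κ
    finite := inferInstance
    V := fun j => (K' (e.symm j.1)).V j.2
    f := fun j => (K' (e.symm j.1)).f j.2 ≫ i
    A := fun j => (K' (e.symm j.1)).A j.2
    mem := fun j => (K' (e.symm j.1)).mem j.2
    affine := fun j => (K' (e.symm j.1)).affine j.2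
    le := fun j z _ => (((K' (e.symm j.1)).f j.2).left z).2
    flat := fun j => ?_
    cover := fun x hx => ?_ }⟩
  · haveI := (K' (e.symm j.1)).flat j.2
    rw [Over.comp_left, ← Category.assoc]
    show Flat (_ ≫ W.ι)
    infer_instance
  · have hmem : (⟨x, hx⟩ : (W : Scheme.{u})) ∈ ⋃ y ∈ s, (Wx y : Set TW.left) := hs ▸ Set.mem_univ _
    obtain ⟨y, hy, hxy⟩ := Set.mem_iUnion₂.1 hmem
    obtain ⟨j, hj⟩ : ∃ j, e.symm j = ⟨y, hy⟩ := ⟨e ⟨y, hy⟩, e.symm_apply_apply _⟩
    obtain ⟨k, a, ha, hak⟩ := (K' (e.symm j)).cover ⟨x, hx⟩ (by rw [hj]; exact hxy)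
    exact ⟨⟨j, k⟩, a, ha, congrArg W.ι hak⟩

theorem QCov.bind {T : Over S} {R R' : Sieve T} (h : QCov T R)
    (h' : ∀ ⦃V : Over S⦄ (f : V ⟶ T), R f → QCov V (R'.pullback f)) : QCov T R' := fun x => by
  obtain ⟨W, hW, hx, ⟨K⟩⟩ := h x
  have hk : ∀ k, Nonempty (QFam (K.A k) (R'.pullback (K.f k))) := fun k =>
    (h' _ (K.mem k)).exists_fam (K.affine k)
  let L := fun k => (hk k).some
  refine ⟨W, hW, hx, ⟨{
    κ := Σ k, (L k).κ
    finite := inferInstance
    V := fun j => (L j.1).V j.2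
    f := fun j => (L j.1).f j.2 ≫ K.f j.1
    A := fun j => (L j.1).A j.2
    mem := fun j => (L j.1).mem j.2
    affine := fun j => (L j.1).affine j.2
    le := fun j z hz => K.le j.1 ((L j.1).le j.2 hz)
    flat := fun j => ?_
    cover := fun y hy => ?_ }⟩⟩
  · let l := ((L j.1).f j.2).left
    haveI := (L j.1).flat j.2
    haveI := K.flat j.1
    let m : ((L j.1).A j.2 : Scheme.{u}) ⟶ (K.A j.1 : Scheme.{u}) := l.resLE _ _ ((L j.1).le j.2)
    haveI : Flat m := by
      have : IsPullback (𝟙 _) m (((L j.1).A j.2).ι ≫ l) (K.A j.1).ι :=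
        IsPullback.of_horiz_isIso_mono ⟨by rw [Category.id_comp, Scheme.Hom.resLE_comp_ι]⟩
      exact MorphismProperty.of_isPullback (P := @Flat) this ((L j.1).flat j.2)
    rw [Over.comp_left]
    show Flat (((L j.1).A j.2).ι ≫ l ≫ (K.f j.1).left)
    rw [← Scheme.Hom.resLE_comp_ι_assoc l ((L j.1).le j.2)]
    infer_instance
  · obtain ⟨k, a, ha, hak⟩ := K.cover y hy
    obtain ⟨m, b, hb, hbm⟩ := (L k).cover a ha
    exact ⟨⟨k, m⟩, b, hb, (congrArg (K.f k).left hbm).trans hak⟩

variable (S) in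
/-- The sieves with finite flat affine witnesses form a topology. -/
def qtop : GrothendieckTopology (Over S) where
  sieves T := {R | QCov T R}
  top_mem' := qCov_top
  pullback_stable' := fun _ _ _ g h => h.pullback g
  transitive' := fun _ _ h R h' => h.bind (R' := R) fun _ f hf => h' hf

theorem mem_qtop {T : Over S} {R : Sieve T} : R ∈ qtop S T ↔ QCov T R := Iff.rfl

end Groth.Agent.QDesc10
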