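import Groth.Agent.QDesc10.Tra
import Groth.Agent.QDesc10.Topo
import Groth.Agent.QDesc10.Fib
import Mathlib.AlgebraicGeometry.Morphisms.Flat

/-!
# Affine families of lifts in a category fibred in groupoids
-/

set_option autoImplicit false
set_option backward.isDefEq.respectTransparency false
set_option backward.isDefEq.respectTransparency.types false
set_option linter.style.haveILetI false

universe v w u

open CategoryTheory CategoryTheory.Limits AlgebraicGeometry TopologicalSpace Opposite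

namespace Groth.Agent.QDesc10

theorem flat_appLE {X Y : Scheme.{u}} (f : X ⟶ Y) {W : Y.Opens} {A : X.Opens} (hW : IsAffineOpen W)
    (hA : IsAffineOpen A) (h : A ≤ f ⁻¹ᵁ W) (hf : Flat (A.ι ≫ f)) : (f.appLE W A h).hom.Flat := by
  haveI : IsAffine (A : Scheme.{u}) := hA
  have e : (⊤ : (A : Scheme.{u}).Opens) ≤ (A.ι ≫ f) ⁻¹ᵁ W := fun z _ => h z.2
  have h1 : ((A.ι ≫ f).appLE W ⊤ e).hom.Flat :=
    HasRingHomProperty.appLE (P := @Flat) (A.ι ≫ f) hf ⟨W, hW⟩ ⟨⊤, isAffineOpen_top _⟩ e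
  have hle : (⊤ : (A : Scheme.{u}).Opens) ≤ A.ι ⁻¹ᵁ A := fun z _ => z.2
  have h2 := Scheme.Hom.appLE_comp_appLE A.ι f W A ⊤ h hle
  haveI : IsIso (A.ι.appLE A ⊤ hle) := by
    rw [Scheme.Opens.ι_appLE]
    have key : ∀ {U V : X.Opens} (i : U ⟶ V), U = V → IsIso (X.presheaf.map i.op) := fun {U V} i e => by
      subst e
      rw [Subsingleton.elim i (𝟙 U)]
      infer_instance
    exact key _ A.ι_image_top
  have h3 : f.appLE W A h = (A.ι ≫ f).appLE W ⊤ e ≫ inv (A.ι.appLE A ⊤ hle) := by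
    rw [← h2, Category.assoc, IsIso.hom_inv_id, Category.comp_id]
  rw [h3, CommRingCat.hom_comp]
  exact RingHom.Flat.comp h1
    (RingHom.Flat.of_bijective (ConcreteCategory.bijective_of_isIso (inv (A.ι.appLE A ⊤ hle))))

variable {S : Scheme.{u}} {𝒳 : BasedCategory.{v, w} (Over S)}

/-- A finite family of affine pieces of lifts, flat and covering an open below. -/
structure LFam {ξ : 𝒳.obj} (W : (StMod.sch 𝒳 ξ).Opens) (R : Sieve (𝒳.p.obj ξ)) where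
  /-- the index -/
  κ : Type
  finite : Finite κ
  /-- the objects -/
  z : κ → 𝒳.obj
  /-- the morphisms -/
  φ : ∀ k, z k ⟶ ξ
  /-- the affine pieces -/
  A : ∀ k, (StMod.sch 𝒳 (z k)).Opens
  mem : ∀ k, R (𝒳.p.map (φ k))
  affine : ∀ k, IsAffineOpen (A k)
  le : ∀ k, A k ≤ StMod.bmap 𝒳 (φ k) ⁻¹ᵁ W
  flat : ∀ k, ((StMod.bmap 𝒳 (φ k)).appLE W (A k) (le k)).hom.Flat
  cover : ∀ x ∈ W, ∃ k, ∃ a ∈ A k, StMod.bmap 𝒳 (φ k) a = x

attribute [instance] LFam.finite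

theorem exists_lfam (h : FibCat.IsFibGrpd 𝒳.p) {ξ : 𝒳.obj} {R : Sieve (𝒳.p.obj ξ)}
    (hR : QCov (𝒳.p.obj ξ) R) {W : (StMod.sch 𝒳 ξ).Opens} (hW : IsAffineOpen W) : Nonempty (LFam W R) := by
  obtain ⟨K⟩ := hR.exists_fam hW
  choose z φ e he using fun k => exists_lift h (x := ξ) (K.f k)
  let i : ∀ k, (𝒳.p.obj (z k)).left ⟶ (K.V k).left := fun k => (eqToHom (e k)).left
  have hb : ∀ k, StMod.bmap 𝒳 (φ k) = i k ≫ (K.f k).left := fun k => by
    show (𝒳.p.map (φ k)).left = _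
    rw [he k, Over.comp_left]
  haveI : ∀ k, IsIso (i k) := fun k => inferInstanceAs (IsIso ((Over.forget S).map (eqToHom (e k))))
  have hle : ∀ k, i k ⁻¹ᵁ K.A k ≤ StMod.bmap 𝒳 (φ k) ⁻¹ᵁ W := fun k z hz => by
    rw [hb k]; exact K.le k hz
  refine ⟨{
    κ := K.κ, finite := inferInstance, z := z, φ := φ, A := fun k => i k ⁻¹ᵁ K.A k
    mem := fun k => by rw [he k]; exact R.downward_closed (K.mem k) _
    affine := fun k => (K.affine k).preimage_of_isIso (i k)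
    le := hle, flat := fun k => ?_, cover := fun x hx => ?_ }⟩
  · refine flat_appLE _ hW ((K.affine k).preimage_of_isIso (i k)) (hle k) ?_
    haveI := K.flat k
    rw [hb k, ← Category.assoc]
    have : (i k ⁻¹ᵁ K.A k).ι ≫ i k = (i k ∣_ K.A k) ≫ (K.A k).ι := (morphismRestrict_ι _ _).symm
    rw [this, Category.assoc]
    infer_instance
  · obtain ⟨k, a, ha, hak⟩ := K.cover x hx
    obtain ⟨b, hba⟩ := (i k).homeomorph.surjective a
    refine ⟨k, b, ?_, ?_⟩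
    · show i k b ∈ K.A k
      rw [show i k b = a from hba]; exact ha
    · show StMod.bmap 𝒳 (φ k) b = x
      rw [hb k]
      exact (Scheme.Hom.comp_apply _ _ _).trans ((congrArg (K.f k).left hba).trans hak)

theorem exists_prime {ξ : 𝒳.obj} {W : (StMod.sch 𝒳 ξ).Opens} {R : Sieve (𝒳.p.obj ξ)} (K : LFam W R)
    (hW : IsAffineOpen W) (P : Ideal Γ(StMod.sch 𝒳 ξ, W)) (hP : P.IsPrime) :
    ∃ k, ∃ Q : Ideal Γ(StMod.sch 𝒳 (K.z k), K.A k), Q.IsPrime ∧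
      Q.comap ((StMod.bmap 𝒳 (K.φ k)).appLE W (K.A k) (K.le k)).hom = P := by
  let pt : PrimeSpectrum Γ(StMod.sch 𝒳 ξ, W) := ⟨P, hP⟩
  have hmem : hW.fromSpec pt ∈ W := by
    rw [← SetLike.mem_coe, ← hW.range_fromSpec]
    exact Set.mem_range_self pt
  obtain ⟨k, a, ha, hak⟩ := K.cover _ hmem
  refine ⟨k, ((K.affine k).primeIdealOf ⟨a, ha⟩).asIdeal, inferInstance, ?_⟩
  have h := IsAffineOpen.comap_primeIdealOf_appLE W hW (K.A k) (K.affine k) (K.le k) ha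
  have h2 : hW.primeIdealOf ⟨_, K.le k ha⟩ = pt :=
    hW.fromSpec.isOpenEmbedding.injective ((hW.fromSpec_primeIdealOf _).trans hak)
  exact congrArg PrimeSpectrum.asIdeal (h.trans h2)

/-- Squares over a pair of morphisms with the same target. -/
theorem exists_square (h : FibCat.IsFibGrpd 𝒳.p) {z₁ z₂ ξ : 𝒳.obj} (φ₁ : z₁ ⟶ ξ) (φ₂ : z₂ ⟶ ξ) :
    ∃ (z' : 𝒳.obj) (χ : z' ⟶ z₁) (q : z' ⟶ z₂), χ ≫ φ₁ = q ≫ φ₂ ∧
      IsPullback (StMod.bmap 𝒳 χ) (StMod.bmap 𝒳 q) (StMod.bmap 𝒳 φ₁) (StMod.bmap 𝒳 φ₂) := by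
  let fs := pullback.fst (StMod.bmap 𝒳 φ₁) (StMod.bmap 𝒳 φ₂)
  let sn := pullback.snd (StMod.bmap 𝒳 φ₁) (StMod.bmap 𝒳 φ₂)
  let P : Over S := Over.mk (fs ≫ (𝒳.p.obj z₁).hom)
  let pf : P ⟶ 𝒳.p.obj z₁ := Over.homMk fs rfl
  let ps : P ⟶ 𝒳.p.obj z₂ := Over.homMk sn (by
    show sn ≫ (𝒳.p.obj z₂).hom = fs ≫ (𝒳.p.obj z₁).hom
    rw [← Over.w (𝒳.p.map φ₁), ← Over.w (𝒳.p.map φ₂), ← Category.assoc, ← Category.assoc]
    exact congrArg (· ≫ (𝒳.p.obj ξ).hom) pullback.condition.symm)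
  obtain ⟨z', q, e, hq⟩ := exists_lift h ps
  have hsq : (eqToHom e ≫ pf) ≫ 𝒳.p.map φ₁ = 𝒳.p.map (q ≫ φ₂) := by
    rw [Functor.map_comp, hq, Category.assoc, Category.assoc]
    refine congrArg (eqToHom e ≫ ·) (Over.OverMorphism.ext ?_)
    exact pullback.condition
  obtain ⟨χ, hχ, hc⟩ := exists_factor h φ₁ (q ≫ φ₂) (eqToHom e ≫ pf) hsq
  refine ⟨z', χ, q, hc, ?_⟩
  haveI : IsIso (eqToHom e).left := inferInstanceAs (IsIso ((Over.forget S).map (eqToHom e)))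
  refine (IsPullback.of_hasPullback (StMod.bmap 𝒳 φ₁) (StMod.bmap 𝒳 φ₂)).of_iso
    (asIso (eqToHom e).left).symm (Iso.refl _) (Iso.refl _) (Iso.refl _) ?_ ?_ (by simp) (by simp)
  · show fs ≫ 𝟙 _ = inv (eqToHom e).left ≫ (𝒳.p.map χ).left
    rw [hχ, Over.comp_left, IsIso.inv_hom_id_assoc, Category.comp_id]
    rfl
  · show sn ≫ 𝟙 _ = inv (eqToHom e).left ≫ (𝒳.p.map q).left
    rw [hq, Over.comp_left, IsIso.inv_hom_id_assoc, Category.comp_id]
    rfl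

end Groth.Agent.QDesc10
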