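import Groth.Agent.QDesc10.Tw
import Groth.Agent.QDesc10.Fppf
import Groth.Prelude.Def_AlgSt2

/-!
# The band coordinate of morphisms between values of a section of a banded gerbe
-/

set_option autoImplicit false
set_option backward.isDefEq.respectTransparency false
set_option backward.isDefEq.respectTransparency.types false
set_option linter.style.haveILetI false

universe u

open CategoryTheory CategoryTheory.Limits AlgebraicGeometry TopologicalSpace Opposite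

namespace Groth.Agent.QDesc10

open Groth.Agent.AModX

theorem eo_bmap {S : Scheme.{u}} {𝒳 𝒴 : AlgSt.Cat S} (π : 𝒳 ⥤ᵇ 𝒴) {ξ' ξ : 𝒳.obj} (φ : ξ' ⟶ ξ) :
    eo π ξ' ≫ StMod.bmap 𝒴 (π.map φ) = StMod.bmap 𝒳 φ ≫ eo π ξ := by
  have h := StMod.bmap_map_comm π φ (g := StMod.bmap 𝒳 φ) rfl
  rw [← cancel_mono (eqToHom (StMod.sch_obj_eq π ξ)), Category.assoc, h]
  simp

theorem appLE_resTop {X Y : Scheme.{u}} (f : Y ⟶ X) {U : X.Opens} {V : Y.Opens} (h : V ≤ f ⁻¹ᵁ U) (c : Γ(X, ⊤)) :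
    f.appLE U V h (TwSh.resTop X U c) = TwSh.resTop Y V (f.appTop c) := by
  refine (ConcreteCategory.congr_hom (Scheme.Hom.map_appLE f h (homOfLE (le_top : U ≤ ⊤)).op) c).trans ?_
  rw [Scheme.Hom.appLE]
  rfl

variable {S : Scheme.{u}} {X : Over S} {𝒳 : AlgSt.Cat S} {A : (Over S)ᵒᵖ ⥤ GrpCat.{u}}
  {π : 𝒳 ⥤ᵇ AlgSt.ofSch X} {σ : AlgSt.ofSch X ⥤ᵇ 𝒳}
  (e : BasedFunctor.comp σ π ≅ BasedFunctor.id (AlgSt.ofSch X))

theorem sch_hom_ext {a b : (AlgSt.ofSch X).obj} {f g : a ⟶ b}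
    (h : (AlgSt.ofSch X).p.map f = (AlgSt.ofSch X).p.map g) : f = g :=
  Stk.EltObj.hom_ext h

/-- The morphism of the base under a morphism between values of the section. -/
noncomputable def under {t' t : (AlgSt.ofSch X).obj} (ψ : σ.obj t' ⟶ σ.obj t) : t' ⟶ t :=
  (e.inv : BasedNatTrans _ _).toNatTrans.app t' ≫ π.map ψ ≫ (e.hom : BasedNatTrans _ _).toNatTrans.app t

theorem pmap_hom_app (t : (AlgSt.ofSch X).obj) :
    (AlgSt.ofSch X).p.map ((e.hom : BasedNatTrans _ _).toNatTrans.app t) =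
      eqToHom ((π.w_obj (σ.obj t)).trans (σ.w_obj t)) := by
  have h : (AlgSt.ofSch X).p.IsHomLift (𝟙 ((AlgSt.ofSch X).p.obj t))
      ((e.hom : BasedNatTrans _ _).toNatTrans.app t) := BasedNatTrans.app_isHomLift _ t
  have h2 := @IsHomLift.fac' _ _ _ _ (AlgSt.ofSch X).p _ _ _ _ (𝟙 ((AlgSt.ofSch X).p.obj t)) _ h
  rw [h2]; simp

theorem pmap_inv_app (t : (AlgSt.ofSch X).obj) :
    (AlgSt.ofSch X).p.map ((e.inv : BasedNatTrans _ _).toNatTrans.app t) =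
      eqToHom ((π.w_obj (σ.obj t)).trans (σ.w_obj t)).symm := by
  have h : (AlgSt.ofSch X).p.IsHomLift (𝟙 ((AlgSt.ofSch X).p.obj t))
      ((e.inv : BasedNatTrans _ _).toNatTrans.app t) := BasedNatTrans.app_isHomLift _ t
  have h2 := @IsHomLift.fac' _ _ _ _ (AlgSt.ofSch X).p _ _ _ _ (𝟙 ((AlgSt.ofSch X).p.obj t)) _ h
  rw [h2]; simp

theorem pmap_under {t' t : (AlgSt.ofSch X).obj} (ψ : σ.obj t' ⟶ σ.obj t) :
    (AlgSt.ofSch X).p.map (under e ψ) = baseImage σ ψ := by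
  erw [under, Functor.map_comp, Functor.map_comp, pmap_hom_app, pmap_inv_app, pmap_map π ψ]
  simp [baseImage]

theorem bmap_under {t' t : (AlgSt.ofSch X).obj} (ψ : σ.obj t' ⟶ σ.obj t) :
    StMod.bmap (AlgSt.ofSch X) (under e ψ) = StMod.bmap (image σ) (homI σ ψ) :=
  congrArg (fun f => Over.Hom.left f) (pmap_under e ψ)

theorem under_map {t' t : (AlgSt.ofSch X).obj} (f : t' ⟶ t) : under e (σ.map f) = f :=
  sch_hom_ext (by rw [pmap_under, baseImage_map])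

theorem under_id (t : (AlgSt.ofSch X).obj) : under e (𝟙 (σ.obj t)) = 𝟙 t :=
  sch_hom_ext (by rw [pmap_under, CategoryTheory.Functor.map_id]; simp [baseImage])

theorem under_comp {t'' t' t : (AlgSt.ofSch X).obj} (ψ' : σ.obj t'' ⟶ σ.obj t') (ψ : σ.obj t' ⟶ σ.obj t) :
    under e (ψ' ≫ ψ) = under e ψ' ≫ under e ψ :=
  sch_hom_ext (by rw [pmap_under, Functor.map_comp, pmap_under, pmap_under]; simp [baseImage])

theorem pmap_map_under {t' t : (AlgSt.ofSch X).obj} (ψ : σ.obj t' ⟶ σ.obj t) :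
    𝒳.p.map (σ.map (under e ψ)) = 𝒳.p.map ψ := by
  rw [pmap_map, pmap_under]; simp [baseImage]

theorem pi_map_under {t' t : (AlgSt.ofSch X).obj} (ψ : σ.obj t' ⟶ σ.obj t) :
    π.map (σ.map (under e ψ)) = π.map ψ :=
  sch_hom_ext (by rw [pmap_map π, pmap_map π, pmap_map_under])

theorem isIso_map_autO {ξ : 𝒳.obj} (α : Gerb.AutO ξ) : IsIso (𝒳.p.map α.hom.1) := by
  rw [TwSh.map_autO_hom]; infer_instance

variable (hπ : LocHyp π) {ι : TwSh.BandHom 𝒳 A} {J : GrothendieckTopology (Over S)}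
  (hb : TwSh.IsBandedGerbe J π ι)

/-- The band coordinate. -/
noncomputable def band {t' t : (AlgSt.ofSch X).obj} (ψ : σ.obj t' ⟶ σ.obj t) : A.obj (op (𝒳.p.obj (σ.obj t'))) :=
  (exists_band hπ hb (pi_map_under e ψ)).choose

theorem band_spec {t' t : (AlgSt.ofSch X).obj} (ψ : σ.obj t' ⟶ σ.obj t) :
    (ι.hom _ (band e hπ hb ψ)).hom.1 ≫ σ.map (under e ψ) = ψ :=
  (exists_band hπ hb (pi_map_under e ψ)).choose_spec

include hπ hb in
theorem band_unique {ξ' ξ : 𝒳.obj} (φ : ξ' ⟶ ξ) {a a' : A.obj (op (𝒳.p.obj ξ'))}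
    (h : (ι.hom ξ' a).hom.1 ≫ φ = (ι.hom ξ' a').hom.1 ≫ φ) : a = a' :=
  (hb.2 ξ').1 (Aut.ext (Functor.Fiber.hom_ext
    (hom_ext hπ.fx φ ((TwSh.map_autO_hom ξ' _).trans (TwSh.map_autO_hom ξ' _).symm) h)))

theorem band_map {t' t : (AlgSt.ofSch X).obj} (f : t' ⟶ t) : band e hπ hb (σ.map f) = 1 := by
  refine band_unique hπ hb (σ.map f) ?_
  have h := band_spec e hπ hb (σ.map f)
  rw [under_map] at h
  rw [h, map_one]
  exact (Category.id_comp _).symm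

theorem band_eq {t' t : (AlgSt.ofSch X).obj} {ψ : σ.obj t' ⟶ σ.obj t} {a : A.obj (op (𝒳.p.obj (σ.obj t')))}
    (h : (ι.hom _ a).hom.1 ≫ σ.map (under e ψ) = ψ) : band e hπ hb ψ = a :=
  band_unique hπ hb _ ((band_spec e hπ hb ψ).trans h.symm)

theorem band_comp {t'' t' t : (AlgSt.ofSch X).obj} (ψ' : σ.obj t'' ⟶ σ.obj t') (ψ : σ.obj t' ⟶ σ.obj t) :
    band e hπ hb (ψ' ≫ ψ) =
      A.map (𝒳.p.map (σ.map (under e ψ'))).op (band e hπ hb ψ) * band e hπ hb ψ' := by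
  refine band_eq e hπ hb ?_
  rw [map_mul, under_comp, σ.toFunctor.map_comp]
  show ((ι.hom _ (band e hπ hb ψ')).hom.1 ≫ (ι.hom _ (A.map _ (band e hπ hb ψ))).hom.1) ≫ _ ≫ _ = _
  rw [Category.assoc, reassoc_of% ι.natural (σ.map (under e ψ')) (band e hπ hb ψ), band_spec e hπ hb ψ,
    ← Category.assoc, band_spec e hπ hb ψ']

variable (χ : A ⟶ TwSh.GmPsh S)

theorem charUnit_map {ξ' ξ : 𝒳.obj} (φ : ξ' ⟶ ξ) (a : A.obj (op (𝒳.p.obj ξ))) :
    TwSh.charUnit χ ξ' (A.map (𝒳.p.map φ).op a) =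
      Units.map (StMod.bmap 𝒳 φ).appTop.hom.toMonoidHom (TwSh.charUnit χ ξ a) :=
  ConcreteCategory.congr_hom (χ.naturality (𝒳.p.map φ).op) a

theorem charUnit_mul (ξ : 𝒳.obj) (a b : A.obj (op (𝒳.p.obj ξ))) :
    TwSh.charUnit χ ξ (a * b) = TwSh.charUnit χ ξ a * TwSh.charUnit χ ξ b :=
  map_mul (χ.app (op (𝒳.p.obj ξ))).hom a b

/-- The twisting scalar of a morphism between values of the section. -/
noncomputable def tscal {t' t : (AlgSt.ofSch X).obj} (ψ : σ.obj t' ⟶ σ.obj t) :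
    (Γ(StMod.sch (AlgSt.ofSch X) t', ⊤))ˣ :=
  Units.map (eo σ t').appTop.hom.toMonoidHom (TwSh.charUnit χ (σ.obj t') (band e hπ hb ψ) ^ (1 : ℤ))⁻¹

theorem tscal_map {t' t : (AlgSt.ofSch X).obj} (f : t' ⟶ t) : tscal e hπ hb χ (σ.map f) = 1 := by
  rw [tscal, band_map, zpow_one]
  simp

theorem tscal_comp {t'' t' t : (AlgSt.ofSch X).obj} (ψ' : σ.obj t'' ⟶ σ.obj t') (ψ : σ.obj t' ⟶ σ.obj t) :
    tscal e hπ hb χ (ψ' ≫ ψ) = tscal e hπ hb χ ψ' *
      Units.map (StMod.bmap (AlgSt.ofSch X) (under e ψ')).appTop.hom.toMonoidHom (tscal e hπ hb χ ψ) := by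
  rw [tscal, band_comp, charUnit_mul, charUnit_map χ (σ.map (under e ψ')) (band e hπ hb ψ)]
  rw [zpow_one, tscal, tscal, zpow_one, zpow_one, mul_inv_rev, map_mul]
  refine congrArg (_ * ·) ?_
  simp only [map_inv]
  refine congrArg (·⁻¹) (Units.ext ?_)
  show (eo σ t'').appTop ((StMod.bmap 𝒳 (σ.map (under e ψ'))).appTop _) =
    (StMod.bmap (AlgSt.ofSch X) (under e ψ')).appTop ((eo σ t').appTop _)
  rw [← CommRingCat.comp_apply, ← CommRingCat.comp_apply, ← Scheme.Hom.comp_appTop,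
    ← Scheme.Hom.comp_appTop, eo_bmap]

end Groth.Agent.QDesc10
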