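import Groth.Agent.QDesc10.Tra
import Mathlib.AlgebraicGeometry.Morphisms.Flat
import Mathlib.RingTheory.IsTensorProduct
import Mathlib.LinearAlgebra.TensorProduct.Quotient

/-!
# Sections over a product of affine opens, and a vanishing lemma for flat covers
-/

set_option autoImplicit false
set_option backward.isDefEq.respectTransparency false
set_option backward.isDefEq.respectTransparency.types false
set_option linter.style.haveILetI false

universe v w u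

open CategoryTheory CategoryTheory.Limits AlgebraicGeometry TopologicalSpace Opposite
open scoped TensorProduct

namespace Groth.Agent.QDesc10

/-- An element killed by the base change to every member of a flat covering family is zero. -/
theorem eq_zero_of_family {A : Type u} [CommRing A] {M : Type u} [AddCommGroup M] [Module A M] {κ : Type*}
    (B : κ → Type u) [∀ k, CommRing (B k)] [∀ k, Algebra A (B k)] [∀ k, Module.Flat A (B k)]
    (hcov : ∀ p : Ideal A, p.IsPrime → ∃ k, ∃ q : Ideal (B k), q.IsPrime ∧ q.comap (algebraMap A (B k)) = p)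
    (m : M) (h : ∀ k, (1 : B k) ⊗ₜ[A] m = 0) : m = 0 := by
  by_contra hm
  let I : Ideal A := LinearMap.ker (LinearMap.toSpanSingleton A M m)
  have hI : I ≠ ⊤ := fun e => hm (by
    have : (1 : A) ∈ I := e ▸ Submodule.mem_top
    simpa [I] using this)
  obtain ⟨p, hp, hIp⟩ := Ideal.exists_le_maximal I hI
  obtain ⟨k, q, hq, hqp⟩ := hcov p hp.isPrime
  let J : Ideal (B k) := I.map (algebraMap A (B k))
  have hJ : J ≤ q := Ideal.map_le_iff_le_comap.2 (hqp.symm ▸ hIp)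
  let f : (A ⧸ I) →ₗ[A] M := I.liftQ (LinearMap.toSpanSingleton A M m) le_rfl
  have hf : Function.Injective f := LinearMap.ker_eq_bot.1 (Submodule.ker_liftQ_eq_bot _ _ _ le_rfl)
  have h1 : (1 : B k) ⊗ₜ[A] (Submodule.Quotient.mk 1 : A ⧸ I) = 0 := by
    refine Module.Flat.lTensor_preserves_injective_linearMap (M := B k) f hf ?_
    rw [LinearMap.lTensor_tmul, map_zero]
    show (1 : B k) ⊗ₜ[A] ((1 : A) • m) = 0
    rw [one_smul, h k]
  let ψ : B k ⊗[A] (A ⧸ I) →ₐ[A] B k ⧸ J :=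
    Algebra.TensorProduct.lift (IsScalarTower.toAlgHom A (B k) (B k ⧸ J))
      (Ideal.Quotient.liftₐ I (IsScalarTower.toAlgHom A A (B k ⧸ J)) fun a ha => by
        show algebraMap A (B k ⧸ J) a = 0
        rw [IsScalarTower.algebraMap_apply A (B k) (B k ⧸ J)]
        exact Ideal.Quotient.eq_zero_iff_mem.2 (Ideal.mem_map_of_mem _ ha)) (fun _ _ => Commute.all _ _)
  have h2 := congrArg ψ h1
  rw [map_zero] at h2
  have h3 : (1 : B k ⧸ J) = 0 := by
    rw [← h2]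
    exact (map_one ψ).symm
  exact hq.ne_top (top_le_iff.1 fun b _ => hJ (by
    have := Ideal.Quotient.eq_zero_iff_mem.1 (show Ideal.Quotient.mk J 1 = 0 from h3)
    simpa using J.mul_mem_left b this))

variable {S : Scheme.{u}} {𝒳 : BasedCategory.{v, w} (Over S)} {F : StMod.Mod 𝒳}
variable {z z' : 𝒳.obj} (q : z' ⟶ z) {X X₁ : Scheme.{u}} (p : StMod.sch 𝒳 z' ⟶ X₁)
  (g₁ : X₁ ⟶ X) (g₂ : StMod.sch 𝒳 z ⟶ X) {W : X.Opens} {A₁ : X₁.Opens} {A₂ : (StMod.sch 𝒳 z).Opens}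

/-- The open over the product. -/
abbrev sqOpen (A₁ : X₁.Opens) (A₂ : (StMod.sch 𝒳 z).Opens) : (StMod.sch 𝒳 z').Opens :=
  p ⁻¹ᵁ A₁ ⊓ StMod.bmap 𝒳 q ⁻¹ᵁ A₂

variable {q p g₁ g₂}

theorem isAffineOpen_sqOpen (hsq : IsPullback p (StMod.bmap 𝒳 q) g₁ g₂) (hW : IsAffineOpen W)
    (h₁ : IsAffineOpen A₁) (h₂ : IsAffineOpen A₂) (le₁ : A₁ ≤ g₁ ⁻¹ᵁ W) (le₂ : A₂ ≤ g₂ ⁻¹ᵁ W) :
    IsAffineOpen (sqOpen q p A₁ A₂) := by
  haveI : IsAffine _ := hW
  haveI : IsAffine _ := h₁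
  haveI : IsAffine _ := h₂
  exact .of_isIso (Scheme.Hom.isPullback_resLE hsq le₂ le₁ rfl).isoPullback.hom

section

variable (q p)
variable (le₁ : A₁ ≤ g₁ ⁻¹ᵁ W) (le₂ : A₂ ≤ g₂ ⁻¹ᵁ W) (hcomm : p ≫ g₁ = StMod.bmap 𝒳 q ≫ g₂)
  [Algebra Γ(X, W) Γ(X₁, A₁)]
  (halg : ∀ r, algebraMap Γ(X, W) Γ(X₁, A₁) r = g₁.appLE W A₁ le₁ r)
  [Module Γ(X, W) Γ(F.obj z, A₂)]
  (hsm : ∀ (r : Γ(X, W)) (x : Γ(F.obj z, A₂)), r • x = g₂.appLE W A₂ le₂ r • x)

include hcomm halg hsm in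
theorem sq_balanced (r : Γ(X, W)) (b : Γ(X₁, A₁)) (x : Γ(F.obj z, A₂)) :
    p.appLE A₁ (sqOpen q p A₁ A₂) inf_le_left (r • b) • tra F q (U' := sqOpen q p A₁ A₂) inf_le_right x =
      p.appLE A₁ (sqOpen q p A₁ A₂) inf_le_left b • tra F q (U' := sqOpen q p A₁ A₂) inf_le_right (r • x) := by
  rw [hsm, tra_smul, smul_smul, Algebra.smul_def, map_mul, halg, mul_comm (p.appLE _ _ _ _)]
  congr 2
  have e1 := ConcreteCategory.congr_hom
    (Scheme.Hom.appLE_comp_appLE p g₁ W A₁ (sqOpen q p A₁ A₂) le₁ inf_le_left) r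
  have e2 := ConcreteCategory.congr_hom
    (Scheme.Hom.appLE_comp_appLE (StMod.bmap 𝒳 q) g₂ W A₂ (sqOpen q p A₁ A₂) le₂ inf_le_right) r
  rw [CommRingCat.comp_apply] at e1 e2
  rw [e1, e2]
  congr 1
  simp only [hcomm]

/-- The comparison map from the tensor product to the sections over the product. -/
noncomputable def sqHom : Γ(X₁, A₁) ⊗[Γ(X, W)] Γ(F.obj z, A₂) →+ Γ(F.obj z', sqOpen q p A₁ A₂) :=
  TensorProduct.liftAddHom
    (AddMonoidHom.mk' (fun b => AddMonoidHom.mk'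
        (fun x => p.appLE A₁ (sqOpen q p A₁ A₂) inf_le_left b • tra F q (U' := sqOpen q p A₁ A₂) inf_le_right x)
        fun x y => by rw [map_add, smul_add])
      fun b c => AddMonoidHom.ext fun x => by
        simp only [AddMonoidHom.mk'_apply, AddMonoidHom.add_apply, map_add, add_smul])
    fun r b x => sq_balanced q p le₁ le₂ hcomm halg hsm r b x

@[simp] theorem sqHom_tmul (b : Γ(X₁, A₁)) (x : Γ(F.obj z, A₂)) :
    sqHom (F := F) q p le₁ le₂ hcomm halg hsm (b ⊗ₜ x) =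
      p.appLE A₁ (sqOpen q p A₁ A₂) inf_le_left b • tra F q (U' := sqOpen q p A₁ A₂) inf_le_right x :=
  rfl

theorem bijective_sqHom (hc : F.IsCartesian) (hq : F.IsLocQCoh) (hsq : IsPullback p (StMod.bmap 𝒳 q) g₁ g₂)
    (hW : IsAffineOpen W) (h₁ : IsAffineOpen A₁) (h₂ : IsAffineOpen A₂) :
    Function.Bijective (sqHom (F := F) q p le₁ le₂ hcomm halg hsm) := by
  let A' := sqOpen q p A₁ A₂
  let N := Γ(F.obj z, A₂)
  let N' := Γ(F.obj z', A')
  letI : Algebra Γ(X, W) Γ(StMod.sch 𝒳 z, A₂) := (g₂.appLE W A₂ le₂).hom.toAlgebra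
  letI : Algebra Γ(StMod.sch 𝒳 z, A₂) Γ(StMod.sch 𝒳 z', A') := algLE q inf_le_right
  letI : Algebra Γ(X₁, A₁) Γ(StMod.sch 𝒳 z', A') := (p.appLE A₁ A' inf_le_left).hom.toAlgebra
  letI : Algebra Γ(X, W) Γ(StMod.sch 𝒳 z', A') :=
    ((StMod.bmap 𝒳 q ≫ g₂).appLE W A' (fun _ hx => le₂ hx.2)).hom.toAlgebra
  haveI : IsScalarTower Γ(X, W) Γ(StMod.sch 𝒳 z, A₂) Γ(StMod.sch 𝒳 z', A') :=
    .of_algebraMap_eq fun r => (ConcreteCategory.congr_hom
      (Scheme.Hom.appLE_comp_appLE (StMod.bmap 𝒳 q) g₂ W A₂ A' le₂ inf_le_right) r).symm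
  haveI : IsScalarTower Γ(X, W) Γ(X₁, A₁) Γ(StMod.sch 𝒳 z', A') :=
    .of_algebraMap_eq fun r => by
      show (StMod.bmap 𝒳 q ≫ g₂).appLE W A' _ r = p.appLE A₁ A' _ (algebraMap _ _ r)
      rw [halg]
      refine Eq.trans ?_ (ConcreteCategory.congr_hom
        (Scheme.Hom.appLE_comp_appLE p g₁ W A₁ A' le₁ inf_le_left) r).symm
      simp only [hcomm]
  haveI : IsScalarTower Γ(X, W) Γ(StMod.sch 𝒳 z, A₂) N :=
    .of_algebraMap_smul fun r x => (hsm r x).symm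
  have hpo : Algebra.IsPushout Γ(X, W) Γ(X₁, A₁) Γ(StMod.sch 𝒳 z, A₂) Γ(StMod.sch 𝒳 z', A') := by
    rw [← CommRingCat.isPushout_iff_isPushout]
    have h := (isIso_pushoutSection_iff hsq le₂ le₁ (UY := A') rfl).1
      (isIso_pushoutSection_of_isAffineOpen hsq le₂ le₁ rfl hW h₂ h₁)
    have e : CommRingCat.ofHom (algebraMap Γ(X, W) Γ(X₁, A₁)) = g₁.appLE W A₁ le₁ := by
      ext r; exact halg r
    rw [e]
    exact h
  letI : Module Γ(StMod.sch 𝒳 z, A₂) N' :=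
    Module.compHom _ (algebraMap Γ(StMod.sch 𝒳 z, A₂) Γ(StMod.sch 𝒳 z', A'))
  haveI : IsScalarTower Γ(StMod.sch 𝒳 z, A₂) Γ(StMod.sch 𝒳 z', A') N' :=
    .of_algebraMap_smul fun _ _ => rfl
  have hbc := isBaseChange_traLin (F := F) hc hq q h₂ (isAffineOpen_sqOpen hsq hW h₁ h₂ le₁ le₂)
    (inf_le_right : A' ≤ _) (fun _ => rfl)
  let e := (Algebra.IsPushout.cancelBaseChange Γ(X, W) Γ(X₁, A₁) Γ(StMod.sch 𝒳 z, A₂)
    Γ(StMod.sch 𝒳 z', A') N).symm
  have key : (sqHom (F := F) q p le₁ le₂ hcomm halg hsm : _ → _) = fun t => hbc.equiv (e t) := by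
    funext t
    induction t using TensorProduct.induction_on with
    | zero => rw [map_zero, map_zero, map_zero]
    | tmul b x =>
      rw [sqHom_tmul, Algebra.IsPushout.cancelBaseChange_symm_tmul, IsBaseChange.equiv_tmul]
      rfl
    | add a b ha hb => rw [map_add, ha, hb, map_add, map_add]
  rw [key]
  exact hbc.equiv.bijective.comp e.bijective

end

end Groth.Agent.QDesc10
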