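import Groth.Agent.QDesc10.LFam
import Groth.Agent.QDesc10.Square
import Mathlib.LinearAlgebra.TensorProduct.Pi

/-!
# Quasi-coherent modules satisfy descent for sections
-/

set_option autoImplicit false
set_option backward.isDefEq.respectTransparency false
set_option backward.isDefEq.respectTransparency.types false
set_option linter.style.haveILetI false

universe v w u

open CategoryTheory CategoryTheory.Limits AlgebraicGeometry TopologicalSpace Opposite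
open scoped TensorProduct

namespace Groth.Agent.QDesc10

open Groth.Agent.AModX

variable {S : Scheme.{u}} {𝒳 : BasedCategory.{v, w} (Over S)} {F : StMod.Mod 𝒳}
  (h : FibCat.IsFibGrpd 𝒳.p) (hc : F.IsCartesian) (hq : F.IsLocQCoh)

include h hc hq in
/-- A section over an affine open above which vanishes after transport to a family below is zero. -/
theorem eq_zero_of_lfam {ξ : 𝒳.obj} {W : (StMod.sch 𝒳 ξ).Opens} {R : Sieve (𝒳.p.obj ξ)} (hW : IsAffineOpen W)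
    (K : LFam W R) {z : 𝒳.obj} (φ : z ⟶ ξ) {W' : (StMod.sch 𝒳 z).Opens} (hW' : IsAffineOpen W')
    (le' : W' ≤ StMod.bmap 𝒳 φ ⁻¹ᵁ W) (D : Γ(F.obj z, W'))
    (H : ∀ (k : K.κ) (z' : 𝒳.obj) (χ : z' ⟶ z) (q : z' ⟶ K.z k), χ ≫ φ = q ≫ K.φ k →
      tra F χ (U' := sqOpen χ (StMod.bmap 𝒳 q) (K.A k) W') inf_le_right D = 0) : D = 0 := by
  letI : ∀ k, Algebra Γ(StMod.sch 𝒳 ξ, W) Γ(StMod.sch 𝒳 (K.z k), K.A k) :=
    fun k => algLE (K.φ k) (K.le k)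
  haveI : ∀ k, Module.Flat Γ(StMod.sch 𝒳 ξ, W) Γ(StMod.sch 𝒳 (K.z k), K.A k) := fun k => K.flat k
  letI : Module Γ(StMod.sch 𝒳 ξ, W) Γ(F.obj z, W') :=
    Module.compHom _ ((StMod.bmap 𝒳 φ).appLE W W' le').hom
  refine eq_zero_of_family (fun k => Γ(StMod.sch 𝒳 (K.z k), K.A k)) (fun P hP => exists_prime K hW P hP) D
    fun k => ?_
  obtain ⟨z', χ, q, e, hsq⟩ := exists_square h φ (K.φ k)
  refine (bijective_sqHom (F := F) χ (StMod.bmap 𝒳 q) (g₁ := StMod.bmap 𝒳 (K.φ k))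
    (g₂ := StMod.bmap 𝒳 φ) (K.le k) le' hsq.w.symm (fun _ => rfl) (fun _ _ => rfl) hc hq hsq.flip hW
    (K.affine k) hW').1 ?_
  rw [sqHom_tmul, map_one, one_smul, map_zero, H k z' χ q e]

variable {ξ : 𝒳.obj} {R : Sieve (𝒳.p.obj ξ)} (hR : QCov (𝒳.p.obj ξ) R)

include h hc hq hR in
/-- Sections agreeing along a covering sieve are equal. -/
theorem ext_sec {U : (StMod.sch 𝒳 ξ).Opens} {x y : Γ(F.obj ξ, U)}
    (H : ∀ ⦃z : 𝒳.obj⦄ (φ : z ⟶ ξ), R (𝒳.p.map φ) →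
      tra F φ (U' := StMod.bmap 𝒳 φ ⁻¹ᵁ U) le_rfl x = tra F φ le_rfl y) : x = y := by
  refine eq_of_locally _ _ fun p hp => ?_
  obtain ⟨W, hW, hpW, hWU⟩ := exists_isAffineOpen_mem_and_subset (x := p) (U := U) hp
  refine ⟨W, hWU, hpW, sub_eq_zero.1 ?_⟩
  obtain ⟨K⟩ := exists_lfam h hR hW
  have hid : W ≤ StMod.bmap 𝒳 (𝟙 ξ) ⁻¹ᵁ W := by rw [StMod.bmap_id]; exact le_rfl
  refine eq_zero_of_lfam h hc hq hW K (𝟙 ξ) hW hid _ fun k z' χ q e => ?_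
  rw [Category.comp_id] at e
  have hR' : R (𝒳.p.map χ) := by
    rw [e, Functor.map_comp]; exact R.downward_closed (K.mem k) _
  rw [← map_sub, tra_res, map_sub, sub_eq_zero]
  have h1 := congrArg (res (F.obj z') ((inf_le_right :
    sqOpen χ (StMod.bmap 𝒳 q) (K.A k) W ≤ _).trans ((StMod.bmap 𝒳 χ).preimage_mono hWU))) (H χ hR')
  rwa [res_tra, res_tra] at h1

/-- A family of sections on a sieve, compatible under transport. -/
structure Mt (F : StMod.Mod 𝒳) (R : Sieve (𝒳.p.obj ξ)) (U : (StMod.sch 𝒳 ξ).Opens) where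
  /-- the sections -/
  val : ∀ ⦃z : 𝒳.obj⦄ (φ : z ⟶ ξ), R (𝒳.p.map φ) → Γ(F.obj z, StMod.bmap 𝒳 φ ⁻¹ᵁ U)
  compat : ∀ ⦃z' z : 𝒳.obj⦄ (χ : z' ⟶ z) (φ : z ⟶ ξ) (hφ : R (𝒳.p.map φ)) (hχ : R (𝒳.p.map (χ ≫ φ)))
    (le : StMod.bmap 𝒳 (χ ≫ φ) ⁻¹ᵁ U ≤ StMod.bmap 𝒳 χ ⁻¹ᵁ (StMod.bmap 𝒳 φ ⁻¹ᵁ U)),
    tra F χ le (val φ hφ) = val (χ ≫ φ) hχ

theorem preimage_comp {z' z : 𝒳.obj} (χ : z' ⟶ z) (φ : z ⟶ ξ) (U : (StMod.sch 𝒳 ξ).Opens) :
    StMod.bmap 𝒳 (χ ≫ φ) ⁻¹ᵁ U = StMod.bmap 𝒳 χ ⁻¹ᵁ (StMod.bmap 𝒳 φ ⁻¹ᵁ U) := by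
  rw [StMod.bmap_comp]; rfl

variable {U : (StMod.sch 𝒳 ξ).Opens} (y : Mt F R U)

theorem Mt.tra_val {z' z : 𝒳.obj} (χ : z' ⟶ z) (φ : z ⟶ ξ) (hφ : R (𝒳.p.map φ))
    (hχ : R (𝒳.p.map (χ ≫ φ))) {O : (StMod.sch 𝒳 z).Opens} {O' : (StMod.sch 𝒳 z').Opens}
    (i : O ≤ StMod.bmap 𝒳 φ ⁻¹ᵁ U) (le : O' ≤ StMod.bmap 𝒳 χ ⁻¹ᵁ O) :
    tra F χ le (res (F.obj z) i (y.val φ hφ)) =
      res (F.obj z') ((preimage_comp χ φ U).symm ▸ le.trans ((StMod.bmap 𝒳 χ).preimage_mono i))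
        (y.val (χ ≫ φ) hχ) := by
  rw [tra_res, ← y.compat χ φ hφ hχ (preimage_comp χ φ U).le, res_tra]

theorem Mt.res_val_congr {z : 𝒳.obj} {φ φ' : z ⟶ ξ} (e : φ = φ') (hφ : R (𝒳.p.map φ)) (hφ' : R (𝒳.p.map φ'))
    {O : (StMod.sch 𝒳 z).Opens} (i : O ≤ StMod.bmap 𝒳 φ ⁻¹ᵁ U) (i' : O ≤ StMod.bmap 𝒳 φ' ⁻¹ᵁ U) :
    res (F.obj z) i (y.val φ hφ) = res (F.obj z) i' (y.val φ' hφ') := by
  subst e; rfl

include h hc hq hR in
theorem exists_sec_affine {W : (StMod.sch 𝒳 ξ).Opens} (hW : IsAffineOpen W) (hWU : W ≤ U) :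
    ∃ m : Γ(F.obj ξ, W), ∀ ⦃z : 𝒳.obj⦄ (φ : z ⟶ ξ) (hφ : R (𝒳.p.map φ)),
      tra F φ le_rfl m = res (F.obj z) ((StMod.bmap 𝒳 φ).preimage_mono hWU) (y.val φ hφ) := by
  obtain ⟨K⟩ := exists_lfam h hR hW
  let Ar := Γ(StMod.sch 𝒳 ξ, W)
  letI : ∀ k, Algebra Γ(StMod.sch 𝒳 ξ, W) Γ(StMod.sch 𝒳 (K.z k), K.A k) :=
    fun k => algLE (K.φ k) (K.le k)
  haveI : ∀ k, Module.Flat Γ(StMod.sch 𝒳 ξ, W) Γ(StMod.sch 𝒳 (K.z k), K.A k) := fun k => K.flat k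
  letI : ∀ k, Module Γ(StMod.sch 𝒳 ξ, W) Γ(F.obj (K.z k), K.A k) :=
    fun k => Module.compHom _ ((StMod.bmap 𝒳 (K.φ k)).appLE W (K.A k) (K.le k)).hom
  haveI : ∀ k, IsScalarTower Γ(StMod.sch 𝒳 ξ, W) Γ(StMod.sch 𝒳 (K.z k), K.A k) Γ(F.obj (K.z k), K.A k) :=
    fun k => .of_algebraMap_smul fun _ _ => rfl
  let d : ∀ k, Γ(F.obj ξ, W) →ₗ[Γ(StMod.sch 𝒳 ξ, W)] Γ(F.obj (K.z k), K.A k) :=
    fun k => traLin (F := F) (K.φ k) (K.le k) (fun _ => rfl)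
  let D := LinearMap.pi d
  let s : ∀ k, Γ(F.obj (K.z k), K.A k) := fun k =>
    res (F.obj (K.z k)) ((K.le k).trans ((StMod.bmap 𝒳 (K.φ k)).preimage_mono hWU)) (y.val (K.φ k) (K.mem k))
  have hs : Submodule.Quotient.mk (p := LinearMap.range D) s = 0 := by
    refine eq_zero_of_family (fun k => Γ(StMod.sch 𝒳 (K.z k), K.A k)) (fun P hP => exists_prime K hW P hP) _
      fun k => ?_
    have hbc := isBaseChange_traLin (F := F) hc hq (K.φ k) hW (K.affine k) (K.le k) (fun _ => rfl)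
    let t := hbc.equiv.symm (s k)
    have ht : hbc.equiv t = s k := hbc.equiv.apply_symm_apply _
    have key : (1 : Γ(StMod.sch 𝒳 (K.z k), K.A k)) ⊗ₜ[Γ(StMod.sch 𝒳 ξ, W)] s = D.lTensor _ t := by
      classical
      haveI := Fintype.ofFinite K.κ
      refine (TensorProduct.piRight Γ(StMod.sch 𝒳 ξ, W) Γ(StMod.sch 𝒳 ξ, W)
        Γ(StMod.sch 𝒳 (K.z k), K.A k) (fun l => Γ(F.obj (K.z l), K.A l))).injective (funext fun l => ?_)
      have hcomp : ∀ t', TensorProduct.piRight Γ(StMod.sch 𝒳 ξ, W) Γ(StMod.sch 𝒳 ξ, W)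
          Γ(StMod.sch 𝒳 (K.z k), K.A k) (fun l => Γ(F.obj (K.z l), K.A l)) (D.lTensor _ t') l =
          (d l).lTensor _ t' := fun t' => by
        induction t' using TensorProduct.induction_on with
        | zero => simp
        | tmul b m => simp [D]
        | add a b ha hb => simp only [map_add, Pi.add_apply, ha, hb]
      rw [hcomp, TensorProduct.piRight_apply, TensorProduct.piRightHom_tmul]
      obtain ⟨z', χ, q, e, hsq⟩ := exists_square h (K.φ k) (K.φ l)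
      let Φ := sqHom (F := F) q (StMod.bmap 𝒳 χ) (g₁ := StMod.bmap 𝒳 (K.φ k))
        (g₂ := StMod.bmap 𝒳 (K.φ l)) (K.le k) (K.le l) hsq.w (fun _ => rfl) (fun _ _ => rfl)
      refine (bijective_sqHom (F := F) q (StMod.bmap 𝒳 χ) (g₁ := StMod.bmap 𝒳 (K.φ k))
        (g₂ := StMod.bmap 𝒳 (K.φ l)) (K.le k) (K.le l) hsq.w (fun _ => rfl) (fun _ _ => rfl) hc hq hsq hW
        (K.affine k) (K.affine l)).1 (?_ : Φ _ = Φ _)
      let O := sqOpen q (StMod.bmap 𝒳 χ) (K.A k) (K.A l)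
      have hΦ : ∀ t', Φ ((d l).lTensor _ t') = tra F χ (U' := O) inf_le_left (hbc.equiv t') := fun t' => by
        induction t' using TensorProduct.induction_on with
        | zero => simp only [map_zero]
        | tmul b m =>
          rw [LinearMap.lTensor_tmul, sqHom_tmul, IsBaseChange.equiv_tmul, tra_smul]
          refine congrArg _ ?_
          have kk : O ≤ StMod.bmap 𝒳 (q ≫ K.φ l) ⁻¹ᵁ W := by
            rw [StMod.bmap_comp]; exact fun x hx => K.le l hx.2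
          show tra F q inf_le_right (tra F (K.φ l) (K.le l) m) = tra F χ inf_le_left (tra F (K.φ k) (K.le k) m)
          rw [tra_comp _ _ _ _ kk, tra_comp _ _ _ _ (e ▸ kk), tra_congr e]
        | add a b ha hb => simp only [map_add, ha, hb]
      rw [hΦ, ht, sqHom_tmul, map_one, one_smul]
      have hkl : R (𝒳.p.map (χ ≫ K.φ k)) := by
        rw [Functor.map_comp]; exact R.downward_closed (K.mem k) _
      show tra F q _ (res _ _ _) = tra F χ _ (res _ _ _)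
      rw [y.tra_val χ (K.φ k) (K.mem k) hkl, y.tra_val q (K.φ l) (K.mem l) (e ▸ hkl)]
      exact y.res_val_congr e.symm _ _ _ _
    have h2 := congrArg ((LinearMap.range D).mkQ.lTensor Γ(StMod.sch 𝒳 (K.z k), K.A k)) key
    rw [LinearMap.lTensor_tmul, ← LinearMap.lTensor_comp_apply,
      show (LinearMap.range D).mkQ ∘ₗ D = 0 from LinearMap.ext fun m =>
        (Submodule.Quotient.mk_eq_zero _).2 ⟨m, rfl⟩, LinearMap.lTensor_zero, LinearMap.zero_apply] at h2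
    exact h2
  obtain ⟨m, hm⟩ := (Submodule.Quotient.mk_eq_zero _).1 hs
  refine ⟨m, fun z φ hφ => sub_eq_zero.1 (eq_of_locally _ _ fun p hp => ?_)⟩
  obtain ⟨W', hW', hpW', le'⟩ :=
    exists_isAffineOpen_mem_and_subset (x := p) (U := StMod.bmap 𝒳 φ ⁻¹ᵁ W) hp
  refine ⟨W', le', hpW', ?_⟩
  rw [map_zero]
  refine eq_zero_of_lfam h hc hq hW K φ hW' le' _ fun k z' χ q e => ?_
  rw [map_sub, map_sub, sub_eq_zero, res_tra]
  let O := sqOpen χ (StMod.bmap 𝒳 q) (K.A k) W'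
  have hmk : tra F (K.φ k) (K.le k) m = s k := congrFun hm k
  have hR' : R (𝒳.p.map (χ ≫ φ)) := by
    rw [Functor.map_comp]; exact R.downward_closed hφ _
  have kk : O ≤ StMod.bmap 𝒳 (q ≫ K.φ k) ⁻¹ᵁ W := by
    rw [StMod.bmap_comp]; exact fun x hx => K.le k hx.1
  have h1 : tra F χ (U' := O) inf_le_right (tra F φ le' m) = tra F q (U' := O) inf_le_left (s k) := by
    rw [← hmk, tra_comp _ _ _ _ (e ▸ kk), tra_comp _ _ _ _ kk, tra_congr e]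
  rw [h1, res_res, y.tra_val χ φ hφ hR', y.tra_val q (K.φ k) (K.mem k) (e ▸ hR')]
  exact y.res_val_congr e.symm _ _ _ _

include h hc hq hR in
/-- A compatible family of sections on a covering sieve comes from a section. -/
theorem exists_sec : ∃ x : Γ(F.obj ξ, U), ∀ ⦃z : 𝒳.obj⦄ (φ : z ⟶ ξ) (hφ : R (𝒳.p.map φ)),
    tra F φ le_rfl x = y.val φ hφ := by
  choose W hW hpW hWU using fun p : U =>
    exists_isAffineOpen_mem_and_subset (x := p.1) (U := U) p.2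
  choose m hm using fun p => exists_sec_affine h hc hq hR y (hW p) (hWU p)
  obtain ⟨x, hx, -⟩ := existsUnique_glue (M := F.obj ξ) (V := U) W hWU (fun p hp => ⟨⟨p, hp⟩, hpW ⟨p, hp⟩⟩) m
    fun i j => ext_sec h hc hq hR fun z φ hφ => by
      rw [tra_res, tra_res]
      have hi := congrArg (res (F.obj z) ((StMod.bmap 𝒳 φ).preimage_mono (inf_le_left : W i ⊓ W j ≤ W i)))
        (hm i φ hφ)
      have hj := congrArg (res (F.obj z) ((StMod.bmap 𝒳 φ).preimage_mono (inf_le_right : W i ⊓ W j ≤ W j)))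
        (hm j φ hφ)
      rw [res_tra, res_res] at hi hj
      exact hi.trans hj.symm
  refine ⟨x, fun z φ hφ => eq_of_locally _ _ fun p hp => ?_⟩
  obtain ⟨i, hi⟩ : ∃ i : U, StMod.bmap 𝒳 φ p ∈ W i := ⟨⟨_, hp⟩, hpW ⟨_, hp⟩⟩
  refine ⟨StMod.bmap 𝒳 φ ⁻¹ᵁ W i, (StMod.bmap 𝒳 φ).preimage_mono (hWU i), hi, ?_⟩
  rw [res_tra, ← hm i φ hφ, ← hx i, tra_res]

end Groth.Agent.QDesc10
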