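import Groth.Prelude.Def_StMod
import Groth.Agent.QCoh.PullbackBC
import Groth.Agent.AModX.Res

/-!
# Transporting sections of a module on a category over schemes along its morphisms
-/

set_option autoImplicit false
set_option backward.isDefEq.respectTransparency false
set_option backward.isDefEq.respectTransparency.types false
set_option linter.style.haveILetI false

universe v w u

open CategoryTheory CategoryTheory.Limits AlgebraicGeometry TopologicalSpace Opposite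

namespace Groth.Agent.QDesc10

open Groth.Agent.AModX

variable {S : Scheme.{u}} {𝒳 : BasedCategory.{v, w} (Over S)} (F : StMod.Mod 𝒳) {ξ'' ξ' ξ : 𝒳.obj}

/-- Transport of a section along a morphism, then restriction to an open of the source. -/
noncomputable def tra (φ : ξ' ⟶ ξ) {U : (StMod.sch 𝒳 ξ).Opens} {U' : (StMod.sch 𝒳 ξ').Opens}
    (h : U' ≤ StMod.bmap 𝒳 φ ⁻¹ᵁ U) : Γ(F.obj ξ, U) →+ Γ(F.obj ξ', U') :=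
  (res (F.obj ξ') h).comp ((F.map φ rfl).app U).hom

variable {F}

theorem tra_apply (φ : ξ' ⟶ ξ) {g : StMod.sch 𝒳 ξ' ⟶ StMod.sch 𝒳 ξ} (hg : StMod.bmap 𝒳 φ = g)
    {U : (StMod.sch 𝒳 ξ).Opens} {U' : (StMod.sch 𝒳 ξ').Opens}
    (h : U' ≤ StMod.bmap 𝒳 φ ⁻¹ᵁ U) (x : Γ(F.obj ξ, U)) :
    tra F φ h x = res (F.obj ξ') (hg ▸ h) (show Γ(F.obj ξ', g ⁻¹ᵁ U) from (F.map φ hg).app U x) := by
  subst hg; rfl

theorem res_tra (φ : ξ' ⟶ ξ) {U : (StMod.sch 𝒳 ξ).Opens} {U' U'' : (StMod.sch 𝒳 ξ').Opens}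
    (h : U' ≤ StMod.bmap 𝒳 φ ⁻¹ᵁ U) (i : U'' ≤ U') (x : Γ(F.obj ξ, U)) :
    res (F.obj ξ') i (tra F φ h x) = tra F φ (i.trans h) x :=
  res_res h i _

theorem tra_res (φ : ξ' ⟶ ξ) {U V : (StMod.sch 𝒳 ξ).Opens} {U' : (StMod.sch 𝒳 ξ').Opens}
    (i : V ≤ U) (h : U' ≤ StMod.bmap 𝒳 φ ⁻¹ᵁ V) (x : Γ(F.obj ξ, U)) :
    tra F φ h (res (F.obj ξ) i x) = tra F φ (fun _ hp => i (h hp) : U' ≤ StMod.bmap 𝒳 φ ⁻¹ᵁ U) x := by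
  show res _ h ((F.map φ rfl).app V (res (F.obj ξ) i x)) = _
  rw [app_res (F.map φ rfl) i x]
  exact res_res ((StMod.bmap 𝒳 φ).preimage_mono i) h _

theorem tra_smul (φ : ξ' ⟶ ξ) {U : (StMod.sch 𝒳 ξ).Opens} {U' : (StMod.sch 𝒳 ξ').Opens}
    (h : U' ≤ StMod.bmap 𝒳 φ ⁻¹ᵁ U) (r : Γ(StMod.sch 𝒳 ξ, U)) (x : Γ(F.obj ξ, U)) :
    tra F φ h (r • x) = (StMod.bmap 𝒳 φ).appLE U U' h r • tra F φ h x := by
  show res _ h ((F.map φ rfl).app U (r • x)) = _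
  rw [Scheme.Modules.Hom.app_smul]
  exact res_smul (M := F.obj ξ') h ((StMod.bmap 𝒳 φ).app U r) ((F.map φ rfl).app U x)

theorem tra_id {U U' : (StMod.sch 𝒳 ξ).Opens} (h : U' ≤ StMod.bmap 𝒳 (𝟙 ξ) ⁻¹ᵁ U) (i : U' ≤ U)
    (x : Γ(F.obj ξ, U)) : tra F (𝟙 ξ) h x = res (F.obj ξ) i x := by
  rw [tra_apply (𝟙 ξ) (StMod.bmap_id ξ), StMod.Mod.map_id_app]
  rfl

theorem tra_comp (ψ : ξ'' ⟶ ξ') (φ : ξ' ⟶ ξ) {U : (StMod.sch 𝒳 ξ).Opens} {U' : (StMod.sch 𝒳 ξ').Opens}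
    {U'' : (StMod.sch 𝒳 ξ'').Opens} (h : U' ≤ StMod.bmap 𝒳 φ ⁻¹ᵁ U) (h' : U'' ≤ StMod.bmap 𝒳 ψ ⁻¹ᵁ U')
    (k : U'' ≤ StMod.bmap 𝒳 (ψ ≫ φ) ⁻¹ᵁ U) (x : Γ(F.obj ξ, U)) :
    tra F ψ h' (tra F φ h x) = tra F (ψ ≫ φ) k x := by
  rw [tra_apply (ψ ≫ φ) (StMod.bmap_comp ψ φ) k x, StMod.Mod.map_comp_app F ψ φ rfl rfl U]
  exact (tra_res ψ h h' ((F.map φ rfl).app U x))

theorem tra_congr {φ φ' : ξ' ⟶ ξ} (e : φ = φ') {U : (StMod.sch 𝒳 ξ).Opens} {U' : (StMod.sch 𝒳 ξ').Opens}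
    (h : U' ≤ StMod.bmap 𝒳 φ ⁻¹ᵁ U) (h' : U' ≤ StMod.bmap 𝒳 φ' ⁻¹ᵁ U) (x : Γ(F.obj ξ, U)) :
    tra F φ h x = tra F φ' h' x := by
  subst e; rfl

theorem tra_inv {φ : ξ' ⟶ ξ} {ψ : ξ ⟶ ξ'} (e : ψ ≫ φ = 𝟙 ξ) {U : (StMod.sch 𝒳 ξ).Opens}
    {U' : (StMod.sch 𝒳 ξ').Opens} (h : U' ≤ StMod.bmap 𝒳 φ ⁻¹ᵁ U) (h' : U ≤ StMod.bmap 𝒳 ψ ⁻¹ᵁ U')
    (x : Γ(F.obj ξ, U)) : tra F ψ h' (tra F φ h x) = x := by
  have k : U ≤ StMod.bmap 𝒳 (ψ ≫ φ) ⁻¹ᵁ U := by rw [e, StMod.bmap_id]; exact le_rfl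
  have k' : U ≤ StMod.bmap 𝒳 (𝟙 ξ) ⁻¹ᵁ U := by rw [StMod.bmap_id]; exact le_rfl
  rw [tra_comp ψ φ h h' k, tra_congr e k k', tra_id k' le_rfl, res_self]

theorem tra_app {G : StMod.Mod 𝒳} (u : F ⟶ G) (φ : ξ' ⟶ ξ) {U : (StMod.sch 𝒳 ξ).Opens}
    {U' : (StMod.sch 𝒳 ξ').Opens} (h : U' ≤ StMod.bmap 𝒳 φ ⁻¹ᵁ U) (x : Γ(F.obj ξ, U)) :
    (u.app ξ').app U' (tra F φ h x) = tra G φ h ((u.app ξ).app U x) := by
  show (u.app ξ').app U' (res _ h _) = _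
  rw [app_res]
  exact congrArg (res (G.obj ξ') h)
    (congrArg (fun f : F.obj ξ ⟶ (Scheme.Modules.pushforward (StMod.bmap 𝒳 φ)).obj (G.obj ξ') => f.app U x)
      (u.comm φ rfl))

/-- A morphism of modules on `𝒳` is given by maps of sections commuting with transport. -/
theorem comm_of_tra {G : StMod.Mod 𝒳} (a : ∀ ξ, F.obj ξ ⟶ G.obj ξ)
    (h : ∀ {ξ' ξ : 𝒳.obj} (φ : ξ' ⟶ ξ) (U : (StMod.sch 𝒳 ξ).Opens) (x : Γ(F.obj ξ, U)),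
      (a ξ').app (StMod.bmap 𝒳 φ ⁻¹ᵁ U) (tra F φ le_rfl x) = tra G φ le_rfl ((a ξ).app U x))
    {ξ' ξ : 𝒳.obj} (φ : ξ' ⟶ ξ) {g : StMod.sch 𝒳 ξ' ⟶ StMod.sch 𝒳 ξ} (hg : StMod.bmap 𝒳 φ = g) :
    F.map φ hg ≫ (Scheme.Modules.pushforward g).map (a ξ') = a ξ ≫ G.map φ hg := by
  subst hg
  apply Scheme.Modules.hom_ext
  intro U
  ext x
  have := h φ U x
  rw [tra, tra, AddMonoidHom.comp_apply, AddMonoidHom.comp_apply, res_self, res_self] at this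
  exact this

/-- The algebra structure given by a morphism between opens. -/
abbrev algLE (φ : ξ' ⟶ ξ) {U : (StMod.sch 𝒳 ξ).Opens} {U' : (StMod.sch 𝒳 ξ').Opens}
    (h : U' ≤ StMod.bmap 𝒳 φ ⁻¹ᵁ U) : Algebra Γ(StMod.sch 𝒳 ξ, U) Γ(StMod.sch 𝒳 ξ', U') :=
  ((StMod.bmap 𝒳 φ).appLE U U' h).hom.toAlgebra

/-- Transport, as a map linear over the sections of the functions below. -/
noncomputable def traLin (φ : ξ' ⟶ ξ) {U : (StMod.sch 𝒳 ξ).Opens} {U' : (StMod.sch 𝒳 ξ').Opens}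
    (h : U' ≤ StMod.bmap 𝒳 φ ⁻¹ᵁ U) [Algebra Γ(StMod.sch 𝒳 ξ, U) Γ(StMod.sch 𝒳 ξ', U')]
    (halg : ∀ r, algebraMap Γ(StMod.sch 𝒳 ξ, U) Γ(StMod.sch 𝒳 ξ', U') r = (StMod.bmap 𝒳 φ).appLE U U' h r)
    [Module Γ(StMod.sch 𝒳 ξ, U) Γ(F.obj ξ', U')]
    [IsScalarTower Γ(StMod.sch 𝒳 ξ, U) Γ(StMod.sch 𝒳 ξ', U') Γ(F.obj ξ', U')] :
    Γ(F.obj ξ, U) →ₗ[Γ(StMod.sch 𝒳 ξ, U)] Γ(F.obj ξ', U') where
  toFun := tra F φ h
  map_add' := map_add _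
  map_smul' r x := by rw [tra_smul, RingHom.id_apply, ← algebraMap_smul Γ(StMod.sch 𝒳 ξ', U') r, halg]

/-- For quasi-coherent modules transport between affine opens is base change. -/
theorem isBaseChange_traLin (hc : F.IsCartesian) (hq : F.IsLocQCoh) (φ : ξ' ⟶ ξ) {U : (StMod.sch 𝒳 ξ).Opens}
    {U' : (StMod.sch 𝒳 ξ').Opens} (hU : IsAffineOpen U) (hU' : IsAffineOpen U')
    (h : U' ≤ StMod.bmap 𝒳 φ ⁻¹ᵁ U) [Algebra Γ(StMod.sch 𝒳 ξ, U) Γ(StMod.sch 𝒳 ξ', U')]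
    (halg : ∀ r, algebraMap Γ(StMod.sch 𝒳 ξ, U) Γ(StMod.sch 𝒳 ξ', U') r = (StMod.bmap 𝒳 φ).appLE U U' h r)
    [Module Γ(StMod.sch 𝒳 ξ, U) Γ(F.obj ξ', U')]
    [IsScalarTower Γ(StMod.sch 𝒳 ξ, U) Γ(StMod.sch 𝒳 ξ', U') Γ(F.obj ξ', U')] :
    IsBaseChange Γ(StMod.sch 𝒳 ξ', U') (traLin (F := F) φ h halg) := by
  let g := StMod.bmap 𝒳 φ
  let N := (Scheme.Modules.pullback g).obj (F.obj ξ)
  let θ : N ⟶ F.obj ξ' :=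
    ((Scheme.Modules.pullbackPushforwardAdjunction g).homEquiv (F.obj ξ) (F.obj ξ')).symm (F.map φ rfl)
  haveI : IsIso θ := hc φ rfl
  letI : Module Γ(StMod.sch 𝒳 ξ, U) Γ(N, U') := Module.compHom _ (g.appLE U U' h).hom
  haveI : IsScalarTower Γ(StMod.sch 𝒳 ξ, U) Γ(StMod.sch 𝒳 ξ', U') Γ(N, U') :=
    .of_algebraMap_smul fun r z => by rw [halg]; rfl
  let l : Γ(F.obj ξ, U) →ₗ[Γ(StMod.sch 𝒳 ξ, U)] Γ(N, U') :=
    { toFun := QCoh.pullSec g (F.obj ξ) h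
      map_add' := QCoh.pullSec_add g (F.obj ξ) h
      map_smul' := QCoh.pullSec_smul g (F.obj ξ) h }
  have hl := QCoh.isBaseChange_pullback hU g hU' (hq ξ) h halg l (fun _ => rfl)
  let e : Γ(N, U') ≃ₗ[Γ(StMod.sch 𝒳 ξ', U')] Γ(F.obj ξ', U') :=
    LinearEquiv.ofBijective
      { toFun := θ.app U'
        map_add' := map_add _
        map_smul' := fun r z => Scheme.Modules.Hom.app_smul θ r z }
      (ConcreteCategory.bijective_of_isIso (θ.app U'))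
  have key : ((e : Γ(N, U') →ₗ[Γ(StMod.sch 𝒳 ξ', U')] Γ(F.obj ξ', U')).restrictScalars
      Γ(StMod.sch 𝒳 ξ, U)) ∘ₗ l = traLin (F := F) φ h halg := by
    refine LinearMap.ext fun x => ?_
    show θ.app U' (res N h _) = res (F.obj ξ') h ((F.map φ rfl).app U x)
    rw [app_res]
    refine congrArg (res (F.obj ξ') h) ?_
    have hθ : F.map φ rfl = (Scheme.Modules.pullbackPushforwardAdjunction g).unit.app (F.obj ξ) ≫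
        (Scheme.Modules.pushforward g).map θ := by
      exact ((Equiv.apply_symm_apply _ _).symm).trans (Adjunction.homEquiv_unit _ _ _ θ)
    exact (congrArg (fun f : F.obj ξ ⟶ (Scheme.Modules.pushforward g).obj (F.obj ξ') => f.app U x) hθ).symm
  rw [← key]
  exact hl.comp (IsBaseChange.ofEquiv e)

end Groth.Agent.QDesc10
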