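import Groth.Agent.QDesc10.Image
import Groth.Prelude.Def_TwSh

/-!
# Inertial action and morphisms with equal images
-/

set_option autoImplicit false
set_option backward.isDefEq.respectTransparency false
set_option backward.isDefEq.respectTransparency.types false
set_option linter.style.haveILetI false

universe v v' w w' u

open CategoryTheory CategoryTheory.Limits AlgebraicGeometry TopologicalSpace Opposite

namespace Groth.Agent.QDesc10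

open Groth.Agent.AModX

variable {S : Scheme.{u}} {𝒳 : BasedCategory.{v, w} (Over S)} {𝒴 : BasedCategory.{v', w'} (Over S)}
  {π : 𝒳 ⥤ᵇ 𝒴} {A : (Over S)ᵒᵖ ⥤ GrpCat.{u}}

/-- An automorphism over the identity, from an endomorphism over the identity. -/
theorem exists_autO (h : FibCat.IsFibGrpd 𝒳.p) {ξ : 𝒳.obj} (α : ξ ⟶ ξ) (hα : 𝒳.p.map α = 𝟙 _) :
    ∃ a : Gerb.AutO ξ, a.hom.1 = α := by
  haveI : IsIso (𝒳.p.map α) := by rw [hα]; infer_instance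
  haveI := isIso_of_map h α
  have h1 : 𝒳.p.IsHomLift (𝟙 (𝒳.p.obj ξ)) α := IsHomLift.of_fac' _ _ _ rfl rfl (by simp [hα])
  have h2 : 𝒳.p.IsHomLift (𝟙 (𝒳.p.obj ξ)) (inv α) :=
    IsHomLift.of_fac' _ _ _ rfl rfl (by simp [Functor.map_inv, hα])
  exact ⟨{ hom := ⟨α, h1⟩, inv := ⟨inv α, h2⟩
           hom_inv_id := Functor.Fiber.hom_ext (IsIso.hom_inv_id α)
           inv_hom_id := Functor.Fiber.hom_ext (IsIso.inv_hom_id α) }, rfl⟩

theorem map_eq_of_pi_eq {ξ' ξ : 𝒳.obj} {φ φ' : ξ' ⟶ ξ} (e : π.map φ = π.map φ') :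
    𝒳.p.map φ = 𝒳.p.map φ' := by
  have h := congrArg 𝒴.p.map e
  rw [pmap_map, pmap_map] at h
  rwa [cancel_epi, cancel_mono] at h

/-- Two morphisms with the same image differ by an automorphism in the band. -/
theorem exists_band (hπ : LocHyp π) {J : GrothendieckTopology (Over S)} {ι : TwSh.BandHom 𝒳 A}
    (hb : TwSh.IsBandedGerbe J π ι) {ξ' ξ : 𝒳.obj} {φ φ' : ξ' ⟶ ξ} (e : π.map φ = π.map φ') :
    ∃ a : A.obj (op (𝒳.p.obj ξ')), (ι.hom ξ' a).hom.1 ≫ φ = φ' := by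
  obtain ⟨α, hα, hαφ⟩ := exists_factor hπ.fx φ φ' (𝟙 _) (by rw [Category.id_comp, map_eq_of_pi_eq e])
  obtain ⟨β, hβ⟩ := exists_autO hπ.fx α hα
  have hker : β ∈ (Gerb.autMap π ξ').ker := by
    rw [MonoidHom.mem_ker]
    refine Aut.ext (Functor.Fiber.hom_ext ?_)
    show π.map β.hom.1 = 𝟙 _
    rw [hβ]
    refine hom_ext hπ.fy (π.map φ) ?_ ?_
    · rw [pmap_map, hα]; simp
    · rw [← π.toFunctor.map_comp, hαφ, Category.id_comp, e]
  rw [← (hb.2 ξ').2] at hker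
  obtain ⟨a, ha⟩ := hker
  exact ⟨a, by rw [ha, hβ, hαφ]⟩

theorem res_inert (F : StMod.Mod 𝒳) (ξ : 𝒳.obj) (β : Gerb.AutO ξ) {U U' : (StMod.sch 𝒳 ξ).Opens}
    (h : U' ≤ StMod.bmap 𝒳 β.hom.1 ⁻¹ᵁ U) (i : U' ≤ U) (x : Γ(F.obj ξ, U)) :
    tra F β.hom.1 h x = res (F.obj ξ) i ((TwSh.inert F ξ β).app U x) :=
  tra_apply β.hom.1 (TwSh.bmap_autO ξ β) h x

theorem tra_twisted {F : StMod.Mod 𝒳} {ι : TwSh.BandHom 𝒳 A} {χ : A ⟶ TwSh.GmPsh S} {d : ℤ}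
    (hF : TwSh.IsTwisted F ι χ d) (ξ : 𝒳.obj) (a : A.obj (op (𝒳.p.obj ξ))) {U U' : (StMod.sch 𝒳 ξ).Opens}
    (h : U' ≤ StMod.bmap 𝒳 (ι.hom ξ a).hom.1 ⁻¹ᵁ U) (i : U' ≤ U) (x : Γ(F.obj ξ, U)) :
    tra F (ι.hom ξ a).hom.1 h x =
      TwSh.resTop (StMod.sch 𝒳 ξ) U' ((TwSh.charUnit χ ξ a ^ d)⁻¹).val • res (F.obj ξ) i x := by
  rw [res_inert F ξ (ι.hom ξ a) h i x, hF ξ a U x, res_smul]
  refine congrArg (· • _) ?_
  exact resR_resR _ _ _

/-- A `0`-twisted module is constant on morphisms with the same image. -/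
theorem isThin_of_isTwisted_zero (hπ : LocHyp π) {J : GrothendieckTopology (Over S)} {ι : TwSh.BandHom 𝒳 A}
    (hb : TwSh.IsBandedGerbe J π ι) {χ : A ⟶ TwSh.GmPsh S} {F : StMod.Mod 𝒳} (hF : TwSh.IsTwisted F ι χ 0) :
    IsThin π F := by
  intro ξ' ξ φ φ' e U U' h h' x
  obtain ⟨a, ha⟩ := exists_band hπ hb e
  have hid : StMod.bmap 𝒳 (ι.hom ξ' a).hom.1 = 𝟙 _ := TwSh.bmap_autO ξ' _
  have k : U' ≤ StMod.bmap 𝒳 (ι.hom ξ' a).hom.1 ⁻¹ᵁ U' := by rw [hid]; exact le_rfl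
  rw [tra_congr ha.symm h' (ha.symm ▸ h'), ← tra_comp _ φ h k,
    tra_twisted hF ξ' a k le_rfl, zpow_zero, inv_one, Units.val_one, map_one, one_smul, res_self]

end Groth.Agent.QDesc10
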