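import Groth.Agent.QDesc10.TwMod

/-!
# Twisted modules on a trivial banded gerbe
-/

set_option autoImplicit false
set_option backward.isDefEq.respectTransparency false
set_option backward.isDefEq.respectTransparency.types false
set_option linter.style.haveILetI false

universe u

open CategoryTheory CategoryTheory.Limits AlgebraicGeometry TopologicalSpace Opposite

namespace Groth.Agent.QDesc10

open Groth.Agent.AModX

variable {S : Scheme.{u}} {X : Over S} {𝒳 : AlgSt.Cat S} {A : (Over S)ᵒᵖ ⥤ GrpCat.{u}}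
  {π : 𝒳 ⥤ᵇ AlgSt.ofSch X} {σ : AlgSt.ofSch X ⥤ᵇ 𝒳}
  (e : BasedFunctor.comp σ π ≅ BasedFunctor.id (AlgSt.ofSch X))
  (hπ : LocHyp π) {ι : TwSh.BandHom 𝒳 A} {J : GrothendieckTopology (Over S)}
  (hb : TwSh.IsBandedGerbe J π ι) (χ : A ⟶ TwSh.GmPsh S)

include e hπ in
/-- A section of a gerbe is locally surjective on objects. -/
theorem locSurjObj_section : Gerb.LocSurjObj (qtop S) σ := by
  intro y
  let t₀ := π.obj y
  let b : π.obj (σ.obj t₀) ⟶ π.obj y := (e.hom : BasedNatTrans _ _).toNatTrans.app t₀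
  have e0 : 𝒳.p.obj y = 𝒳.p.obj (σ.obj t₀) := (π.w_obj y).symm.trans (σ.w_obj t₀).symm
  obtain ⟨R, hR, hR'⟩ := hπ.hom (σ.obj t₀) y b (IsHomLift.of_fac' _ _ _ (π.w_obj _)
    ((π.w_obj y).trans e0) (by rw [pmap_hom_app]; simp))
  refine ⟨R.pullback (eqToHom e0), QCov.pullback hR (eqToHom e0), fun V f hf => ?_⟩
  obtain ⟨x₀, φ, ψ, hφ, hψ, -⟩ := hR' (f ≫ eqToHom e0) hf
  obtain ⟨t₁, f₁, e₁, he₁⟩ := exists_lift hπ.fy (x := t₀) ((f ≫ eqToHom e0) ≫ eqToHom (σ.w_obj t₀))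
  have hpφ := IsHomLift.fac' 𝒳.p (f ≫ eqToHom e0) φ
  have hpψ := IsHomLift.fac' 𝒳.p (f ≫ eqToHom e0) ψ
  have hx₀ : 𝒳.p.obj x₀ = V := IsHomLift.domain_eq 𝒳.p (f ≫ eqToHom e0) φ
  obtain ⟨χ₁, hχ, -⟩ := exists_factor hπ.fx φ (σ.map f₁)
    (eqToHom ((σ.w_obj t₁).trans (e₁.trans hx₀.symm))) (by rw [hpφ, pmap_map, he₁]; simp)
  refine ⟨t₁, χ₁ ≫ ψ, IsHomLift.of_fac' _ _ _ ((σ.w_obj t₁).trans e₁) rfl ?_⟩
  rw [Functor.map_comp, hχ, hpψ]
  simp

include e hπ in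
theorem ffHyp_section : FFHyp (fromImage σ) where
  loc := locHyp_fromImage' hπ.fy hπ.fx (locSurjObj_section e hπ)
  full {a b} ψ := (fromImage_bijective (a := a) (b := b) ψ).exists
  faith {a b} _ φ' h := (fromImage_bijective (a := a) (b := b) ((fromImage σ).map φ')).unique h rfl

variable {F G : StMod.Mod 𝒳}

include e hπ hb in
/-- A natural family along the section is natural on the full image, for twisted modules. -/
theorem nat_of_homFam (hF : TwSh.IsTwisted F ι χ 1) (hG : TwSh.IsTwisted G ι χ 1) (a : HomFam σ F G)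
    {t' t : (AlgSt.ofSch X).obj} (ψ : σ.obj t' ⟶ σ.obj t) (U : (StMod.sch 𝒳 (σ.obj t)).Opens)
    (x : Γ(F.obj (σ.obj t), U)) :
    (a.app t').app (StMod.bmap 𝒳 ψ ⁻¹ᵁ U) (tra F ψ le_rfl x) = tra G ψ le_rfl ((a.app t).app U x) := by
  let c := band e hπ hb ψ
  let f := under e ψ
  have hc : (ι.hom _ c).hom.1 ≫ σ.map f = ψ := band_spec e hπ hb ψ
  let O := StMod.bmap 𝒳 (σ.map f) ⁻¹ᵁ U
  have hbm : StMod.bmap 𝒳 (σ.map f) = StMod.bmap 𝒳 ψ :=
    congrArg (fun g => Over.Hom.left g) (pmap_map_under e ψ)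
  have i : StMod.bmap 𝒳 ψ ⁻¹ᵁ U ≤ O := by rw [← hbm]
  have k : StMod.bmap 𝒳 ψ ⁻¹ᵁ U ≤ StMod.bmap 𝒳 (ι.hom (σ.obj t') c).hom.1 ⁻¹ᵁ O := by
    rw [TwSh.bmap_autO]; exact i
  rw [tra_congr hc.symm le_rfl (hc.symm ▸ le_rfl), tra_congr hc.symm le_rfl (hc.symm ▸ le_rfl),
    ← tra_comp _ (σ.map f) le_rfl k, ← tra_comp _ (σ.map f) le_rfl k, tra_twisted hF _ c k i,
    tra_twisted hG _ c k i, app_resTop_smul, app_res, a.nat f U x]

include e hπ hb in
/-- Inverse image along the section is fully faithful on twisted modules. -/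
theorem exists_comapMap_section (hF : TwSh.IsTwisted F ι χ 1) (hG : TwSh.IsTwisted G ι χ 1)
    (hc' : G.IsCartesian) (hq' : G.IsLocQCoh) (b : StMod.Mod.comap σ F ⟶ StMod.Mod.comap σ G) :
    ∃! u : F ⟶ G, StMod.Mod.comapMap σ u = b := by
  choose a ha using fun t => exists_castHom (StMod.sch_obj_eq σ t) (b.app t)
  have hd : ∀ t U x, (b.app t).app (eo σ t ⁻¹ᵁ U) (dn F t U x) = dn G t U ((a t).app U x) := fun t U x => by
    rw [← ha]; exact castHom_castSec _ _ _ x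
  let A₀ : HomFam σ F G := ⟨a, fun {t' t} φ U x => by
    refine (dn G t' _).injective ?_
    rw [← hd, ← tra_dn F φ le_rfl (eo_preimage_bmap φ U).le x, tra_app, hd,
      tra_dn G φ le_rfl (eo_preimage_bmap φ U).le]⟩
  let A₁ : HomFam (fromImage σ) F G := ⟨fun t => a t, fun {t' t} φ U x =>
    nat_of_homFam e hπ hb χ hF hG A₀ (t' := t') (t := t) φ.hom U x⟩
  have hL := (ffHyp_section e hπ).loc
  obtain ⟨u, hu⟩ := exists_hom_of_homFam hL hc' hq' A₁
  refine ⟨u, StMod.Mod.hom_ext fun t => ?_, fun u' hu' => hom_ext_of_image hL hc' hq' fun t => ?_⟩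
  · rw [StMod.Mod.comapMap_app]
    exact (congrArg (StMod.castHom (StMod.sch_obj_eq σ t)) (hu t)).trans (ha t)
  · refine castHom_injective (StMod.sch_obj_eq σ t) ?_
    refine Eq.trans ?_ (congrArg (StMod.castHom (StMod.sch_obj_eq σ t)) (hu t)).symm
    refine Eq.trans ?_ (ha t).symm
    rw [← hu', StMod.Mod.comapMap_app]
    rfl

include e hπ hb in
/-- Every module on the base is the inverse image of a twisted module. -/
theorem exists_twisted_section (G₀ : StMod.QCoh (AlgSt.ofSch X)) :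
    ∃ G : StMod.QCoh 𝒳, TwSh.IsTwisted G.obj ι χ 1 ∧ Nonempty ((StMod.comapQ σ).obj G ≅ G₀) := by
  let hρ := ffHyp_section e hπ
  let I := twMod e hπ hb χ G₀.obj
  have hIc := isCartesian_twMod e hπ hb χ G₀.obj G₀.property.1
  have hIq := isLocQCoh_twMod e hπ hb χ G₀.obj G₀.property.2
  let G' := glMod hρ hIc hIq
  have hG'c := isCartesian_glMod hρ hIc hIq
  have hG'q := isLocQCoh_glMod hρ hIc hIq
  obtain ⟨e₂⟩ := nonempty_comap_glMod hρ hIc hIq
  obtain ⟨e₃⟩ := nonempty_comap_twMod e hπ hb χ G₀.obj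
  have hσt : ∀ (t : (AlgSt.ofSch X).obj) (c : A.obj (op (𝒳.p.obj (σ.obj t))))
      (U U' : (StMod.sch 𝒳 (σ.obj t)).Opens) (h : U' ≤ StMod.bmap 𝒳 (ι.hom _ c).hom.1 ⁻¹ᵁ U) (i : U' ≤ U)
      (x : Γ(G'.obj (σ.obj t), U)), tra G' (ι.hom _ c).hom.1 h x =
        TwSh.resTop (StMod.sch 𝒳 (σ.obj t)) U' ((TwSh.charUnit χ (σ.obj t) c ^ (1 : ℤ))⁻¹).val •
          res (G'.obj (σ.obj t)) i x := by
    intro t c U U' h i x
    let ψ := (ι.hom (σ.obj t) c).hom.1
    have hun : under e ψ = 𝟙 t := sch_hom_ext (by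
      rw [pmap_under, baseImage, TwSh.map_autO_hom, CategoryTheory.Functor.map_id]; simp)
    have hband : band e hπ hb ψ = c := band_eq e hπ hb (by
      rw [hun]
      exact (congrArg (ψ ≫ ·) (σ.toFunctor.map_id t)).trans (Category.comp_id ψ))
    have hid : StMod.bmap (image σ) (homI σ ψ) = 𝟙 (StMod.sch (AlgSt.ofSch X) t) := by
      rw [← bmap_under e ψ, hun, StMod.bmap_id]
    let ρ := fromImage σ
    have h' : eo ρ (toI σ t) ⁻¹ᵁ U' ≤ StMod.bmap (image σ) (homI σ ψ) ⁻¹ᵁ (eo ρ (toI σ t) ⁻¹ᵁ U) := by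
      rw [hid]; exact (eo ρ (toI σ t)).preimage_mono i
    let N := (e₂.hom.app (toI σ t)).app (eo ρ (toI σ t) ⁻¹ᵁ U')
    have hN : Function.Injective fun z => N (dn (π := ρ) G' (toI σ t) U' z) := by
      haveI : IsIso (e₂.hom.app (toI σ t)) :=
        ⟨e₂.inv.app _, by rw [← StMod.Mod.comp_app, e₂.hom_inv_id]; rfl,
          by rw [← StMod.Mod.comp_app, e₂.inv_hom_id]; rfl⟩
      exact (ConcreteCategory.bijective_of_isIso _).1.comp (dn (π := ρ) G' (toI σ t) U').injective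
    apply hN
    show N (dn (π := ρ) G' (toI σ t) U' (tra G' (ρ.map (homI σ ψ)) h x)) = N (dn (π := ρ) G' (toI σ t) U' (_ • res _ i x))
    rw [← tra_dn G' (homI σ ψ) h h' x]
    erw [castSec_smul, ← castSec_res (StMod.sch_obj_eq ρ (toI σ t)) (G'.obj (σ.obj t)) i x]
    erw [tra_app e₂.hom (homI σ ψ) h']
    erw [Scheme.Modules.Hom.app_smul, app_res]
    erw [tra_twMod e hπ hb χ G₀.obj ψ h' (by rw [hun, StMod.bmap_id]; exact (eo ρ (toI σ t)).preimage_mono i)]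
    refine congrArg₂ (· • ·) ?_ ?_
    · rw [tscal, hband, Scheme.Hom.app_eq_appLE]
      exact (appLE_resTop (eo ρ (toI σ t)) le_rfl _).symm
    · refine (tra_congr hun _ (by rw [StMod.bmap_id]; exact (eo ρ (toI σ t)).preimage_mono i) _).trans ?_
      exact tra_id (F := G₀.obj) (ξ := t) _ ((eo ρ (toI σ t)).preimage_mono i)
        ((e₂.hom.app (toI σ t)).app _ (dn (π := ρ) G' (toI σ t) U x))
  have htw : TwSh.IsTwisted G' ι χ 1 := by
    intro ξ a U s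
    have kU : U ≤ StMod.bmap 𝒳 (ι.hom ξ a).hom.1 ⁻¹ᵁ U := by rw [TwSh.bmap_autO]; exact le_rfl
    have h1 := res_inert G' ξ (ι.hom ξ a) kU le_rfl s
    rw [res_self] at h1
    rw [← h1]
    refine ext_lift hρ.loc hG'c hG'q fun {t} m => ?_
    let a' := A.map (𝒳.p.map m).op a
    let O := StMod.bmap 𝒳 m ⁻¹ᵁ U
    have hn : (ι.hom (σ.obj t) a').hom.1 ≫ m = m ≫ (ι.hom ξ a).hom.1 := ι.natural m a
    have k2 : O ≤ StMod.bmap 𝒳 (m ≫ (ι.hom ξ a).hom.1) ⁻¹ᵁ U := by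
      rw [StMod.bmap_comp]; exact (StMod.bmap 𝒳 m).preimage_mono kU
    have k3 : O ≤ StMod.bmap 𝒳 (ι.hom (σ.obj t) a').hom.1 ⁻¹ᵁ O := by rw [TwSh.bmap_autO]; exact le_rfl
    rw [tra_comp m _ kU le_rfl k2, tra_congr hn.symm k2 (hn.symm ▸ k2), ← tra_comp _ m le_rfl k3,
      tra_smul, appLE_resTop]
    refine (hσt t a' O O k3 le_rfl _).trans ?_
    rw [res_self]
    refine congrArg (· • tra G' m le_rfl s) (congrArg (TwSh.resTop (StMod.sch 𝒳 (σ.obj t)) O) ?_)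
    rw [zpow_one, zpow_one]
    exact congrArg (fun c : (Γ(StMod.sch 𝒳 (σ.obj t), ⊤))ˣ => (c⁻¹).val) (charUnit_map χ m a)
  exact ⟨⟨G', hG'c, hG'q⟩, htw, ⟨(StMod.isQCoh _).ι.preimageIso
    (StMod.comapCompIso (fromImage σ) (toImage σ) G' ≪≫ (StMod.comapFunctor (toImage σ)).mapIso e₂ ≪≫ e₃)⟩⟩

include e hπ hb in
/-- Inverse image along a section is an equivalence on twisted modules. -/
theorem isEquivalence_section :
    ((TwSh.isTwistedQ 𝒳 ι χ 1).ι ⋙ StMod.comapQ σ).IsEquivalence := by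
  refine { faithful := ⟨fun {P Q} u v h => ?_⟩, full := ⟨fun {P Q} b => ?_⟩, essSurj := ⟨fun G₀ => ?_⟩ }
  · refine ObjectProperty.hom_ext _ (ObjectProperty.hom_ext _ ?_)
    exact (exists_comapMap_section e hπ hb χ P.property Q.property Q.obj.property.1 Q.obj.property.2 _).unique
      (congrArg (fun t => t.hom) h) rfl
  · obtain ⟨u, hu, -⟩ :=
      exists_comapMap_section e hπ hb χ P.property Q.property Q.obj.property.1 Q.obj.property.2 b.hom
    exact ⟨ObjectProperty.homMk (ObjectProperty.homMk u), ObjectProperty.hom_ext _ hu⟩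
  · obtain ⟨G, hG, hi⟩ := exists_twisted_section e hπ hb χ G₀
    exact ⟨⟨G, hG⟩, hi⟩

end Groth.Agent.QDesc10
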