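import Groth.Agent.QDesc10.Section
import Groth.Agent.QDesc10.Descent

/-!
# Twisting a module by the band coordinate of a section
-/

set_option autoImplicit false
set_option backward.isDefEq.respectTransparency false
set_option backward.isDefEq.respectTransparency.types false
set_option linter.style.haveILetI false

universe u

open CategoryTheory CategoryTheory.Limits AlgebraicGeometry TopologicalSpace Opposite

namespace Groth.Agent.QDesc10

open Groth.Agent.AModX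

theorem scalarEnd_one {T : Scheme.{u}} (M : T.Modules) : TwSh.scalarEnd M 1 = 𝟙 M := by
  refine Scheme.Modules.hom_ext _ _ fun U => ?_
  ext s
  show TwSh.resTop T U 1 • s = s
  rw [map_one, one_smul]

theorem isIso_scalarEnd {T : Scheme.{u}} (M : T.Modules) (c : Γ(T, ⊤)ˣ) : IsIso (TwSh.scalarEnd M c.val) := by
  have key : ∀ a b : Γ(T, ⊤), a * b = 1 → TwSh.scalarEnd M a ≫ TwSh.scalarEnd M b = 𝟙 M := fun a b h => by
    refine Scheme.Modules.hom_ext _ _ fun U => ?_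
    ext s
    show TwSh.resTop T U b • TwSh.resTop T U a • s = s
    rw [smul_smul, ← map_mul, mul_comm, h, map_one, one_smul]
  exact ⟨TwSh.scalarEnd M c⁻¹.val, key _ _ c.mul_inv, key _ _ c.inv_mul⟩

theorem app_resTop_smul {T : Scheme.{u}} {M N : T.Modules} (u : M ⟶ N) {U : T.Opens} (c : Γ(T, ⊤)) (x : Γ(M, U)) :
    u.app U (TwSh.resTop T U c • x) = TwSh.resTop T U c • u.app U x :=
  Scheme.Modules.Hom.app_smul u _ x

variable {S : Scheme.{u}} {X : Over S} {𝒳 : AlgSt.Cat S} {A : (Over S)ᵒᵖ ⥤ GrpCat.{u}}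
  {π : 𝒳 ⥤ᵇ AlgSt.ofSch X} {σ : AlgSt.ofSch X ⥤ᵇ 𝒳}
  (e : BasedFunctor.comp σ π ≅ BasedFunctor.id (AlgSt.ofSch X))
  (hπ : LocHyp π) {ι : TwSh.BandHom 𝒳 A} {J : GrothendieckTopology (Over S)}
  (hb : TwSh.IsBandedGerbe J π ι) (χ : A ⟶ TwSh.GmPsh S) (G : StMod.Mod (AlgSt.ofSch X))

/-- The twisted comparison map. -/
noncomputable def twMap {t' t : (AlgSt.ofSch X).obj} (ψ : σ.obj t' ⟶ σ.obj t)
    {g : StMod.sch (AlgSt.ofSch X) t' ⟶ StMod.sch (AlgSt.ofSch X) t}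
    (hg : StMod.bmap (AlgSt.ofSch X) (under e ψ) = g) :
    G.obj t ⟶ (Scheme.Modules.pushforward g).obj (G.obj t') :=
  G.map (under e ψ) hg ≫
    (Scheme.Modules.pushforward g).map (TwSh.scalarEnd (G.obj t') (tscal e hπ hb χ ψ).val)

theorem twMap_app {t' t : (AlgSt.ofSch X).obj} (ψ : σ.obj t' ⟶ σ.obj t)
    {g : StMod.sch (AlgSt.ofSch X) t' ⟶ StMod.sch (AlgSt.ofSch X) t}
    (hg : StMod.bmap (AlgSt.ofSch X) (under e ψ) = g) (U : (StMod.sch (AlgSt.ofSch X) t).Opens)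
    (h : g ⁻¹ᵁ U ≤ StMod.bmap (AlgSt.ofSch X) (under e ψ) ⁻¹ᵁ U) (x : Γ(G.obj t, U)) :
    (twMap e hπ hb χ G ψ hg).app U x =
      (show Γ((Scheme.Modules.pushforward g).obj (G.obj t'), U) from
        (TwSh.resTop (StMod.sch (AlgSt.ofSch X) t') (g ⁻¹ᵁ U) (tscal e hπ hb χ ψ).val •
          tra G (under e ψ) h x : Γ(G.obj t', g ⁻¹ᵁ U))) := by
  refine congrArg (fun z : Γ(G.obj t', g ⁻¹ᵁ U) =>
    TwSh.resTop (StMod.sch (AlgSt.ofSch X) t') (g ⁻¹ᵁ U) (tscal e hπ hb χ ψ).val • z) ?_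
  rw [tra_apply (under e ψ) hg]
  exact (res_self _).symm

theorem twMap_id (t : (AlgSt.ofSch X).obj)
    (hg : StMod.bmap (AlgSt.ofSch X) (under e (𝟙 (σ.obj t))) = 𝟙 (StMod.sch (AlgSt.ofSch X) t)) :
    twMap e hπ hb χ G (𝟙 (σ.obj t)) hg ≫
      (Scheme.Modules.pushforwardId (StMod.sch (AlgSt.ofSch X) t)).hom.app (G.obj t) = 𝟙 (G.obj t) := by
  refine Scheme.Modules.hom_ext _ _ fun U => ?_
  ext x
  have h1 : tscal e hπ hb χ (𝟙 (σ.obj t)) = 1 :=
    (congrArg (tscal e hπ hb χ) (σ.toFunctor.map_id t).symm).trans (tscal_map e hπ hb χ (𝟙 t))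
  have k : 𝟙 (StMod.sch (AlgSt.ofSch X) t) ⁻¹ᵁ U ≤ StMod.bmap (AlgSt.ofSch X) (under e (𝟙 (σ.obj t))) ⁻¹ᵁ U := by
    rw [hg]
  refine (twMap_app e hπ hb χ G _ hg U k x).trans ?_
  rw [h1, Units.val_one, map_one, one_smul]
  exact (tra_congr (under_id e t) k (by rw [StMod.bmap_id]) x).trans ((tra_id _ le_rfl x).trans (res_self x))

theorem twMap_comp {t'' t' t : (AlgSt.ofSch X).obj} (ψ : σ.obj t'' ⟶ σ.obj t') (φ : σ.obj t' ⟶ σ.obj t)
    {h : StMod.sch (AlgSt.ofSch X) t'' ⟶ StMod.sch (AlgSt.ofSch X) t'}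
    {g : StMod.sch (AlgSt.ofSch X) t' ⟶ StMod.sch (AlgSt.ofSch X) t}
    (hh : StMod.bmap (AlgSt.ofSch X) (under e ψ) = h) (hg : StMod.bmap (AlgSt.ofSch X) (under e φ) = g)
    (hk : StMod.bmap (AlgSt.ofSch X) (under e (ψ ≫ φ)) = h ≫ g) :
    twMap e hπ hb χ G (ψ ≫ φ) hk = twMap e hπ hb χ G φ hg ≫
      (Scheme.Modules.pushforward g).map (twMap e hπ hb χ G ψ hh) ≫
        (Scheme.Modules.pushforwardComp h g).hom.app (G.obj t'') := by
  refine Scheme.Modules.hom_ext _ _ fun U => ?_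
  ext x
  subst hh hg
  have k : (StMod.bmap (AlgSt.ofSch X) (under e ψ) ≫ StMod.bmap (AlgSt.ofSch X) (under e φ)) ⁻¹ᵁ U ≤
      StMod.bmap (AlgSt.ofSch X) (under e (ψ ≫ φ)) ⁻¹ᵁ U := by rw [hk]
  refine (twMap_app e hπ hb χ G _ hk U k x).trans (Eq.symm ?_)
  refine (twMap_app e hπ hb χ G ψ rfl (StMod.bmap (AlgSt.ofSch X) (under e φ) ⁻¹ᵁ U) le_rfl
    ((twMap e hπ hb χ G φ rfl).app U x)).trans ?_
  rw [twMap_app e hπ hb χ G φ rfl U le_rfl x, tra_smul, appLE_resTop, smul_smul, ← map_mul]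
  have k2 : StMod.bmap (AlgSt.ofSch X) (under e ψ) ⁻¹ᵁ (StMod.bmap (AlgSt.ofSch X) (under e φ) ⁻¹ᵁ U) ≤
      StMod.bmap (AlgSt.ofSch X) (under e ψ ≫ under e φ) ⁻¹ᵁ U := (preimage_comp _ _ U).ge
  rw [tra_comp (under e ψ) (under e φ) le_rfl le_rfl k2, tscal_comp, Units.val_mul]
  exact congrArg (_ • ·) (tra_congr (under_comp e ψ φ).symm _ _ _)

/-- The twisted module on the full image of the section. -/
noncomputable def twMod : StMod.Mod (image σ) where
  obj t := G.obj t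
  map {t' t} ψ g hg := twMap e hπ hb χ G (t' := t') (t := t) ψ.hom ((bmap_under e ψ.hom).trans hg)
  map_id t := twMap_id e hπ hb χ G t ((bmap_under e _).trans (StMod.bmap_id (𝒳 := image σ) t))
  map_comp {t'' t' t} ψ φ h g hh hg :=
    twMap_comp e hπ hb χ G (t'' := t'') (t' := t') (t := t) ψ.hom φ.hom ((bmap_under e _).trans hh)
      ((bmap_under e _).trans hg) _

theorem isLocQCoh_twMod (hq : G.IsLocQCoh) : (twMod e hπ hb χ G).IsLocQCoh := fun t => hq t

theorem isCartesian_twMod (hc : G.IsCartesian) : (twMod e hπ hb χ G).IsCartesian := by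
  intro t' t ψ g hg
  show IsIso (((Scheme.Modules.pullbackPushforwardAdjunction g).homEquiv (G.obj t) (G.obj t')).symm
    (twMap e hπ hb χ G ψ.hom ((bmap_under e ψ.hom).trans hg)))
  rw [twMap, Adjunction.homEquiv_naturality_right_symm]
  haveI := hc (under e ψ.hom) ((bmap_under e ψ.hom).trans hg)
  haveI := isIso_scalarEnd (G.obj t') (tscal e hπ hb χ ψ.hom)
  infer_instance

theorem tra_twMod {t' t : (AlgSt.ofSch X).obj} (ψ : σ.obj t' ⟶ σ.obj t)
    {U : (StMod.sch (AlgSt.ofSch X) t).Opens} {U' : (StMod.sch (AlgSt.ofSch X) t').Opens}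
    (h : U' ≤ StMod.bmap (image σ) (homI σ ψ) ⁻¹ᵁ U)
    (h' : U' ≤ StMod.bmap (AlgSt.ofSch X) (under e ψ) ⁻¹ᵁ U) (x : Γ(G.obj t, U)) :
    tra (twMod e hπ hb χ G) (homI σ ψ) h x =
      TwSh.resTop (StMod.sch (AlgSt.ofSch X) t') U' (tscal e hπ hb χ ψ).val • tra G (under e ψ) h' x := by
  show res (G.obj t') h ((twMap e hπ hb χ G ψ ((bmap_under e ψ).trans rfl)).app U x) = _
  rw [twMap_app e hπ hb χ G ψ ((bmap_under e ψ).trans rfl) U (by rw [bmap_under]) x, res_smul]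
  erw [res_tra]
  refine congrArg (· • _) ?_
  exact resR_resR _ _ _

/-- The twisted module restricts to the module along the section. -/
theorem nonempty_comap_twMod : Nonempty (StMod.Mod.comap (toImage σ) (twMod e hπ hb χ G) ≅ G) := by
  refine ⟨StMod.Mod.isoMk (fun t => Iso.refl (G.obj t)) fun {t' t} f g hg => ?_⟩
  have hbm : StMod.bmap (image σ) (homI σ (σ.map f)) = g := by
    rw [← hg]
    show (baseImage σ (σ.map f)).left = ((AlgSt.ofSch X).p.map f).left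
    rw [baseImage_map]
  have h : (StMod.Mod.comap (toImage σ) (twMod e hπ hb χ G)).map f hg = G.map f hg := by
    rw [StMod.Mod.comap_map]
    erw [StMod.castMap_rfl, StMod.Mod.map_comp_pushforwardCongr]
    show twMap e hπ hb χ G (σ.map f) ((bmap_under e (σ.map f)).trans hbm) = _
    rw [twMap, tscal_map, Units.val_one, scalarEnd_one, CategoryTheory.Functor.map_id, Category.comp_id]
    have key : ∀ {f' : t' ⟶ t} (_ : f' = f) (h' : StMod.bmap (AlgSt.ofSch X) f' = g),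
        G.map f' h' = G.map f hg := fun he h' => by subst he; rfl
    exact key (under_map e f) _
  rw [h]
  simp only [Iso.refl_hom, CategoryTheory.Functor.map_id]
  exact (Category.comp_id _).trans (Category.id_comp _).symm

end Groth.Agent.QDesc10
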