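import Groth.Agent.QDesc10.Cart
import Groth.Agent.QDesc10.Refine
import Groth.Agent.QDesc10.Comap
import Groth.Agent.QDesc10.Sheaf

/-!
# Values of compatible families on lifts
-/

set_option autoImplicit false
set_option backward.isDefEq.respectTransparency false
set_option backward.isDefEq.respectTransparency.types false
set_option linter.style.haveILetI false

universe v v' w w' t u

open CategoryTheory CategoryTheory.Limits AlgebraicGeometry TopologicalSpace Opposite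

namespace Groth.Agent.QDesc10

open Groth.Agent.AModX

variable {S : Scheme.{u}} {𝒵 : BasedCategory.{v, w} (Over S)} {𝒴 : BasedCategory.{v', w'} (Over S)}

/-- A locally surjective, fully faithful based functor. -/
structure FFHyp (ρ : 𝒵 ⥤ᵇ 𝒴) : Prop where
  loc : LocHyp ρ
  full : ∀ {a b : 𝒵.obj} (ψ : ρ.obj a ⟶ ρ.obj b), ∃ φ : a ⟶ b, ρ.map φ = ψ
  faith : ∀ {a b : 𝒵.obj} (φ φ' : a ⟶ b), ρ.map φ = ρ.map φ' → φ = φ'

variable {ρ : 𝒵 ⥤ᵇ 𝒴} {η : 𝒴.obj}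

/-- The morphism of schemes of a lift. -/
abbrev gm {ξ : 𝒵.obj} (m : ρ.obj ξ ⟶ η) : StMod.sch 𝒵 ξ ⟶ StMod.sch 𝒴 η := (StMod.baseOver ρ ξ m).left

theorem gm_map {ξ' ξ : 𝒵.obj} (a : ξ' ⟶ ξ) (m : ρ.obj ξ ⟶ η) : gm (ρ.map a ≫ m) = StMod.bmap 𝒵 a ≫ gm m :=
  (StMod.bmap_comp_baseOver_left ρ a m).symm

theorem gm_comp {η' : 𝒴.obj} {ξ : 𝒵.obj} (m : ρ.obj ξ ⟶ η) (β : η ⟶ η') :
    gm (m ≫ β) = gm m ≫ StMod.bmap 𝒴 β := by
  rw [gm, StMod.baseOver_comp]; rfl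

theorem gm_id (ξ : 𝒵.obj) : gm (𝟙 (ρ.obj ξ)) = eo ρ ξ := by
  rw [gm, StMod.baseOver, CategoryTheory.Functor.map_id, Category.comp_id]
  exact (Over.eqToHom_left _).trans rfl

variable (ρ η) in
/-- A family of lifts of an object. -/
structure Lifts where
  /-- the index -/
  ι : Type t
  /-- the objects -/
  obj : ι → 𝒵.obj
  /-- the morphisms -/
  hom : ∀ i, ρ.obj (obj i) ⟶ η

/-- The sieve generated by the morphisms of schemes of a family of lifts. -/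
def genSieve (c : Lifts.{v, v', w, w', t} ρ η) : Sieve (𝒴.p.obj η) where
  arrows _ f := ∃ (i : c.ι) (t : _ ⟶ 𝒵.p.obj (c.obj i)), t ≫ StMod.baseOver ρ (c.obj i) (c.hom i) = f
  downward_closed := fun {_ _ _} hf g => by
    obtain ⟨i, t, ht⟩ := hf
    exact ⟨i, g ≫ t, by rw [Category.assoc, ht]⟩

variable {c : Lifts.{v, v', w, w', t} ρ η} {F : StMod.Mod 𝒵} {U : (StMod.sch 𝒴 η).Opens}

variable (c F U) in
/-- The families of sections on the lifts. -/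
abbrev Fam : Type (max t u) := ∀ i : c.ι, Γ(F.obj (c.obj i), gm (c.hom i) ⁻¹ᵁ U)

/-- Compatibility of a family on pairs of refinements. -/
def Compat (s : Fam c F U) : Prop :=
  ∀ (i j : c.ι) (z : 𝒵.obj) (a : z ⟶ c.obj i) (b : z ⟶ c.obj j), ρ.map a ≫ c.hom i = ρ.map b ≫ c.hom j →
    ∀ (O : (StMod.sch 𝒵 z).Opens) (ha : O ≤ StMod.bmap 𝒵 a ⁻¹ᵁ (gm (c.hom i) ⁻¹ᵁ U))
      (hb : O ≤ StMod.bmap 𝒵 b ⁻¹ᵁ (gm (c.hom j) ⁻¹ᵁ U)), tra F a ha (s i) = tra F b hb (s j)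

theorem pre_map {ξ' ξ : 𝒵.obj} (a : ξ' ⟶ ξ) (m : ρ.obj ξ ⟶ η) :
    gm (ρ.map a ≫ m) ⁻¹ᵁ U = StMod.bmap 𝒵 a ⁻¹ᵁ (gm m ⁻¹ᵁ U) := by
  rw [gm_map]; rfl

theorem link_le {ξ : 𝒵.obj} {m : ρ.obj ξ ⟶ η} {z : 𝒵.obj} {a : z ⟶ ξ} {i : c.ι} {b : z ⟶ c.obj i}
    (e : ρ.map a ≫ m = ρ.map b ≫ c.hom i) :
    StMod.bmap 𝒵 a ⁻¹ᵁ (gm m ⁻¹ᵁ U) ≤ StMod.bmap 𝒵 b ⁻¹ᵁ (gm (c.hom i) ⁻¹ᵁ U) := by
  rw [← pre_map, ← pre_map, e]

theorem exists_link (hρ : FFHyp ρ) {ξ z : 𝒵.obj} {m : ρ.obj ξ ⟶ η} {φ : z ⟶ ξ}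
    (h : (genSieve c).pullback (StMod.baseOver ρ ξ m) (𝒵.p.map φ)) :
    ∃ (i : c.ι) (b : z ⟶ c.obj i), ρ.map φ ≫ m = ρ.map b ≫ c.hom i := by
  obtain ⟨i, t, ht⟩ := h
  obtain ⟨ψ, -, hψ⟩ := exists_factor hρ.loc.fy (c.hom i) (ρ.map φ ≫ m)
    (eqToHom (ρ.w_obj z) ≫ t ≫ eqToHom (ρ.w_obj (c.obj i)).symm) (by
      have h2 := congrArg (fun f => eqToHom (ρ.w_obj z) ≫ f) (ht.trans (StMod.map_comp_baseOver ρ φ m))
      simpa [StMod.baseOver] using h2)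
  obtain ⟨b, hb⟩ := hρ.full ψ
  exact ⟨i, b, by rw [hb, hψ]⟩

theorem mem_genSieve {ξ z : 𝒵.obj} {m : ρ.obj ξ ⟶ η} {a : z ⟶ ξ} {i : c.ι} {b : z ⟶ c.obj i}
    (e : ρ.map a ≫ m = ρ.map b ≫ c.hom i) :
    (genSieve c).pullback (StMod.baseOver ρ ξ m) (𝒵.p.map a) :=
  ⟨i, 𝒵.p.map b, by rw [StMod.map_comp_baseOver, StMod.map_comp_baseOver, e]⟩

section

variable (hρ : FFHyp ρ) (hc : F.IsCartesian) (hq : F.IsLocQCoh) {ξ : 𝒵.obj} (m : ρ.obj ξ ⟶ η)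
  (hl : QCov _ ((genSieve c).pullback (StMod.baseOver ρ ξ m)))

include hρ hc hq hl in
theorem ext_value {O : (StMod.sch 𝒵 ξ).Opens} {t t' : Γ(F.obj ξ, O)}
    (H : ∀ (i : c.ι) (z : 𝒵.obj) (a : z ⟶ ξ) (b : z ⟶ c.obj i), ρ.map a ≫ m = ρ.map b ≫ c.hom i →
      tra F a (U' := StMod.bmap 𝒵 a ⁻¹ᵁ O) le_rfl t = tra F a le_rfl t') : t = t' :=
  ext_sec hρ.loc.fx hc hq hl fun z a ha => by
    obtain ⟨i, b, e⟩ := exists_link hρ ha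
    exact H i z a b e

include hρ hc hq hl in
theorem existsUnique_value {s : Fam c F U} (hs : Compat s) :
    ∃! t : Γ(F.obj ξ, gm m ⁻¹ᵁ U), ∀ (i : c.ι) (z : 𝒵.obj) (a : z ⟶ ξ) (b : z ⟶ c.obj i)
      (e : ρ.map a ≫ m = ρ.map b ≫ c.hom i), tra F a le_rfl t = tra F b (link_le e) (s i) := by
  choose i b e using fun (z : 𝒵.obj) (φ : z ⟶ ξ)
    (h : (genSieve c).pullback (StMod.baseOver ρ ξ m) (𝒵.p.map φ)) => exists_link hρ h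
  let y : Mt F ((genSieve c).pullback (StMod.baseOver ρ ξ m)) (gm m ⁻¹ᵁ U) :=
    { val := fun z φ h => tra F (b z φ h) (link_le (e z φ h)) (s (i z φ h))
      compat := fun z' z χ φ hφ hχ le => by
        have k : StMod.bmap 𝒵 (χ ≫ φ) ⁻¹ᵁ (gm m ⁻¹ᵁ U) ≤
            StMod.bmap 𝒵 (χ ≫ b z φ hφ) ⁻¹ᵁ (gm (c.hom (i z φ hφ)) ⁻¹ᵁ U) := by
          rw [StMod.bmap_comp χ (b z φ hφ)]
          exact le.trans ((StMod.bmap 𝒵 χ).preimage_mono (link_le (e z φ hφ)))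
        rw [tra_comp _ _ _ le k]
        refine hs _ _ z' _ _ ?_ _ _ _
        rw [ρ.toFunctor.map_comp, Category.assoc, ← e z φ hφ, ← e z' (χ ≫ φ) hχ, ρ.toFunctor.map_comp,
          Category.assoc] }
  obtain ⟨t, ht⟩ := exists_sec hρ.loc.fx hc hq hl y
  refine ⟨t, fun j z a b' e' => ?_, fun t' ht' => ext_value hρ hc hq m hl fun j z a b' e' => ?_⟩
  · rw [ht a (mem_genSieve e')]
    exact hs _ _ z _ _ ((e z a (mem_genSieve e')).symm.trans e') _ _ _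
  · rw [ht' j z a b' e', ht a (mem_genSieve e')]
    exact (hs _ _ z _ _ ((e z a (mem_genSieve e')).symm.trans e') _ _ _).symm

/-- The value of a compatible family on a lift. -/
noncomputable def value {s : Fam c F U} (hs : Compat s) : Γ(F.obj ξ, gm m ⁻¹ᵁ U) :=
  (existsUnique_value hρ hc hq m hl hs).choose

theorem tra_value {s : Fam c F U} (hs : Compat s) {i : c.ι} {z : 𝒵.obj} (a : z ⟶ ξ) (b : z ⟶ c.obj i)
    (e : ρ.map a ≫ m = ρ.map b ≫ c.hom i) {O : (StMod.sch 𝒵 z).Opens}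
    (hO : O ≤ StMod.bmap 𝒵 a ⁻¹ᵁ (gm m ⁻¹ᵁ U)) :
    tra F a hO (value hρ hc hq m hl hs) = tra F b (hO.trans (link_le e)) (s i) := by
  have h := congrArg (res (F.obj z) hO) ((existsUnique_value hρ hc hq m hl hs).choose_spec.1 i z a b e)
  rwa [res_tra, res_tra] at h

theorem value_unique {s : Fam c F U} (hs : Compat s) {t : Γ(F.obj ξ, gm m ⁻¹ᵁ U)}
    (ht : ∀ (i : c.ι) (z : 𝒵.obj) (a : z ⟶ ξ) (b : z ⟶ c.obj i) (e : ρ.map a ≫ m = ρ.map b ≫ c.hom i),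
      tra F a le_rfl t = tra F b (link_le e) (s i)) : t = value hρ hc hq m hl hs :=
  (existsUnique_value hρ hc hq m hl hs).choose_spec.2 t ht

end

end Groth.Agent.QDesc10
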